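import Mathlib
import Cfsg.Agent.Lib.Helper10.BR0
import Cfsg.Prelude.Def_Perm

set_option autoImplicit false
set_option linter.unusedSectionVars false
set_option linter.unusedVariables false

namespace Cfsg.Agent.Lib.Helper10.BR

open Cfsg
open Cfsg.Agent.Lib.Helper83 (trivIrr)
open scoped ComplexConjugate

section T

variable {G : Type*} [Group G] [Fintype G] {p e t : ℕ} {P : Subgroup G} {ε : ℤ} {x₀ : ℕ}
  {A B Y D : Finset (IrrCharacter G)}

/-- BR-N6 -/
theorem e_eq_two_of (h : Tab G p e t P ε x₀ A B Y D) (τ : G)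
    (hτ : τ ∈ Subgroup.normalizer (P : Set G)) (hτ2 : orderOf τ = 2)
    (hz : Nat.card (Subgroup.centralizer ({τ} : Set G)) = p - 1)
    (hE : Nat.card (Subgroup.normalizer (P : Set G) ⊓ Subgroup.centralizer ({τ} : Set G) :
        Subgroup G) = e ∧
      (∀ σ ∈ Subgroup.normalizer (P : Set G) ⊓ Subgroup.centralizer ({τ} : Set G),
        orderOf σ = 2 → σ = τ))
    (hcount : Nat.card {q : G × G // IsConj τ q.1 ∧ IsConj τ q.2 ∧ q.1 * q.2 = τ} =
      p - 1 - e) :
    e = 2 ∧ ∀ g ∈ Subgroup.centralizer ({τ} : Set G), g ≠ 1 → IsConj τ g := by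
  classical
  have hττ : τ * τ = 1 := by
    rw [← pow_two, ← hτ2]
    exact pow_orderOf_eq_one τ
  have hτ1 : τ ≠ 1 := by
    rintro rfl
    rw [orderOf_one] at hτ2
    omega
  obtain ⟨hEcard, hEinv⟩ := hE
  have het := h.het
  have ht := h.ht
  have he := h.he
  generalize hZ : Subgroup.centralizer ({τ} : Set G) = Z at hz hEcard hEinv ⊢
  generalize hEdef : Subgroup.normalizer (P : Set G) ⊓ Z = E at hEcard hEinv
  have hEZ : E ≤ Z := by
    rw [← hEdef]
    exact inf_le_right
  have memZ : ∀ g : G, g ∈ Z ↔ τ * g = g * τ := by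
    intro g
    rw [← hZ, Subgroup.mem_centralizer_iff]
    simp
  have hτZ : τ ∈ Z := (memZ τ).mpr rfl
  have hτE : τ ∈ E := by
    rw [← hEdef]
    exact ⟨hτ, hτZ⟩
  -- conjugates of τ are involutions
  have hconj_inv : ∀ g, IsConj τ g → g * g = 1 ∧ g ≠ 1 := by
    intro g hg
    obtain ⟨c, hc⟩ := isConj_iff.mp hg
    subst hc
    refine ⟨?_, ?_⟩
    · have e1 : c * τ * c⁻¹ * (c * τ * c⁻¹) = c * (τ * τ) * c⁻¹ := by group
      rw [e1, hττ]
      group
    · intro h1
      apply hτ1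
      have e1 : τ = c⁻¹ * (c * τ * c⁻¹) * c := by group
      rw [e1, h1]
      group
  -- Step 1: every element of `Z \ E` is conjugate to `τ`
  have hstep1 : ∀ g ∈ Z, g ∉ E → IsConj τ g := by
    have hmap : ∀ q : {q : G × G // IsConj τ q.1 ∧ IsConj τ q.2 ∧ q.1 * q.2 = τ},
        q.1.1 ∈ (Z : Set G) \ (E : Set G) := by
      rintro ⟨⟨q1, q2⟩, h1, h2, h3⟩
      obtain ⟨h1a, h1b⟩ := hconj_inv q1 h1
      obtain ⟨h2a, h2b⟩ := hconj_inv q2 h2
      have h3' : q1 * q2 = τ := h3
      have hq2 : q2 = q1 * τ := by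
        have e1 : q2 = q1 * q1 * q2 := by rw [h1a, one_mul]
        rw [e1, mul_assoc, h3']
      refine ⟨?_, ?_⟩
      · show q1 ∈ Z
        rw [memZ]
        have h4 : q1 * τ * (q1 * τ) = 1 := by
          rw [← hq2]
          exact h2a
        calc τ * q1 = (q1 * q1) * (τ * q1) * (τ * τ) := by rw [h1a, hττ]; group
          _ = q1 * (q1 * τ * (q1 * τ)) * τ := by group
          _ = q1 * τ := by rw [h4]; group
      · intro hq1E
        have hord : orderOf q1 = 2 := orderOf_eq_prime (by rw [pow_two]; exact h1a) h1b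
        have e2 := hEinv q1 hq1E hord
        apply h2b
        rw [hq2, e2, hττ]
    let f : {q : G × G // IsConj τ q.1 ∧ IsConj τ q.2 ∧ q.1 * q.2 = τ} →
        ↥((Z : Set G) \ (E : Set G)) := fun q => ⟨q.1.1, hmap q⟩
    have hinj : Function.Injective f := by
      rintro ⟨⟨q1, q2⟩, h1, h2, h3⟩ ⟨⟨q1', q2'⟩, h1', h2', h3'⟩ heq
      have e1 : q1 = q1' := congrArg Subtype.val heq
      subst e1
      have e2 : q2 = q2' := by
        have e3 : q1 * q2 = q1 * q2' := by
          have a1 : q1 * q2 = τ := h3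
          have a2 : q1 * q2' = τ := h3'
          rw [a1, a2]
        exact mul_left_cancel e3
      subst e2
      rfl
    have hcard : Nat.card ↥((Z : Set G) \ (E : Set G)) = p - 1 - e := by
      rw [Nat.card_coe_set_eq, Set.ncard_sdiff hEZ, ← Nat.card_coe_set_eq,
        ← Nat.card_coe_set_eq]
      show Nat.card Z - Nat.card E = p - 1 - e
      rw [hz, hEcard]
    have hbij : Function.Bijective f :=
      hinj.bijective_of_nat_card_le (by rw [hcard, hcount])
    intro g hgZ hgE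
    obtain ⟨q, hq⟩ := hbij.2 ⟨g, hgZ, hgE⟩
    have e1 : q.1.1 = g := congrArg Subtype.val hq
    rw [← e1]
    exact q.2.1
  -- Step 2: inversion
  have hsq : ∀ g ∈ Z, g ∉ E → g * g = 1 := fun g hg hgE => (hconj_inv g (hstep1 g hg hgE)).1
  have hinvert : ∀ g ∈ Z, g ∉ E → ∀ x ∈ E, g * x * g⁻¹ = x⁻¹ := by
    intro g hg hgE x hx
    have hgx : g * x ∈ Z := Z.mul_mem hg (hEZ hx)
    have hgxE : g * x ∉ E := by
      intro hc
      apply hgE
      have e1 : g = g * x * x⁻¹ := by group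
      rw [e1]
      exact E.mul_mem hc (E.inv_mem hx)
    have h1 := hsq g hg hgE
    have h2 := hsq (g * x) hgx hgxE
    have hginv : g⁻¹ = g := inv_eq_of_mul_eq_one_left h1
    rw [hginv]
    exact eq_inv_of_mul_eq_one_left (by rw [← h2]; group)
  have hcardZ : Nat.card Z = e * t := by rw [hz, het]
  obtain ⟨g1, hg1Z, hg1E⟩ : ∃ g ∈ Z, g ∉ E := by
    by_contra hall
    push Not at hall
    have hZE : Z = E := le_antisymm (fun g hg => hall g hg) hEZ
    have e1 : Nat.card Z = Nat.card E := congrArg (fun K : Subgroup G => Nat.card K) hZE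
    rw [hcardZ, hEcard] at e1
    nlinarith
  obtain ⟨g2, hg2Z, hg2E, hg12E⟩ : ∃ g ∈ Z, g ∉ E ∧ g1 * g ∉ E := by
    have hfin : ((E : Set G) ∪ (fun x => g1⁻¹ * x) '' (E : Set G)).ncard
        < (Z : Set G).ncard := by
      calc ((E : Set G) ∪ (fun x => g1⁻¹ * x) '' (E : Set G)).ncard
          ≤ (E : Set G).ncard + ((fun x => g1⁻¹ * x) '' (E : Set G)).ncard :=
            Set.ncard_union_le _ _
        _ ≤ (E : Set G).ncard + (E : Set G).ncard :=
            Nat.add_le_add_left (Set.ncard_image_le) _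
        _ = e + e := by
            rw [← Nat.card_coe_set_eq]
            show Nat.card E + Nat.card E = _
            rw [hEcard]
        _ < e * t := by nlinarith
        _ = (Z : Set G).ncard := by
            rw [← Nat.card_coe_set_eq]
            exact hcardZ.symm
    obtain ⟨g, hgZ, hgn⟩ := Set.exists_mem_notMem_of_ncard_lt_ncard hfin
    exact ⟨g, hgZ, fun hc => hgn (Or.inl hc),
      fun hc => hgn (Or.inr ⟨g1 * g, hc, by group⟩)⟩
  have hg12Z : g1 * g2 ∈ Z := Z.mul_mem hg1Z hg2Z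
  have hEsq : ∀ x ∈ E, x * x = 1 := by
    intro x hx
    have h1 := hinvert (g1 * g2) hg12Z hg12E x hx
    have h2 := hinvert g2 hg2Z hg2E x hx
    have h3 := hinvert g1 hg1Z hg1E x⁻¹ (E.inv_mem hx)
    have h4 : g1 * g2 * x * (g1 * g2)⁻¹ = x := by
      have e1 : g1 * g2 * x * (g1 * g2)⁻¹ = g1 * (g2 * x * g2⁻¹) * g1⁻¹ := by group
      rw [e1, h2, h3, inv_inv]
    rw [h4] at h1
    calc x * x = x * x⁻¹ := by nth_rewrite 2 [h1]; rfl
      _ = 1 := mul_inv_cancel x
  have hEmem : ∀ x ∈ E, x = 1 ∨ x = τ := by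
    intro x hx
    by_cases hx1 : x = 1
    · exact Or.inl hx1
    · right
      exact hEinv x hx (orderOf_eq_prime (by rw [pow_two]; exact hEsq x hx) hx1)
  have he2 : e = 2 := by
    rw [← hEcard, Nat.card_eq_two_iff]
    refine ⟨1, ⟨τ, hτE⟩, ?_, ?_⟩
    · intro h1
      exact hτ1 (congrArg Subtype.val h1).symm
    · ext ⟨x, hx⟩
      simp only [Set.mem_insert_iff, Set.mem_singleton_iff, Set.mem_univ, iff_true]
      rcases hEmem x hx with h1 | h1
      · left
        exact Subtype.ext h1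
      · right
        exact Subtype.ext h1
  refine ⟨he2, ?_⟩
  intro g hg hg1
  by_cases hgE : g ∈ E
  · rcases hEmem g hgE with h1 | h1
    · exact absurd h1 hg1
    · rw [h1]
  · exact hstep1 g hg hgE

end T

end Cfsg.Agent.Lib.Helper10.BR
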