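import Mathlib

/-! S2080 (helper38, Out(Fi23) = 1), PIECE A: abstract chain step for automorphisms of a group
with a homomorphism `φ : G →* Equiv.Perm ℕ` and an element `z` whose centraliser is the
stabiliser of the point `0`. -/

set_option autoImplicit false

namespace Cfsg.Agent.Lib.Helper88.OutA

section

variable {G : Type} [Group G] (φ : G →* Equiv.Perm ℕ) (z : G)

/-- `k` commutes with the conjugate `g z g⁻¹` iff it fixes its point. -/
theorem comm_iff_fix (hst : ∀ g : G, φ g 0 = 0 ↔ g * z = z * g) (g k : G) :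
    k * (g * z * g⁻¹) = (g * z * g⁻¹) * k ↔ φ k (φ g 0) = φ g 0 := by
  have h1 : φ (g⁻¹ * k * g) 0 = 0 ↔ φ k (φ g 0) = φ g 0 := by
    rw [map_mul, map_mul, Equiv.Perm.mul_apply, Equiv.Perm.mul_apply, map_inv,
      Equiv.Perm.inv_eq_iff_eq]
  rw [← h1, hst]
  constructor
  · intro h
    calc g⁻¹ * k * g * z = g⁻¹ * (k * (g * z * g⁻¹)) * g := by group
      _ = g⁻¹ * ((g * z * g⁻¹) * k) * g := by rw [h]
      _ = z * (g⁻¹ * k * g) := by group
  · intro h
    calc k * (g * z * g⁻¹) = g * (g⁻¹ * k * g * z) * g⁻¹ := by group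
      _ = g * (z * (g⁻¹ * k * g)) * g⁻¹ := by rw [h]
      _ = g * z * g⁻¹ * k := by group

/-- two conjugates of `z` are equal iff they have the same point -/
theorem conj_eq_iff (hst : ∀ g : G, φ g 0 = 0 ↔ g * z = z * g) (g g' : G) :
    g * z * g⁻¹ = g' * z * g'⁻¹ ↔ φ g 0 = φ g' 0 := by
  have h1 : φ (g'⁻¹ * g) 0 = 0 ↔ φ g 0 = φ g' 0 := by
    rw [map_mul, Equiv.Perm.mul_apply, map_inv, Equiv.Perm.inv_eq_iff_eq]
  rw [← h1, hst]
  constructor
  · intro h
    calc g'⁻¹ * g * z = g'⁻¹ * (g * z * g⁻¹) * g := by group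
      _ = g'⁻¹ * (g' * z * g'⁻¹) * g := by rw [h]
      _ = z * (g'⁻¹ * g) := by group
  · intro h
    calc g * z * g⁻¹ = g' * (g'⁻¹ * g * z) * g⁻¹ := by group
      _ = g' * (z * (g'⁻¹ * g)) * g⁻¹ := by rw [h]
      _ = g' * z * g'⁻¹ := by group

/-- One step of the chain. -/
theorem step (hst : ∀ g : G, φ g 0 = 0 ↔ g * z = z * g)
    (α : G ≃* G) (hα : ∃ g0 : G, α z = g0 * z * g0⁻¹)
    (P : List G) (A gA : G) (hAeq : A = gA * z * gA⁻¹) (hA : A ∉ P)
    (hcert : ∀ g : G, (∀ p ∈ P, g * z * g⁻¹ ≠ p ∧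
        (φ p (φ g 0) = φ g 0 ↔ φ p (φ gA 0) = φ gA 0)) →
        ∃ w : G, (∀ p ∈ P, w * p = p * w) ∧ φ w (φ g 0) = φ gA 0)
    (h : ∃ u : G, ∀ p ∈ P, u * α p * u⁻¹ = p) :
    ∃ u : G, ∀ p ∈ A :: P, u * α p * u⁻¹ = p := by
  obtain ⟨u, hu⟩ := h
  obtain ⟨g0, hg0⟩ := hα
  obtain ⟨g, hgdef⟩ : ∃ g : G, g = u * α gA * g0 := ⟨_, rfl⟩
  have hB : u * α A * u⁻¹ = g * z * g⁻¹ := by
    rw [hAeq, map_mul, map_mul, map_inv, hg0, hgdef]
    group
  have hc := hcert g (fun p hp => by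
    refine ⟨?_, ?_⟩
    · intro heq
      rw [← hB] at heq
      have heq' : u * α A * u⁻¹ = u * α p * u⁻¹ := by rw [heq, hu p hp]
      have h1 : α A = α p := mul_left_cancel (mul_right_cancel heq')
      apply hA
      rw [α.injective h1]
      exact hp
    · rw [← comm_iff_fix φ z hst g p, ← comm_iff_fix φ z hst gA p, ← hB, ← hAeq]
      constructor
      · intro h1
        have h2 : u * α p * u⁻¹ * (u * α A * u⁻¹) = u * α A * u⁻¹ * (u * α p * u⁻¹) := by
          rw [hu p hp]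
          exact h1
        have h3 : α (p * A) = α (A * p) := by
          rw [map_mul, map_mul]
          calc α p * α A = u⁻¹ * (u * α p * u⁻¹ * (u * α A * u⁻¹)) * u := by group
            _ = u⁻¹ * (u * α A * u⁻¹ * (u * α p * u⁻¹)) * u := by rw [h2]
            _ = α A * α p := by group
        exact α.injective h3
      · intro h1
        have h3 : α p * α A = α A * α p := by rw [← map_mul, ← map_mul, h1]
        have h4 : u * α p * u⁻¹ * (u * α A * u⁻¹) = u * α A * u⁻¹ * (u * α p * u⁻¹) := by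
          calc u * α p * u⁻¹ * (u * α A * u⁻¹) = u * (α p * α A) * u⁻¹ := by group
            _ = u * (α A * α p) * u⁻¹ := by rw [h3]
            _ = u * α A * u⁻¹ * (u * α p * u⁻¹) := by group
        rw [hu p hp] at h4
        exact h4)
  obtain ⟨w, hwP, hw⟩ := hc
  refine ⟨w * u, ?_⟩
  intro p hp
  rcases List.mem_cons.1 hp with hpA | hp'
  · have h1 : w * u * α A * (w * u)⁻¹ = (w * g) * z * (w * g)⁻¹ := by
      calc w * u * α A * (w * u)⁻¹ = w * (u * α A * u⁻¹) * w⁻¹ := by group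
        _ = w * (g * z * g⁻¹) * w⁻¹ := by rw [hB]
        _ = (w * g) * z * (w * g)⁻¹ := by group
    rw [hpA, h1]
    have h2 : A = gA * z * gA⁻¹ := hAeq
    rw [h2, conj_eq_iff φ z hst, map_mul, Equiv.Perm.mul_apply]
    exact hw
  · calc w * u * α p * (w * u)⁻¹ = w * (u * α p * u⁻¹) * w⁻¹ := by group
      _ = w * p * w⁻¹ := by rw [hu p hp']
      _ = p := by rw [hwP p hp']; group

end

end Cfsg.Agent.Lib.Helper88.OutA
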