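import Mathlib

set_option autoImplicit false

namespace Cfsg.Agent.Lib.Helper88

section FratA

open scoped Pointwise

/-- The transfer of an element all of whose conjugates lie in `H`. -/
theorem transfer_eq_prod_of_normal {G : Type*} [Group G] {B : Type*} [CommGroup B]
    (H : Subgroup G) [H.FiniteIndex] (ϕ : H →* B) (v : G) (hv : ∀ g : G, g⁻¹ * v * g ∈ H)
    [inst : Fintype (G ⧸ H)] :
    MonoidHom.transfer ϕ v = ∏ q : G ⧸ H, ϕ ⟨q.out⁻¹ * v * q.out, hv _⟩ := by
  classical
  have hi : inst = H.fintypeQuotientOfFiniteIndex := Subsingleton.elim _ _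
  subst hi
  let T : H.LeftTransversal := ⟨Set.range (Quotient.out : G ⧸ H → G),
    Subgroup.isComplement_range_left (fun q => q.out_eq')⟩
  rw [MonoidHom.transfer_def ϕ T v]
  unfold Subgroup.leftTransversals.diff
  refine Finset.prod_congr rfl fun q _ => ?_
  congr 1
  apply Subtype.ext
  have hT : ∀ q : G ⧸ H, ((T.2.leftQuotientEquiv q : G)) = q.out :=
    fun q => Subgroup.IsComplement.leftQuotientEquiv_apply (fun q => q.out_eq') q
  have hq : v⁻¹ • q = q := by
    induction q using QuotientGroup.induction_on with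
    | H g =>
      show ((v⁻¹ * g : G) : G ⧸ H) = (g : G ⧸ H)
      rw [QuotientGroup.eq]
      have := hv g
      have h2 : (v⁻¹ * g)⁻¹ * g = g⁻¹ * v * g := by group
      rw [h2]; exact this
  show ((T.2.leftQuotientEquiv q : G))⁻¹ * ((v • T).2.leftQuotientEquiv q : G) = _
  rw [Subgroup.smul_apply_eq_smul_apply_inv_smul, hq, hT]
  simp [mul_assoc]

/-- The orbit-transfer lemma. -/
theorem prod_orbit_eq_one {G X B : Type*} [Group G] [Finite G] [MulAction G X] [Fintype X]
    [CommGroup B] (V : Subgroup G) (hVn : ∀ g : G, ∀ v ∈ V, g⁻¹ * v * g ∈ V)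
    (hVt : ∀ v ∈ V, ∀ x : X, v • x = x) (D : X → G → B)
    (hequiv : ∀ (g : G) (x : X), ∀ v ∈ V, D (g • x) v = D x (g⁻¹ * v * g))
    (hθ : ∀ x : X, ∃ θ : MulAction.stabilizer G x →* B,
      ∀ v : MulAction.stabilizer G x, (v : G) ∈ V → θ v = D x v)
    (hkill : ∀ Θ : G →* B, ∀ v ∈ V, Θ v = 1) :
    ∀ v ∈ V, ∏ x, D x v = 1 := by
  classical
  intro v hv
  have : Fintype (MulAction.orbitRel.Quotient G X) := Fintype.ofFinite _
  have : ∀ ω : MulAction.orbitRel.Quotient G X,
      Fintype (G ⧸ MulAction.stabilizer G ω.out) := fun _ => Fintype.ofFinite _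
  rw [← (MulAction.selfEquivSigmaOrbitsQuotientStabilizer G X).symm.prod_comp]
  rw [Fintype.prod_sigma]
  refine Finset.prod_eq_one fun ω _ => ?_
  obtain ⟨θ, hθx⟩ := hθ ω.out
  have hstab : ∀ g : G, g⁻¹ * v * g ∈ MulAction.stabilizer G ω.out := fun g => by
    rw [MulAction.mem_stabilizer_iff]; exact hVt _ (hVn g v hv) _
  have h1 := transfer_eq_prod_of_normal (MulAction.stabilizer G ω.out) θ v hstab
  rw [hkill _ v hv] at h1
  rw [h1]
  refine Finset.prod_congr rfl fun q _ => ?_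
  have h2 : (MulAction.selfEquivSigmaOrbitsQuotientStabilizer G X).symm ⟨ω, q⟩ = q.out • ω.out := by
    have h3 : ((MulAction.orbitEquivQuotientStabilizer G ω.out).symm q : X) = q.out • ω.out := by
      conv_lhs => rw [← q.out_eq']
      exact MulAction.orbitEquivQuotientStabilizer_symm_apply (G := G) ω.out q.out
    rw [← h3]
    rfl
  rw [h2, hequiv _ _ v hv, hθx ⟨_, hstab _⟩ (hVn _ v hv)]

theorem card_mult_zmod (p : ℕ) [Fact p.Prime] : Nat.card (Multiplicative (ZMod p)) = p := by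
  rw [Nat.card_congr Multiplicative.toAdd, Nat.card_zmod]

/-- A homomorphism to a group of order `p` kills the Frattini subgroup. -/
theorem hom_zmod_kills_frattini {G : Type*} [Group G] {p : ℕ} [Fact p.Prime]
    (Θ : G →* Multiplicative (ZMod p)) {g : G} (hg : g ∈ frattini G) : Θ g = 1 := by
  have hcard := card_mult_zmod p
  have : Fact (Nat.card (Multiplicative (ZMod p))).Prime := by rw [hcard]; infer_instance
  by_cases hΘ : Θ.range = ⊥
  · have h1 : Θ g ∈ Θ.range := ⟨g, rfl⟩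
    rw [hΘ] at h1
    exact Subgroup.mem_bot.mp h1
  · have htop : Θ.range = ⊤ := (Subgroup.eq_bot_or_eq_top_of_prime_card _).resolve_left hΘ
    have hsurj : Function.Surjective Θ := MonoidHom.range_eq_top.mp htop
    have h1 := frattini_le_comap_frattini_of_surjective hsurj hg
    have hco : IsCoatom (⊥ : Subgroup (Multiplicative (ZMod p))) := by
      refine ⟨?_, fun b hb => ?_⟩
      · intro h
        rw [h] at hΘ
        exact hΘ htop
      · exact (Subgroup.eq_bot_or_eq_top_of_prime_card b).resolve_left hb.ne'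
    have h2 := frattini_le_coatom hco h1
    exact Subgroup.mem_bot.mp h2

theorem pow_p_mult_zmod (p : ℕ) [Fact p.Prime] (c : Multiplicative (ZMod p)) : c ^ p = 1 := by
  have h := pow_card_eq_one' (G := Multiplicative (ZMod p)) (x := c)
  rwa [card_mult_zmod] at h

/-- A nontrivial finite `p`-group has a nontrivial homomorphism to a group of order `p`. -/
theorem exists_hom_zmod_ne_one {Y : Type*} [Group Y] [Finite Y] {p : ℕ} [hp : Fact p.Prime]
    (hY : IsPGroup p Y) (hnt : Nontrivial Y) :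
    ∃ φ : Y →* Multiplicative (ZMod p), φ ≠ 1 := by
  obtain ⟨n, hn⟩ := IsPGroup.iff_card.mp hY
  have hn0 : n ≠ 0 := by
    rintro rfl
    rw [pow_zero] at hn
    have := Finite.one_lt_card_iff_nontrivial.mpr hnt
    omega
  obtain ⟨m, rfl⟩ := Nat.exists_eq_succ_of_ne_zero hn0
  obtain ⟨M, hM⟩ := Sylow.exists_subgroup_card_pow_prime (G := Y) p (n := m)
    (by rw [hn]; exact pow_dvd_pow p (Nat.le_succ m))
  have hidx : M.index = p := by
    have h1 := M.card_mul_index
    rw [hM, hn, pow_succ] at h1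
    exact Nat.eq_of_mul_eq_mul_left (pow_pos hp.out.pos m) h1
  have hnorm : M.Normal := by
    apply Subgroup.normal_of_index_eq_minFac_card
    rw [hidx, hn, Nat.Prime.pow_minFac hp.out (Nat.succ_ne_zero m)]
  have hq : Nat.card (Y ⧸ M) = p := by rw [← Subgroup.index_eq_card, hidx]
  let e : Y ⧸ M ≃* Multiplicative (ZMod p) := mulEquivOfPrimeCardEq hq (card_mult_zmod p)
  refine ⟨e.toMonoidHom.comp (QuotientGroup.mk' M), fun h => ?_⟩
  have hsurj : Function.Surjective (e.toMonoidHom.comp (QuotientGroup.mk' M)) :=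
    e.surjective.comp (QuotientGroup.mk'_surjective M)
  rw [h] at hsurj
  have hnt' : Nontrivial (Multiplicative (ZMod p)) := by
    rw [← Finite.one_lt_card_iff_nontrivial, card_mult_zmod]
    exact hp.out.one_lt
  obtain ⟨c, hc⟩ := exists_ne (1 : Multiplicative (ZMod p))
  obtain ⟨y, hy⟩ := hsurj c
  exact hc hy.symm

/-- A nontrivial normal subgroup of a finite `p`-group has a nontrivial invariant homomorphism
to a group of order `p`. -/
theorem exists_invariant_hom {Ω : Type*} [Group Ω] {S Y : Subgroup Ω} [Finite S] {p : ℕ}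
    [hp : Fact p.Prime] (hS : IsPGroup p S) (hYS : Y ≤ S)
    (hYn : ∀ s ∈ S, ∀ y ∈ Y, s * y * s⁻¹ ∈ Y) (hY : Y ≠ ⊥) :
    ∃ lam : Ω → Multiplicative (ZMod p), (∀ x ∈ Y, ∀ y ∈ Y, lam (x * y) = lam x * lam y) ∧
      (∀ s ∈ S, ∀ y ∈ Y, lam (s * y * s⁻¹) = lam y) ∧ ∃ y ∈ Y, lam y ≠ 1 := by
  classical
  have hfinY : Finite Y := Finite.of_injective (Subgroup.inclusion hYS) (Subgroup.inclusion_injective hYS)
  have hYp : IsPGroup p Y := hS.to_le hYS
  have hnt : Nontrivial Y := (Subgroup.nontrivial_iff_ne_bot Y).mpr hY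
  obtain ⟨φ₀, hφ₀⟩ := exists_hom_zmod_ne_one hYp hnt
  have hfinX : Finite (↥Y →* Multiplicative (ZMod p)) :=
    Finite.of_injective (fun f => (f : ↥Y → Multiplicative (ZMod p))) DFunLike.coe_injective
  have hXp : IsPGroup p (↥Y →* Multiplicative (ZMod p)) := by
    intro φ
    refine ⟨1, ?_⟩
    ext y
    rw [pow_one, MonoidHom.pow_apply, pow_p_mult_zmod]
    rfl
  have hdvd : p ∣ Nat.card (↥Y →* Multiplicative (ZMod p)) := by
    refine hXp.card_eq_or_dvd.resolve_left fun h1 => ?_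
    have := Nat.card_eq_one_iff_unique.mp h1
    exact hφ₀ (this.1.elim _ _)
  let cj : ↥S → (↥Y →* ↥Y) := fun s =>
    { toFun := fun y => ⟨s * y * s⁻¹, hYn s s.2 y y.2⟩
      map_one' := by ext; simp
      map_mul' := by intro a b; ext; simp }
  let act : MulAction ↥S (↥Y →* Multiplicative (ZMod p)) :=
    { smul := fun s φ => φ.comp (cj s⁻¹)
      one_smul := by
        intro φ; ext y
        show φ (cj 1⁻¹ y) = φ y
        congr 1; ext; simp [cj]
      mul_smul := by
        intro s t φ; ext y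
        show φ (cj (s * t)⁻¹ y) = φ (cj t⁻¹ (cj s⁻¹ y))
        congr 1; ext; simp [cj, mul_assoc] }
  have hfix1 : (1 : ↥Y →* Multiplicative (ZMod p)) ∈
      MulAction.fixedPoints ↥S (↥Y →* Multiplicative (ZMod p)) := by
    intro s
    ext y
    rfl
  obtain ⟨φ, hφfix, hφ1⟩ := hS.exists_fixed_point_of_prime_dvd_card_of_fixed_point
    (↥Y →* Multiplicative (ZMod p)) hdvd hfix1
  refine ⟨fun x => if h : x ∈ Y then φ ⟨x, h⟩ else 1, ?_, ?_, ?_⟩
  · intro x hx y hy
    simp only [hx, hy, Y.mul_mem hx hy, dif_pos]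
    rw [← map_mul]
    rfl
  · intro s hs y hy
    simp only [hy, hYn s hs y hy, dif_pos]
    have h1 := hφfix ⟨s, hs⟩⁻¹
    have h2 := DFunLike.congr_fun h1 ⟨y, hy⟩
    rw [← h2]
    show φ _ = φ (cj (⟨s, hs⟩⁻¹)⁻¹ ⟨y, hy⟩)
    congr 1
    ext
    simp [cj]
  · by_contra hcon
    push Not at hcon
    apply hφ1
    ext y
    have := hcon y y.2
    simp only [y.2, dif_pos] at this
    exact this.symm

theorem frat_mem_of_pow_coprime {G : Type*} [Group G] (N : Subgroup G) {a : G} {m q : ℕ}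
    (hc : Nat.Coprime m q) (hm : a ^ m ∈ N) (hq : a ^ q ∈ N) : a ∈ N := by
  have hz : (1 : ℤ) = (m : ℤ) * Nat.gcdA m q + (q : ℤ) * Nat.gcdB m q := by
    have h1 := Nat.gcd_eq_gcd_ab m q
    rw [hc.gcd_eq_one] at h1
    exact_mod_cast h1
  have h1 : a = (a ^ m) ^ (Nat.gcdA m q) * (a ^ q) ^ (Nat.gcdB m q) := by
    rw [← zpow_natCast a m, ← zpow_natCast a q, ← zpow_mul, ← zpow_mul, ← zpow_add, ← hz,
      zpow_one]
  rw [h1]
  exact N.mul_mem (N.zpow_mem hm _) (N.zpow_mem hq _)

theorem eq_one_of_pow_coprime {G : Type*} [Group G] {a : G} {m q : ℕ}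
    (hc : Nat.Coprime m q) (hm : a ^ m = 1) (hq : a ^ q = 1) : a = 1 := by
  have := frat_mem_of_pow_coprime (⊥ : Subgroup G) hc (by rw [hm]; exact Subgroup.one_mem _)
    (by rw [hq]; exact Subgroup.one_mem _)
  exact Subgroup.mem_bot.mp this

/-- Lifting an element of order prime to `p` along a surjection of finite groups. -/
theorem exists_pprime_lift {G H : Type*} [Group G] [Group H] [Finite G] {p : ℕ}
    [hp : Fact p.Prime] (π : G →* H) (hπ : Function.Surjective π) (k : H)
    (hk : (orderOf k).Coprime p) : ∃ a : G, π a = k ∧ (orderOf a).Coprime p := by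
  obtain ⟨a₀, ha₀⟩ := hπ k
  have h0 : orderOf a₀ ≠ 0 := (orderOf_pos a₀).ne'
  obtain ⟨j, m, hm, hjm⟩ := Nat.exists_eq_pow_mul_and_not_dvd h0 p hp.out.ne_one
  have hcop : (p ^ j).Coprime (orderOf k) := Nat.Coprime.pow_left j hk.symm
  obtain ⟨u, hu⟩ := exists_pow_eq_self_of_coprime hcop
  refine ⟨(a₀ ^ p ^ j) ^ u, ?_, ?_⟩
  · rw [map_pow, map_pow, ha₀, hu]
  · have h1 : ((a₀ ^ p ^ j) ^ u) ^ m = 1 := by
      rw [← pow_mul, ← pow_mul, mul_left_comm, ← hjm, mul_comm, pow_mul, pow_orderOf_eq_one,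
        one_pow]
    have h2 : orderOf ((a₀ ^ p ^ j) ^ u) ∣ m := orderOf_dvd_of_pow_eq_one h1
    exact Nat.Coprime.coprime_dvd_left h2
      (Nat.Coprime.symm ((Nat.Prime.coprime_iff_not_dvd hp.out).mpr hm))

end FratA

end Cfsg.Agent.Lib.Helper88
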