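import Mathlib

set_option autoImplicit false

namespace Cfsg.Agent.Lib.Helper88.J3OGEN

theorem exists_subgroup_of_gen_table {G : Type*} [Group G] [Finite G] (n m : ℕ) (f s : ℕ → G)
    (ρ : ℕ → ℕ)
    (hstep : ∀ k < n, ∀ j < m, ∃ k' < n, f k * s j = f k')
    (htree : ∀ k < n, f k = 1 ∨ ∃ k' < n, ρ k' < ρ k ∧ ∃ j < m, f k = f k' * s j)
    (hone : ∃ k < n, f k = 1)
    (hinj : ∀ i < n, ∀ j < n, f i = f j → i = j) :
    ∃ S : Subgroup G, (∀ g, g ∈ S ↔ ∃ i < n, f i = g) ∧ Nat.card S = n := by
  classical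
  set S : Subgroup G := Subgroup.closure {g | ∃ j < m, s j = g} with hS
  -- T ⊆ S
  have hTS : ∀ r : ℕ, ∀ k < n, ρ k = r → f k ∈ S := by
    intro r
    induction r using Nat.strong_induction_on with
    | _ r ih =>
      intro k hk hr
      rcases htree k hk with h1 | ⟨k', hk', hlt, j, hj, hfk⟩
      · rw [h1]; exact S.one_mem
      · rw [hfk]
        refine S.mul_mem (ih (ρ k') (hr ▸ hlt) k' hk' rfl) ?_
        exact Subgroup.subset_closure ⟨j, hj, rfl⟩
  -- the stabiliser submonoid
  let M : Subgroup G :=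
    { carrier := {g | ∀ k < n, ∃ k' < n, f k * g = f k'}
      one_mem' := fun k hk => ⟨k, hk, mul_one _⟩
      mul_mem' := by
        intro a b ha hb k hk
        obtain ⟨k1, hk1, h1⟩ := ha k hk
        obtain ⟨k2, hk2, h2⟩ := hb k1 hk1
        exact ⟨k2, hk2, by rw [← mul_assoc, h1, h2]⟩
      inv_mem' := by
        intro a ha
        have hpow : ∀ e : ℕ, ∀ k < n, ∃ k' < n, f k * a ^ e = f k' := by
          intro e
          induction e with
          | zero => intro k hk; exact ⟨k, hk, by simp⟩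
          | succ e ih =>
            intro k hk
            obtain ⟨k1, hk1, h1⟩ := ih k hk
            obtain ⟨k2, hk2, h2⟩ := ha k1 hk1
            exact ⟨k2, hk2, by rw [pow_succ, ← mul_assoc, h1, h2]⟩
        have hinv : a⁻¹ = a ^ (orderOf a - 1) := by
          have hpos : 0 < orderOf a := orderOf_pos a
          have : a ^ (orderOf a - 1) * a = 1 := by
            rw [← pow_succ, Nat.sub_add_cancel hpos, pow_orderOf_eq_one]
          exact (eq_inv_of_mul_eq_one_left this).symm
        show ∀ k < n, ∃ k' < n, f k * a⁻¹ = f k'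
        rw [hinv]
        exact hpow _ }
  have hSM : S ≤ M := by
    rw [hS, Subgroup.closure_le]
    rintro g ⟨j, hj, rfl⟩
    exact fun k hk => hstep k hk j hj
  have hmem : ∀ g, g ∈ S ↔ ∃ i < n, f i = g := by
    intro g
    constructor
    · intro hg
      obtain ⟨k0, hk0, h0⟩ := hone
      obtain ⟨k', hk', h'⟩ := hSM hg k0 hk0
      exact ⟨k', hk', by rw [← h', h0, one_mul]⟩
    · rintro ⟨i, hi, rfl⟩
      exact hTS (ρ i) i hi rfl
  refine ⟨S, hmem, ?_⟩
  have hset : (S : Set G) = f '' (Finset.range n : Set ℕ) := by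
    ext g
    simp only [SetLike.mem_coe, hmem, Set.mem_image, Finset.coe_range, Set.mem_Iio]
  have hc : Nat.card S = Set.ncard (S : Set G) := (Nat.card_coe_set_eq _)
  rw [hc, hset, Set.InjOn.ncard_image]
  · rw [Set.ncard_coe_finset, Finset.card_range]
  · intro i hi j hj hij
    simp only [Finset.coe_range, Set.mem_Iio] at hi hj
    exact hinj i hi j hj hij
end Cfsg.Agent.Lib.Helper88.J3OGEN
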