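import Mathlib

set_option autoImplicit false

namespace Cfsg.Agent.Lib.Helper88.J3OSYL

theorem exists_conj_mem_of_orderOf_prime {J : Type*} [Group J] [Finite J] (p : ℕ) [Fact p.Prime]
    (P : Subgroup J) (hP : ¬ p ∣ P.index) (y : J) (hy : orderOf y = p) :
    ∃ g : J, g * y * g⁻¹ ∈ P := by
  classical
  have hpg : IsPGroup p (Subgroup.zpowers y) := by
    apply IsPGroup.of_card (n := 1)
    rw [Nat.card_zpowers, hy, pow_one]
  have hcard : ¬ p ∣ Nat.card (J ⧸ P) := by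
    rwa [← Subgroup.index_eq_card]
  obtain ⟨x, hx⟩ := hpg.nonempty_fixed_point_of_prime_not_dvd_card (J ⧸ P) hcard
  induction x using QuotientGroup.induction_on with
  | H g =>
    refine ⟨g⁻¹, ?_⟩
    have h1 := hx ⟨y, Subgroup.mem_zpowers y⟩
    have h2 : ((y * g : J) : J ⧸ P) = (g : J ⧸ P) := h1
    rw [QuotientGroup.eq] at h2
    have h3 : g⁻¹ * y * g⁻¹⁻¹ = ((y * g)⁻¹ * g)⁻¹ := by group
    rw [h3]
    exact P.inv_mem h2
end Cfsg.Agent.Lib.Helper88.J3OSYL
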