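import Mathlib
import Cfsg.Agent.Lib.Helper48.RCBase

/-! Project RC (helper48, S1152 / S1157), piece BCARD (helper88): `|B| = q³ (q - 1)`. -/

set_option autoImplicit false
set_option linter.unusedSectionVars false

namespace Cfsg.Agent.Lib.Helper48.RC

variable {F : Type*} [Field F] [Finite F] [CharP F 3] {G : Type*} [Group G] [Finite G]
variable {θ : F →+* F} {T : F → F → F → G} {H : Fˣ → G} {w : G}

-- piece RC-BCARD
theorem borel_card (h : Ok0 θ T H w) :
    Nat.card h.Bs = Nat.card F ^ 3 * (Nat.card F - 1) := by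
  classical
  have hH1 : ∀ t : Fˣ, H t ∈ h.Qs → t = 1 := by
    intro t ht
    apply h.H_inj
    apply h.eq_one_of_wuw ht
    rw [h.wH]
    exact h.H_mem _
  have hbij : Function.Bijective (fun p : (F × F × F) × Fˣ =>
      (⟨T p.1.1 p.1.2.1 p.1.2.2 * H p.2, h.TH_mem _ _ _ _⟩ : h.Bs)) := by
    constructor
    · rintro ⟨⟨a, b, c⟩, s⟩ ⟨⟨a', b', c'⟩, s'⟩ hp
      have hp' : T a b c * H s = T a' b' c' * H s' := congrArg Subtype.val hp
      have h1 : (T a' b' c')⁻¹ * T a b c = H (s' * s⁻¹) := by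
        rw [h.H_mul, ← h.H_inv]
        have h0 : T a b c = T a' b' c' * H s' * (H s)⁻¹ := by
          rw [← hp']
          group
        rw [h0]
        group
      have h2 : H (s' * s⁻¹) ∈ h.Qs := by
        rw [← h1]
        exact h.Qs.mul_mem (h.Qs.inv_mem (h.T_mem _ _ _)) (h.T_mem _ _ _)
      have h3 := hH1 _ h2
      have hs : s' = s := by rwa [mul_inv_eq_one] at h3
      subst hs
      have h4 : T a b c = T a' b' c' := mul_right_cancel hp'
      obtain ⟨rfl, rfl, rfl⟩ := h.T_inj _ _ _ _ _ _ h4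
      rfl
    · rintro ⟨g, a, b, c, s, rfl⟩
      exact ⟨⟨⟨a, b, c⟩, s⟩, rfl⟩
  rw [← Nat.card_eq_of_bijective _ hbij, Nat.card_prod, Nat.card_prod, Nat.card_prod,
    Nat.card_units]
  ring

end Cfsg.Agent.Lib.Helper48.RC
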