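import Mathlib
import Cfsg.Agent.Lib.Helper15.BG13CDefs
import Cfsg.Agent.Lib.Helper32.BG12XFrob
import Cfsg.Agent.Lib.Helper58.BGCYC
import Cfsg.Agent.S0026
import Cfsg.Agent.S0027
import Cfsg.Agent.S0055
import Cfsg.Agent.S0056

/-!
# B&G Corollary 13.3(b) (row S1428), piece C-K: the key lemma

`S` a `p`-group, `A` an abelian `p'`-group, `Z` of prime order `r ≠ p` normalizing `A` and
acting freely on it, `A` and `Z` normalize `S`, `C_S(A)` and `C_S(Z)` cyclic, `P` of order `p`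
inside `C_S(A) ∩ C_S(Z)`.  Then `A` centralizes `S`.  (Minimal `AZ`-invariant counterexample.)
-/

set_option autoImplicit false

open scoped commutatorElement

namespace Cfsg.Agent.Lib.Helper15.BG13C

universe u

variable {G : Type u} [Group G] [Finite G]

omit [Finite G] in
theorem kk_comm_of_cyclic (C : Subgroup G) (hC : IsCyclic C) {x y : G} (hx : x ∈ C)
    (hy : y ∈ C) : x * y = y * x := by
  have hcm : IsMulCommutative ↥C := IsCyclic.isMulCommutative
  have h := hcm.is_comm.comm ⟨x, hx⟩ ⟨y, hy⟩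
  exact congrArg Subtype.val h

omit [Finite G] in
theorem kk_comm_le {X N' : Subgroup G} (h : N' ≤ Subgroup.normalizer (X : Set G)) :
    ⁅X, N'⁆ ≤ X := by
  rw [Subgroup.commutator_le]
  intro k hk a ha
  have h1 : a * k⁻¹ * a⁻¹ ∈ X := (Subgroup.mem_normalizer_iff.mp (h ha) _).mp (X.inv_mem hk)
  have e : ⁅k, a⁆ = k * (a * k⁻¹ * a⁻¹) := by rw [commutatorElement_def]; group
  rw [e]
  exact X.mul_mem hk h1

omit [Finite G] in
theorem kk_norm_comm (N' X Y : Subgroup G) (hX : N' ≤ Subgroup.normalizer (X : Set G))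
    (hY : N' ≤ Subgroup.normalizer (Y : Set G)) :
    N' ≤ Subgroup.normalizer ((⁅X, Y⁆ : Subgroup G) : Set G) := by
  intro g hg
  rw [Subgroup.mem_normalizer_iff_map_conj_eq, Subgroup.map_commutator,
    Subgroup.mem_normalizer_iff_map_conj_eq.mp (hX hg),
    Subgroup.mem_normalizer_iff_map_conj_eq.mp (hY hg)]

omit [Finite G] in
theorem kk_norm_of_conj (N' K : Subgroup G) (h : ∀ g ∈ N', ∀ x ∈ K, g * x * g⁻¹ ∈ K) :
    N' ≤ Subgroup.normalizer (K : Set G) := by
  intro g hg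
  rw [Subgroup.mem_normalizer_iff]
  intro x
  constructor
  · exact h g hg x
  · intro hx
    have h1 := h g⁻¹ (N'.inv_mem hg) _ hx
    have e : g⁻¹ * (g * x * g⁻¹) * g⁻¹⁻¹ = x := by group
    rwa [e] at h1

omit [Finite G] in
theorem kk_norm_cent (N' X : Subgroup G) (hX : N' ≤ Subgroup.normalizer (X : Set G)) :
    N' ≤ Subgroup.normalizer ((X ⊓ Subgroup.centralizer (X : Set G) : Subgroup G) : Set G) := by
  apply kk_norm_of_conj
  intro g hg x hx
  refine Subgroup.mem_inf.mpr ⟨(Subgroup.mem_normalizer_iff.mp (hX hg) x).mp hx.1, ?_⟩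
  rw [Subgroup.mem_centralizer_iff]
  intro y hy
  have hy' : g⁻¹ * y * g⁻¹⁻¹ ∈ X :=
    (Subgroup.mem_normalizer_iff.mp (hX (N'.inv_mem hg)) y).mp hy
  have h1 : g⁻¹ * y * g⁻¹⁻¹ * x = x * (g⁻¹ * y * g⁻¹⁻¹) :=
    Subgroup.mem_centralizer_iff.mp hx.2 _ hy'
  calc y * (g * x * g⁻¹) = g * ((g⁻¹ * y * g⁻¹⁻¹) * x) * g⁻¹ := by group
    _ = g * (x * (g⁻¹ * y * g⁻¹⁻¹)) * g⁻¹ := by rw [h1]
    _ = g * x * g⁻¹ * y := by group

omit [Finite G] in
theorem kk_elt (c a s : G) (hca : c * a = a * c)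
    (hda : a * (c * s * c⁻¹ * s⁻¹) = (c * s * c⁻¹ * s⁻¹) * a)
    (hdx : (c * s * c⁻¹ * s⁻¹) * (a * s * a⁻¹ * s⁻¹) =
      (a * s * a⁻¹ * s⁻¹) * (c * s * c⁻¹ * s⁻¹)) :
    c * (a * s * a⁻¹ * s⁻¹) = (a * s * a⁻¹ * s⁻¹) * c := by
  have h' : a⁻¹ * c = c * a⁻¹ := by
    rw [eq_mul_inv_iff_mul_eq, mul_assoc, hca, ← mul_assoc, inv_mul_cancel, one_mul]
  have h : c⁻¹ * a⁻¹ * c = a⁻¹ := by rw [mul_assoc, h', inv_mul_cancel_left]
  have e1 : c * (a * s * a⁻¹ * s⁻¹) = a * c * s * (c⁻¹ * a⁻¹ * c) * s⁻¹ := by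
    rw [h, ← hca]
    group
  have e2 : a * c * s * (c⁻¹ * a⁻¹ * c) * s⁻¹ =
      a * (c * s * c⁻¹ * s⁻¹) * a⁻¹ * (a * s * a⁻¹ * s⁻¹) * (c * s * c⁻¹ * s⁻¹)⁻¹ * c := by
    group
  have e3 : a * (c * s * c⁻¹ * s⁻¹) * a⁻¹ = c * s * c⁻¹ * s⁻¹ := mul_inv_eq_iff_eq_mul.mpr hda
  rw [e1, e2, e3, hdx]
  group

omit [Finite G] in
/-- an element of `X` commuting with `N'` centralizes `⁅N', X⁆`, if `⁅X, X⁆` is central in `X`
and centralized by `N'` -/
theorem kk_cent_comm (X N' : Subgroup G) (hN'X : N' ≤ Subgroup.normalizer (X : Set G))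
    (hDc : ⁅X, X⁆ ≤ Subgroup.centralizer (X : Set G))
    (hN'D : N' ≤ Subgroup.centralizer ((⁅X, X⁆ : Subgroup G) : Set G))
    (c : G) (hcX : c ∈ X) (hc : ∀ a ∈ N', c * a = a * c) :
    ⁅N', X⁆ ≤ Subgroup.centralizer ({c} : Set G) := by
  rw [Subgroup.commutator_le]
  intro a ha s hs
  rw [Subgroup.mem_centralizer_iff]
  intro c' hc'
  rw [Set.mem_singleton_iff] at hc'
  subst hc'
  rw [commutatorElement_def]
  have hd : c' * s * c'⁻¹ * s⁻¹ ∈ ⁅X, X⁆ := by
    have := Subgroup.commutator_mem_commutator hcX hs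
    rwa [commutatorElement_def] at this
  have hx : a * s * a⁻¹ * s⁻¹ ∈ X :=
    X.mul_mem ((Subgroup.mem_normalizer_iff.mp (hN'X ha) s).mp hs) (X.inv_mem hs)
  refine kk_elt c' a s (hc a ha) ?_ ?_
  · exact (Subgroup.mem_centralizer_iff.mp (hN'D ha) _ hd).symm
  · exact (Subgroup.mem_centralizer_iff.mp (hDc hd) _ hx).symm

-- piece C-K
theorem kk (hFQ : FQStmt G) : KStmt G := by
  unfold KStmt
  intro p r _ _ S A Z P hS hA hAp hZr hrp hZA hfree hAS hZS hcycA hcycZ hPp hPS hPA hPZ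
  classical
  have hp : p.Prime := Fact.out
  have hr : r.Prime := Fact.out
  by_contra hcon
  -- a generator of `Z`
  have hZcyc : IsCyclic Z := isCyclic_of_prime_card (p := r) hZr
  obtain ⟨z', hz'⟩ := IsCyclic.exists_generator (α := ↥Z)
  obtain ⟨z, hz⟩ : ∃ z : G, z = (z' : G) := ⟨_, rfl⟩
  have hzZ : z ∈ Z := by rw [hz]; exact z'.2
  have hZz : ∀ y ∈ Z, y ∈ Subgroup.zpowers z := by
    intro y hy
    obtain ⟨k, hk⟩ := Subgroup.mem_zpowers_iff.mp (hz' ⟨y, hy⟩)
    refine Subgroup.mem_zpowers_iff.mpr ⟨k, ?_⟩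
    have h1 := congrArg Subtype.val hk
    rw [hz]
    simpa using h1
  have hzo : orderOf z = r := by
    have h1 : orderOf z' = Nat.card Z := orderOf_eq_card_of_forall_mem_zpowers hz'
    rw [hz, Subgroup.orderOf_coe, h1, hZr]
  have hz1 : z ≠ 1 := by
    intro h
    rw [h, orderOf_one] at hzo
    exact hr.ne_one hzo.symm
  have hcentZ : ∀ x : G, x * z = z * x → x ∈ Subgroup.centralizer (Z : Set G) := by
    intro x hx
    rw [Subgroup.mem_centralizer_iff]
    intro y hy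
    obtain ⟨k, rfl⟩ := Subgroup.mem_zpowers_iff.mp (hZz y hy)
    exact (Commute.zpow_left (show Commute z x from hx.symm) k).eq
  have hfree' : ∀ a ∈ A, z * a = a * z → a = 1 := fun a ha h => hfree a ha z hzZ hz1 h
  have hsolvA : Group.IsSolvable ↥A := Group.isSolvable_of_comm (fun a b => hA.is_comm.comm a b)
  -- coprimality
  have hcopA : ∀ T : Subgroup G, T ≤ S → (Nat.card A).Coprime (Nat.card T) := by
    intro T hT
    obtain ⟨k, hk⟩ := IsPGroup.iff_card.mp (hS.to_le hT)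
    rw [hk]
    exact Nat.Coprime.pow_right k hAp
  have hcopZ : ∀ T : Subgroup G, T ≤ S → (Nat.card Z).Coprime (Nat.card T) := by
    intro T hT
    obtain ⟨k, hk⟩ := IsPGroup.iff_card.mp (hS.to_le hT)
    rw [hk, hZr]
    exact Nat.Coprime.pow_right k ((Nat.coprime_primes hr hp).mpr hrp)
  -- a minimal counterexample
  have hex : ∃ n : ℕ, ∃ S' : Subgroup G, S' ≤ S ∧ A ≤ Subgroup.normalizer (S' : Set G) ∧
      Z ≤ Subgroup.normalizer (S' : Set G) ∧ ¬ A ≤ Subgroup.centralizer (S' : Set G) ∧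
      Nat.card S' = n := ⟨_, S, le_rfl, hAS, hZS, hcon, rfl⟩
  obtain ⟨S', hS'S, hAS', hZS', hncS', hcard⟩ := Nat.find_spec hex
  have hmin0 : ∀ T : Subgroup G, T ≤ S → A ≤ Subgroup.normalizer (T : Set G) →
      Z ≤ Subgroup.normalizer (T : Set G) → Nat.card T < Nat.card S' →
      A ≤ Subgroup.centralizer (T : Set G) := by
    intro T hTS hAT hZT hlt
    by_contra hnc
    exact Nat.find_min hex (by rw [← hcard]; exact hlt) ⟨T, hTS, hAT, hZT, hnc, rfl⟩
  have hS'p : IsPGroup p S' := hS.to_le hS'S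
  -- (i) proper invariant subgroups are centralized by `A` and by `Z`
  have hmin : ∀ T : Subgroup G, T ≤ S' → T ≠ S' → A ≤ Subgroup.normalizer (T : Set G) →
      Z ≤ Subgroup.normalizer (T : Set G) →
      A ≤ Subgroup.centralizer (T : Set G) ∧ Z ≤ Subgroup.centralizer (T : Set G) := by
    intro T hTS' hne hAT hZT
    have hlt : Nat.card T < Nat.card S' := by
      by_contra hge
      push Not at hge
      exact hne (Subgroup.eq_of_le_of_card_ge hTS' hge)
    have hTA := hmin0 T (hTS'.trans hS'S) hAT hZT hlt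
    refine ⟨hTA, ?_⟩
    have hTC : T ≤ S ⊓ Subgroup.centralizer (A : Set G) :=
      le_inf (hTS'.trans hS'S) (Subgroup.le_centralizer_iff.mp hTA)
    have hTcomm : IsMulCommutative T :=
      ⟨⟨fun x y => Subtype.ext (kk_comm_of_cyclic _ hcycA (hTC x.2) (hTC y.2))⟩⟩
    refine Cfsg.Agent.S0056.result Z T hZT (hcopZ T (hTS'.trans hS'S)) ?_
    intro v hv hvo a ha
    have hvp : orderOf v = p := by
      obtain ⟨k, hk⟩ := (hS.to_le (hTS'.trans hS'S)) ⟨v, hv⟩
      have h1 : v ^ p ^ k = 1 := by simpa using congrArg Subtype.val hk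
      have h2 : orderOf v ∣ p ^ k := orderOf_dvd_of_pow_eq_one h1
      exact (Nat.prime_dvd_prime_iff_eq hvo hp).mp (hvo.dvd_of_dvd_pow h2)
    have hvP : v ∈ P := by
      have h := Cfsg.Agent.Lib.Helper58.BG.eq_of_card_eq_of_le_cyclic
        (S ⊓ Subgroup.centralizer (A : Set G)) (Subgroup.zpowers v) P hcycA
        (by rw [Subgroup.zpowers_le]; exact hTC hv) (le_inf hPS hPA)
        (by rw [Nat.card_zpowers, hvp, hPp])
      rw [← h]
      exact Subgroup.mem_zpowers v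
    exact Subgroup.mem_centralizer_iff.mp (hPZ hvP) a ha
  -- `S' ≠ ⊥`
  have hS'ne : S' ≠ ⊥ := by
    intro h0
    apply hncS'
    intro a _
    rw [Subgroup.mem_centralizer_iff]
    intro y hy
    have hy1 : y = 1 := by
      have hy' : y ∈ S' := hy
      rw [h0] at hy'
      exact Subgroup.mem_bot.mp hy'
    rw [hy1, one_mul, mul_one]
  -- (ii) `S' = [S', A]`
  have hSA : ⁅S', A⁆ = S' := by
    by_contra hne
    have hle : ⁅S', A⁆ ≤ S' := kk_comm_le hAS'
    obtain ⟨h1, -⟩ := hmin _ hle hne (kk_norm_comm A S' A hAS' Subgroup.le_normalizer)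
      (kk_norm_comm Z S' A hZS' hZA)
    have h2 : ⁅⁅S', A⁆, A⁆ = ⊥ :=
      Subgroup.commutator_eq_bot_iff_le_centralizer.mpr (Subgroup.le_centralizer_iff.mp h1)
    rw [Cfsg.Agent.S0027.result A S' hAS' (hcopA S' hS'S) (Or.inl hsolvA)] at h2
    exact hncS' (Subgroup.le_centralizer_iff.mp
      (Subgroup.commutator_eq_bot_iff_le_centralizer.mp h2))
  by_cases hab : ∀ x ∈ S', ∀ y ∈ S', x * y = y * x
  · -- (iii) `S'` abelian
    have hcomm : IsMulCommutative S' := ⟨⟨fun x y => Subtype.ext (hab x x.2 y y.2)⟩⟩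
    obtain ⟨h1, -⟩ := Cfsg.Agent.S0055.result A S' hAS' (hcopA S' hS'S)
    rw [hSA, inf_eq_left.mpr inf_le_left] at h1
    have h2 := Cfsg.Agent.Lib.Helper32.BG12X.frobenius_fixed_point (q := r) hA hcomm hS'ne hAS'
      (hZS' hzZ) (hZA hzZ) hzo hfree' (hcopA S' hS'S) h1
    obtain ⟨v, hv, hv1⟩ : ∃ v ∈ S' ⊓ Subgroup.centralizer ({z} : Set G), v ≠ 1 := by
      by_contra hall
      push Not at hall
      exact h2 ((Subgroup.eq_bot_iff_forall _).mpr hall)
    obtain ⟨X, hXv, hXp⟩ :=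
      Cfsg.Agent.Lib.Helper3.BG13T.exists_card_prime_le_zpowers hS'p hv.1 hv1
    have hvZ : v ∈ Subgroup.centralizer (Z : Set G) :=
      hcentZ v (Subgroup.mem_centralizer_iff.mp hv.2 z (Set.mem_singleton z)).symm
    have hXS' : X ≤ S' := hXv.trans (by rw [Subgroup.zpowers_le]; exact hv.1)
    have hXZ : X ≤ Subgroup.centralizer (Z : Set G) :=
      hXv.trans (by rw [Subgroup.zpowers_le]; exact hvZ)
    have hXP : X = P := Cfsg.Agent.Lib.Helper58.BG.eq_of_card_eq_of_le_cyclic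
      (S ⊓ Subgroup.centralizer (Z : Set G)) X P hcycZ (le_inf (hXS'.trans hS'S) hXZ)
      (le_inf hPS hPZ) (hXp.trans hPp.symm)
    have hPbot : P ≤ S' ⊓ Subgroup.centralizer (A : Set G) := le_inf (hXP ▸ hXS') hPA
    rw [h1, le_bot_iff] at hPbot
    rw [hPbot, Subgroup.card_bot] at hPp
    exact hp.ne_one hPp.symm
  · -- (iv) `S'` nonabelian
    push Not at hab
    obtain ⟨x₀, hx₀, y₀, hy₀, hxy⟩ := hab
    obtain ⟨D, hD⟩ : ∃ D : Subgroup G, D = ⁅S', S'⁆ := ⟨_, rfl⟩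
    obtain ⟨Z1, hZ1⟩ : ∃ Z1 : Subgroup G, Z1 = S' ⊓ Subgroup.centralizer (S' : Set G) :=
      ⟨_, rfl⟩
    have hDle : D ≤ S' := by rw [hD]; exact kk_comm_le Subgroup.le_normalizer
    have hDne : D ≠ S' := by
      intro hDS
      have hnt : Nontrivial ↥S' := (Subgroup.nontrivial_iff_ne_bot S').mpr hS'ne
      have hnil : Group.IsNilpotent ↥S' := hS'p.isNilpotent
      have hlt := Group.IsSolvable.commutator_lt_top_of_nontrivial ↥S'
      have hmap : (commutator ↥S').map S'.subtype = ⁅S', S'⁆ :=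
        Subgroup.map_subtype_commutator S'
      have h1 : (commutator ↥S').map S'.subtype = (⊤ : Subgroup ↥S').map S'.subtype := by
        rw [hmap, ← hD, hDS, ← MonoidHom.range_eq_map, Subgroup.range_subtype]
      exact hlt.ne (Subgroup.map_injective S'.subtype_injective h1)
    have hZ1le : Z1 ≤ S' := by rw [hZ1]; exact inf_le_left
    have hS'nZ1 : ¬ S' ≤ Z1 := by
      intro h
      rw [hZ1] at h
      exact hxy (Subgroup.mem_centralizer_iff.mp (h hy₀).2 x₀ hx₀)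
    have hAND : A ≤ Subgroup.normalizer (D : Set G) := by
      rw [hD]; exact kk_norm_comm A S' S' hAS' hAS'
    have hZND : Z ≤ Subgroup.normalizer (D : Set G) := by
      rw [hD]; exact kk_norm_comm Z S' S' hZS' hZS'
    have hANZ1 : A ≤ Subgroup.normalizer (Z1 : Set G) := by
      rw [hZ1]; exact kk_norm_cent A S' hAS'
    have hZNZ1 : Z ≤ Subgroup.normalizer (Z1 : Set G) := by
      rw [hZ1]; exact kk_norm_cent Z S' hZS'
    have hS'NZ1 : S' ≤ Subgroup.normalizer (Z1 : Set G) := by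
      rw [hZ1]; exact kk_norm_cent S' S' Subgroup.le_normalizer
    obtain ⟨hAD, hZD⟩ := hmin D hDle hDne hAND hZND
    -- `D ≤ Z1` by the three subgroups lemma
    have hDZ1 : D ≤ Z1 := by
      have h1 : ⁅⁅A, D⁆, S'⁆ = ⊥ := by
        have h0 : ⁅A, D⁆ = ⊥ := Subgroup.commutator_eq_bot_iff_le_centralizer.mpr hAD
        rw [h0]
        exact Subgroup.commutator_bot_left S'
      have hS'ND : S' ≤ Subgroup.normalizer (D : Set G) := by
        rw [hD]; exact kk_norm_comm S' S' S' Subgroup.le_normalizer Subgroup.le_normalizer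
      have hDS'leD : ⁅D, S'⁆ ≤ D := kk_comm_le hS'ND
      have hDS'ne : ⁅D, S'⁆ ≠ S' := by
        intro h
        exact hDne (le_antisymm hDle (h ▸ hDS'leD))
      obtain ⟨h2c, -⟩ := hmin ⁅D, S'⁆ (hDS'leD.trans hDle) hDS'ne
        (kk_norm_comm A D S' hAND hAS') (kk_norm_comm Z D S' hZND hZS')
      have h2 : ⁅⁅D, S'⁆, A⁆ = ⊥ :=
        Subgroup.commutator_eq_bot_iff_le_centralizer.mpr (Subgroup.le_centralizer_iff.mp h2c)
      have h3 : ⁅⁅S', A⁆, D⁆ = ⊥ := Subgroup.commutator_commutator_eq_bot_of_rotate h1 h2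
      rw [hSA] at h3
      have h4 : D ≤ Subgroup.centralizer (S' : Set G) :=
        Subgroup.le_centralizer_iff.mp (Subgroup.commutator_eq_bot_iff_le_centralizer.mp h3)
      rw [hZ1]
      exact le_inf hDle h4
    have hDc : ⁅S', S'⁆ ≤ Subgroup.centralizer (S' : Set G) := by
      rw [← hD]
      intro d hd
      have hd1 : d ∈ Z1 := hDZ1 hd
      rw [hZ1] at hd1
      exact hd1.2
    -- `C_{S'}(A) ≤ Z1`
    have hCA : S' ⊓ Subgroup.centralizer (A : Set G) ≤ Z1 := by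
      intro c hc
      have h1 := kk_cent_comm S' A hAS' hDc (by rw [← hD]; exact hAD) c hc.1
        (fun a ha => (Subgroup.mem_centralizer_iff.mp hc.2 a ha).symm)
      rw [Subgroup.commutator_comm, hSA] at h1
      rw [hZ1]
      refine Subgroup.mem_inf.mpr ⟨hc.1, ?_⟩
      rw [Subgroup.mem_centralizer_iff]
      intro y hy
      exact (Subgroup.mem_centralizer_iff.mp (h1 hy) c (Set.mem_singleton c)).symm
    -- `C_{S'}(z) ≤ Z1`
    have hCZ : S' ⊓ Subgroup.centralizer ({z} : Set G) ≤ Z1 := by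
      intro c hc
      have hcZ : c ∈ Subgroup.centralizer (Z : Set G) :=
        hcentZ c (Subgroup.mem_centralizer_iff.mp hc.2 z (Set.mem_singleton z)).symm
      have h1 := kk_cent_comm S' Z hZS' hDc (by rw [← hD]; exact hZD) c hc.1
        (fun a ha => (Subgroup.mem_centralizer_iff.mp hcZ a ha).symm)
      rw [Subgroup.commutator_comm] at h1
      have h2 : S' ⊓ Subgroup.centralizer (Z : Set G) ≤ Subgroup.centralizer ({c} : Set G) := by
        intro y hy
        rw [Subgroup.mem_centralizer_iff]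
        intro c' hc'
        rw [Set.mem_singleton_iff] at hc'
        subst hc'
        exact kk_comm_of_cyclic _ hcycZ ⟨hS'S hc.1, hcZ⟩ ⟨hS'S hy.1, hy.2⟩
      have h3 : S' ≤ Subgroup.centralizer ({c} : Set G) := by
        have h4 := Cfsg.Agent.S0026.result Z S' hZS' (hcopZ S' hS'S)
          (Or.inl (Group.isSolvable_of_comm (fun a b => Subtype.ext (kk_comm_of_cyclic Z hZcyc a.2 b.2))))
        rw [← h4]
        exact sup_le h1 h2
      rw [hZ1]
      refine Subgroup.mem_inf.mpr ⟨hc.1, ?_⟩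
      rw [Subgroup.mem_centralizer_iff]
      intro y hy
      exact (Subgroup.mem_centralizer_iff.mp (h3 hy) c (Set.mem_singleton c)).symm
    have hFQ' := hFQ
    unfold FQStmt at hFQ'
    have hrS' : r.Coprime (Nat.card S') := by
      have := hcopZ S' hS'S
      rwa [hZr] at this
    exact hFQ' r A S' Z1 z hA hZ1le hS'NZ1 (by rw [← hD]; exact hDZ1) hS'nZ1 hAS' hANZ1
      (hZS' hzZ) (hZNZ1 hzZ) (hZA hzZ) hzo hfree' (hcopA S' hS'S) hrS' hCA hCZ

end Cfsg.Agent.Lib.Helper15.BG13C
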