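import Mathlib
import Cfsg.Agent.Lib.Helper4.FCDefs

/-!
# Project FC (S4146), piece LFEND (helper88)
-/

namespace Cfsg.Agent.Lib.Helper4.FC

universe u

theorem fc_lfend : LF1Stmt.{u} → LFK1Stmt.{u} → LFEndStmt.{u} := by
  intro _ hK1
  unfold LFEndStmt
  intro G _ _ n m A H x hL hcomm hxH hrel hxK
  have hKm : (CHA A H).relIndex H = m := hK1 G n m A H hL
  obtain ⟨hF, -⟩ := hL
  obtain ⟨-, hm, -⟩ := hF
  have hle1 : CHA A H ≤ Cen x ⊓ H := by
    intro k hk
    have hkH : k ∈ H := by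
      unfold CHA at hk
      exact (Subgroup.mem_inf.mp hk).1
    refine Subgroup.mem_inf.mpr ⟨?_, hkH⟩
    rw [Subgroup.mem_centralizer_iff]
    intro h hh
    rw [Set.mem_singleton_iff] at hh
    rw [hh]
    exact (hcomm k hk x hxH).symm
  have hle2 : Cen x ⊓ H ≤ H := inf_le_right
  have hmul := Subgroup.relIndex_mul_relIndex (CHA A H) (Cen x ⊓ H) H hle1 hle2
  rw [Subgroup.inf_relIndex_right, hrel, hKm] at hmul
  have hr : (CHA A H).relIndex (Cen x ⊓ H) = 1 := by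
    have h0 : 0 < m := by omega
    exact Nat.eq_of_mul_eq_mul_right h0 (by rw [hmul, one_mul])
  have hle3 : Cen x ⊓ H ≤ CHA A H := Subgroup.relIndex_eq_one.mp hr
  apply hxK
  apply hle3
  refine Subgroup.mem_inf.mpr ⟨?_, hxH⟩
  rw [Subgroup.mem_centralizer_iff]
  intro h hh
  rw [Set.mem_singleton_iff] at hh
  rw [hh]

end Cfsg.Agent.Lib.Helper4.FC
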