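import Mathlib
import Cfsg.Agent.Lib.Helper4.FCDefs

/-!
# Project FC (S4146), piece V1B2 (helper88)
-/

namespace Cfsg.Agent.Lib.Helper4.FC

universe u

theorem fc_v1b2 : V1b2Stmt.{u} := by
  unfold V1b2Stmt
  intro G _ _ s S V1 hs hV1 hnot
  classical
  have hsF : Fact s.Prime := ⟨hs⟩
  have hCn : (Subgroup.centralizer (V1 : Set G)).Normal := Subgroup.normal_centralizer
  obtain ⟨N, hN⟩ : ∃ N : Subgroup S,
      N = (Subgroup.centralizer (V1 : Set G)).subgroupOf (S : Subgroup G) := ⟨_, rfl⟩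
  have hNn : N.Normal := by rw [hN]; infer_instance
  have hpg : IsPGroup s (S ⧸ N) := S.isPGroup'.to_quotient N
  have hnt : Nontrivial (S ⧸ N) := by
    by_contra hnt
    rw [not_nontrivial_iff_subsingleton] at hnt
    apply hnot
    intro y hy
    have h1 : (QuotientGroup.mk (⟨y, hy⟩ : S) : S ⧸ N) = 1 := Subsingleton.elim _ _
    rw [QuotientGroup.eq_one_iff, hN] at h1
    exact Subgroup.mem_subgroupOf.mp h1
  have hfin : Finite (S ⧸ N) := inferInstance
  have hcn := hpg.center_nontrivial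
  obtain ⟨⟨c, hc⟩, hc1⟩ := exists_ne (1 : Subgroup.center (S ⧸ N))
  obtain ⟨z, rfl⟩ := QuotientGroup.mk_surjective c
  refine ⟨z, z.2, ?_, ?_⟩
  · intro hz
    apply hc1
    apply Subtype.ext
    show (QuotientGroup.mk z : S ⧸ N) = 1
    rw [QuotientGroup.eq_one_iff, hN]
    exact Subgroup.mem_subgroupOf.mpr hz
  · intro y hy
    have h1 : (QuotientGroup.mk (z⁻¹ * (⟨y, hy⟩ : S)⁻¹ * z * ⟨y, hy⟩) : S ⧸ N) = 1 := by
      have hcomm := Subgroup.mem_center_iff.mp hc (QuotientGroup.mk ⟨y, hy⟩)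
      simp only [QuotientGroup.mk_mul, QuotientGroup.mk_inv]
      rw [mul_assoc, ← hcomm]
      group
    rw [QuotientGroup.eq_one_iff, hN] at h1
    exact Subgroup.mem_subgroupOf.mp h1

end Cfsg.Agent.Lib.Helper4.FC
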