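import Mathlib
import Cfsg.Agent.Lib.Helper4.FCDefs

/-!
# Project FC (S4146), piece W2 (helper88)
-/

namespace Cfsg.Agent.Lib.Helper4.FC

universe u

theorem fc_w2 : QRegStmt.{u} → W2Stmt.{u} := by
  intro hQ
  unfold W2Stmt
  intro G _ _ n m q K b u hF hq hm hKn hKq hb hbq huK
  obtain ⟨h1n, h1m, hnm, hcs, -, -, -⟩ := hF
  obtain ⟨i, hi⟩ := hm
  have hgcd : Nat.gcd n m = 1 := Nat.Coprime.gcd_eq_one hnm
  have hord : (orderOf (u : G)).Coprime q := by
    have hd : orderOf (u : G) ∣ Nat.card K := by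
      have h := orderOf_dvd_natCard (⟨(u : G), huK⟩ : K)
      rwa [Subgroup.orderOf_mk] at h
    exact Nat.Coprime.coprime_dvd_left hd hKq
  have hqr := hQ G q b hbq u hord
  rw [hb] at hqr
  have hi0 : i ≠ 0 := by
    intro h0
    rw [h0, pow_zero] at hi
    omega
  have hqm : q ∣ m := by
    rw [hi]
    exact dvd_pow_self q hi0
  have hqn : ¬ q ∣ n := by
    intro h
    have h5 := Nat.dvd_gcd h hqm
    rw [hgcd] at h5
    exact hq.one_lt.ne' (Nat.dvd_one.mp h5)
  have hm0 : 0 < m := by omega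
  rcases hcs (b * (u : G)) with h | h | h | h
  · rw [h] at hqr
    have h5 : m ∣ 1 := Dvd.intro_left _ hqr
    have h6 : m = 1 := Nat.dvd_one.mp h5
    omega
  · rw [h] at hqr
    have hmn : m ∣ n := Dvd.intro_left _ hqr
    have h5 := Nat.dvd_gcd hmn (dvd_refl m)
    rw [hgcd] at h5
    have h6 : m = 1 := Nat.dvd_one.mp h5
    omega
  · rw [h] at hqr
    have h1 : cs u = 1 := by
      have h5 : cs u * m = 1 * m := by rw [hqr, one_mul]
      exact Nat.eq_of_mul_eq_mul_right hm0 h5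
    rw [h1]
    exact fun hd => hq.one_lt.ne' (Nat.dvd_one.mp hd)
  · rw [h] at hqr
    have h1 : cs u = n := Nat.eq_of_mul_eq_mul_right hm0 hqr
    rw [h1]
    exact hqn

end Cfsg.Agent.Lib.Helper4.FC
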