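import Mathlib
import Cfsg.Agent.Lib.Helper4.FCDefs

/-!
# Project FC (S4146), piece Z2ABS (helper88)
-/

namespace Cfsg.Agent.Lib.Helper4.FC

universe u

theorem fc_z2abs : Z2AbsAStmt.{u} → Z2AbsStmt.{u} := by
  intro hA
  unfold Z2AbsStmt
  intro G _ _ K h hKn hnil hcop hnonab hab hcs
  classical
  have hfix : ∀ x : K, (MulAut.conjNormal h : MulAut K) x = x ↔ (x : G) ∈ Cen h := by
    intro x
    rw [Subgroup.mem_centralizer_iff]
    constructor
    · intro hx y hy
      rw [Set.mem_singleton_iff] at hy
      subst hy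
      have h1 := congrArg Subtype.val hx
      rw [MulAut.conjNormal_apply] at h1
      calc y * (x : G) = y * x * y⁻¹ * y := by group
        _ = x * y := by rw [h1]
    · intro hx
      apply Subtype.ext
      rw [MulAut.conjNormal_apply]
      have h1 := hx h rfl
      rw [h1]
      group
  have hFix : FixSub (MulAut.conjNormal h : MulAut K) = (Cen h).subgroupOf K := by
    ext x
    rw [Subgroup.mem_subgroupOf, ← hfix x]
    rfl
  have hCen : ∀ u : K, Cen u = (Cen (u : G)).subgroupOf K := by
    intro u
    ext x
    rw [Subgroup.mem_subgroupOf, Subgroup.mem_centralizer_iff, Subgroup.mem_centralizer_iff]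
    constructor
    · intro hx y hy
      rw [Set.mem_singleton_iff] at hy
      subst hy
      have h1 := hx u rfl
      exact congrArg Subtype.val h1
    · intro hx y hy
      rw [Set.mem_singleton_iff] at hy
      subst hy
      apply Subtype.ext
      exact hx _ rfl
  apply hA K (MulAut.conjNormal h) ?_ hnil
  refine ⟨?_, ?_, ?_, ?_⟩
  · exact Nat.Coprime.coprime_dvd_left (orderOf_map_dvd _ h) hcop
  · obtain ⟨u, hu, v, hv, huv⟩ := hnonab
    refine ⟨⟨u, hu⟩, ⟨v, hv⟩, ?_⟩
    intro h1
    exact huv (congrArg Subtype.val h1)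
  · intro u v hu hv
    apply Subtype.ext
    exact hab u u.2 v v.2 ((hfix u).mp hu) ((hfix v).mp hv)
  · intro u hu
    show (Cen u).index = _
    rw [hCen u, hFix]
    have h2 : ∃ v ∈ K, (u : G) * v ≠ v * u := by
      by_contra hcon
      push Not at hcon
      apply hu
      rw [Subgroup.mem_center_iff]
      intro g
      apply Subtype.ext
      exact (hcon g g.2).symm
    exact hcs u u.2 h2

end Cfsg.Agent.Lib.Helper4.FC
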