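import Mathlib
import Cfsg.Agent.Lib.Helper4.FCDefs

/-!
# Project FC (S4146), piece ZSYL (helper88)
-/

namespace Cfsg.Agent.Lib.Helper4.FC

universe u

theorem zsyl_helper88_card {G : Type u} [Group G] [Finite G] {A B : Subgroup G} (h : A ≤ B) :
    Nat.card A * A.relIndex B = Nat.card B := by
  have h1 := Subgroup.card_mul_index (A.subgroupOf B)
  rw [Nat.card_congr (Subgroup.subgroupOfEquivOfLe h).toEquiv] at h1
  exact h1

theorem fc_zsyl : ZSylStmt.{u} := by
  unfold ZSylStmt
  intro G _ _ p g x a hp hcen hpa haZ hax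
  classical
  haveI : Fact p.Prime := ⟨hp⟩
  have hZx : Subgroup.center G ≤ Cen x := Subgroup.center_le_centralizer _
  have hZ0 : Nat.card (Subgroup.center G) ≠ 0 := Nat.card_pos.ne'
  have hCg0 : Nat.card (Cen g) ≠ 0 := Nat.card_pos.ne'
  have hCx0 : Nat.card (Cen x) ≠ 0 := Nat.card_pos.ne'
  have h1 : (Nat.card (Cen g)).factorization p ≤
      (Nat.card (Subgroup.center G)).factorization p := by
    obtain ⟨P⟩ : Nonempty (Sylow p (Cen g)) := inferInstance
    have hPcard : Nat.card P = p ^ (Nat.card (Cen g)).factorization p := P.card_eq_multiplicity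
    have hle : (P : Subgroup (Cen g)).map (Cen g).subtype ≤ Subgroup.center G := by
      rintro y ⟨w, hw, rfl⟩
      apply hcen
      · obtain ⟨k, hk⟩ := P.isPGroup' ⟨w, hw⟩
        have hk' : w ^ p ^ k = 1 := by
          have h5 := congrArg Subtype.val hk
          simpa using h5
        have hd : orderOf w ∣ p ^ k := orderOf_dvd_of_pow_eq_one hk'
        obtain ⟨j, -, hj⟩ := (Nat.dvd_prime_pow hp).mp hd
        refine ⟨j, ?_⟩
        show orderOf (w : G) = p ^ j
        rw [Subgroup.orderOf_coe, hj]
      · exact w.2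
    have hdvd : Nat.card P ∣ Nat.card (Subgroup.center G) := by
      have h5 := Subgroup.card_dvd_of_le hle
      rwa [Subgroup.card_map_of_injective (Subgroup.subtype_injective _)] at h5
    rw [hPcard] at hdvd
    exact (Nat.Prime.pow_dvd_iff_le_factorization hp hZ0).mp hdvd
  have h2 : (Nat.card (Subgroup.center G)).factorization p + 1 ≤
      (Nat.card (Cen x)).factorization p := by
    have hsup : Subgroup.center G ⊔ Subgroup.zpowers a ≤ Cen x :=
      sup_le hZx (by rw [Subgroup.zpowers_le]; exact hax)
    have hrel : (Subgroup.center G).relIndex (Subgroup.center G ⊔ Subgroup.zpowers a) =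
        (Subgroup.center G).relIndex (Subgroup.zpowers a) :=
      Subgroup.relIndex_sup_left (Subgroup.zpowers a) (Subgroup.center G)
    have hpg : IsPGroup p (Subgroup.zpowers a) := by
      obtain ⟨k, hk⟩ := hpa
      apply IsPGroup.of_card (n := k)
      rw [Nat.card_zpowers, hk]
    obtain ⟨j, hj⟩ := hpg.index ((Subgroup.center G).subgroupOf (Subgroup.zpowers a))
    have hj' : (Subgroup.center G).relIndex (Subgroup.zpowers a) = p ^ j := hj
    have hj0 : j ≠ 0 := by
      intro h0
      rw [h0, pow_zero] at hj'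
      have h5 := Subgroup.relIndex_eq_one.mp hj'
      exact haZ (h5 (Subgroup.mem_zpowers a))
    have hpd : p ∣ (Subgroup.center G).relIndex (Subgroup.center G ⊔ Subgroup.zpowers a) := by
      rw [hrel, hj']
      exact dvd_pow_self p hj0
    have hc := zsyl_helper88_card
      (le_sup_left : Subgroup.center G ≤ Subgroup.center G ⊔ Subgroup.zpowers a)
    have hdvd1 : Nat.card (Subgroup.center G) * p ∣
        Nat.card ↥(Subgroup.center G ⊔ Subgroup.zpowers a) := by
      rw [← hc]
      exact Nat.mul_dvd_mul_left _ hpd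
    have hdvd2 : Nat.card ↥(Subgroup.center G ⊔ Subgroup.zpowers a) ∣ Nat.card (Cen x) :=
      Subgroup.card_dvd_of_le hsup
    have hdvd3 : p ^ ((Nat.card (Subgroup.center G)).factorization p + 1) ∣
        Nat.card (Cen x) := by
      refine dvd_trans ?_ (dvd_trans hdvd1 hdvd2)
      rw [pow_succ]
      exact Nat.mul_dvd_mul_right (Nat.ordProj_dvd _ p) p
    exact (Nat.Prime.pow_dvd_iff_le_factorization hp hCx0).mp hdvd3
  have hx := Subgroup.card_mul_index (Cen x)
  have hg := Subgroup.card_mul_index (Cen g)
  have hix0 : (Cen x).index ≠ 0 := Subgroup.index_ne_zero_of_finite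
  have hig0 : (Cen g).index ≠ 0 := Subgroup.index_ne_zero_of_finite
  have fx : (Nat.card (Cen x)).factorization p + (cs x).factorization p =
      (Nat.card G).factorization p := by
    rw [← hx, Nat.factorization_mul hCx0 hix0, Finsupp.add_apply]
  have fg : (Nat.card (Cen g)).factorization p + (cs g).factorization p =
      (Nat.card G).factorization p := by
    rw [← hg, Nat.factorization_mul hCg0 hig0, Finsupp.add_apply]
  omega

end Cfsg.Agent.Lib.Helper4.FC
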