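import Cfsg.Agent.Lib.Helper88.SylAux
import Cfsg.Agent.Lib.Helper88.FusSat
import Cfsg.Agent.Lib.Helper90.CR
import Cfsg.Agent.Lib.Helper91.Centric

set_option autoImplicit false

namespace Cfsg.Agent.Lib.Helper88

open Cfsg Cfsg.FusionSystem Cfsg.Agent.Lib.Helper90 Cfsg.Agent.Lib.Helper91

variable {Ω : Type*} [Group Ω] {S : Subgroup Ω} {F : FusionSystem S}

/-! ### Stabilizers of a subgroup in the automorphism group of a larger one -/

/-- Automorphisms of `B` stabilizing the subgroup `A`. -/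
def stabSub (B A : Subgroup Ω) : Subgroup (MulAut B) where
  carrier := {β | ∀ x : B, ((β x : B) : Ω) ∈ A ↔ (x : Ω) ∈ A}
  mul_mem' := by
    intro a b ha hb x
    rw [MulAut.mul_apply, ha, hb]
  one_mem' := fun x => Iff.rfl
  inv_mem' := by
    intro a ha x
    have h := ha (a⁻¹ x)
    rw [MulAut.apply_inv_self] at h
    exact h.symm

theorem mem_stabSub {B A : Subgroup Ω} {β : MulAut B} :
    β ∈ stabSub B A ↔ ∀ x : B, ((β x : B) : Ω) ∈ A ↔ (x : Ω) ∈ A := Iff.rfl

theorem mem_stabSub_of_maps {B A : Subgroup Ω} [Finite B] (hAB : A ≤ B) {β : MulAut B}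
    (h : ∀ x : B, (x : Ω) ∈ A → ((β x : B) : Ω) ∈ A) : β ∈ stabSub B A := by
  intro x
  refine ⟨fun hx => ?_, h x⟩
  have : Finite A := Finite.of_injective _ (Subgroup.inclusion_injective hAB)
  let g : A → A := fun a => ⟨β ⟨a, hAB a.2⟩, h _ a.2⟩
  have hinj : Function.Injective g := by
    intro a b hab
    have h1 : β ⟨a, hAB a.2⟩ = β ⟨b, hAB b.2⟩ :=
      Subtype.ext (congrArg (fun z : A => (z : Ω)) hab)
    have h2 := β.injective h1
    exact Subtype.ext (congrArg (fun z : B => (z : Ω)) h2)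
  obtain ⟨a, ha⟩ := (Finite.injective_iff_surjective.mp hinj) ⟨β x, hx⟩
  have h2 : β ⟨a, hAB a.2⟩ = β x := Subtype.ext (congrArg (fun z : A => (z : Ω)) ha)
  have h3 := β.injective h2
  rw [← h3]
  exact a.2

theorem autFun_mem_of_stab {B A : Subgroup Ω} (hAB : A ≤ B) {β : MulAut B}
    (hβ : β ∈ stabSub B A) {x : Ω} (hx : x ∈ A) : autFun B β x ∈ A := by
  rw [autFun_apply' β (hAB hx)]
  exact (hβ ⟨x, hAB hx⟩).mpr hx

theorem img_of_stab {B A : Subgroup Ω} (hAB : A ≤ B) {β : MulAut B} (hβ : β ∈ stabSub B A) :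
    img A (autFun B β) = A := by
  unfold img
  have : autFun B β '' (A : Set Ω) = (A : Set Ω) := by
    ext y
    constructor
    · rintro ⟨x, hx, rfl⟩
      exact autFun_mem_of_stab hAB hβ hx
    · intro hy
      have h1 : ((β⁻¹ ⟨y, hAB hy⟩ : B) : Ω) ∈ A := ((stabSub B A).inv_mem hβ ⟨y, hAB hy⟩).mpr hy
      refine ⟨(β⁻¹ ⟨y, hAB hy⟩ : B), h1, ?_⟩
      rw [autFun_apply]
      simp
  rw [this]
  exact Subgroup.closure_eq A

theorem autFun_mul_apply {B : Subgroup Ω} (α₁ α₂ : MulAut B) {y : Ω} (hy : y ∈ B) :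
    autFun B (α₁ * α₂) y = autFun B α₁ (autFun B α₂ y) := by
  rw [autFun_apply' _ hy, autFun_apply' _ hy, autFun_apply]
  rfl

theorem img_mono' {R Q : Subgroup Ω} (h : R ≤ Q) (f : Ω → Ω) : img R f ≤ img Q f :=
  Subgroup.closure_mono (Set.image_mono h)

theorem mor_img_le_normalizerIn [Finite S] {Q R : Subgroup Ω} {f : Ω → Ω} (h : Mor F Q f)
    (hRQ : R ≤ Q) (hQN : Q ≤ normalizerIn S R) : img Q f ≤ normalizerIn S (img R f) := by
  intro y hy
  obtain ⟨q, hq, rfl⟩ := h.mem_img.mp hy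
  exact h.map_normalizerIn hRQ hq (hQN hq).2

theorem mor_apply_mem_img_iff {B' A' : Subgroup Ω} {f : Ω → Ω} (h : Mor F B' f) (hA : A' ≤ B')
    {x : Ω} (hx : x ∈ B') : f x ∈ img A' f ↔ x ∈ A' := by
  constructor
  · intro hfx
    obtain ⟨a, ha, hfa⟩ := (h.restrict hA).mem_img.mp hfx
    rw [← h.inj (hA ha) hx hfa]
    exact ha
  · intro hx'
    exact (h.restrict hA).mem_img_of_mem hx'

/-! ### Flags in Sylow position -/

/-- The pair `A ≤ B` is in Sylow position: the automorphisms of `B` induced by `S` that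
stabilize `A` form a Sylow `p`-subgroup of the stabilizer of `A` in `Aut_F(B)`. -/
def FlagSyl (p : ℕ) (F : FusionSystem S) (B A : Subgroup Ω) : Prop :=
  SylCard p (autInducedBy S B ⊓ stabSub B A) (F.autGroup B ⊓ stabSub B A)

theorem sylCard_of_fa [Finite S] {p : ℕ} [Fact p.Prime] {B : Subgroup Ω}
    (hfa : F.IsFullyAutomized p B) :
    haveI : Finite B := finite_of_le hfa.1
    SylCard p (autInducedBy S B) (F.autGroup B) := by
  obtain ⟨hB, R, hR⟩ := hfa
  have : Finite B := finite_of_le hB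
  have hle := autInducedBy_le_autGroup F hB
  refine ⟨hle, ?_⟩
  rw [← R.card_eq_multiplicity]
  have h1 : Nat.card (R : Subgroup (F.autGroup B)) =
      Nat.card ((autInducedBy S B).subgroupOf (F.autGroup B)) := by rw [hR]
  exact (Nat.card_congr (Subgroup.subgroupOfEquivOfLe hle).toEquiv).symm.trans h1.symm

/-- Every pair `A₀ ≤ B` with `B` fully automized can be moved by an automorphism of `B` in the
system into Sylow position. -/
theorem flag_exists [Finite S] {p : ℕ} [Fact p.Prime] {B A₀ : Subgroup Ω}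
    (hfa : F.IsFullyAutomized p B) (hA₀ : A₀ ≤ B) :
    ∃ γ ∈ F.autGroup B, FlagSyl p F B (img A₀ (autFun B γ)) := by
  have hp : p.Prime := Fact.out
  have hB : B ≤ S := hfa.1
  have : Finite B := finite_of_le hB
  obtain ⟨Sy₀⟩ : Nonempty (Sylow p (F.autGroup B ⊓ stabSub B A₀ : Subgroup (MulAut B))) :=
    inferInstance
  have hSy : SylCard p ((Sy₀ : Subgroup (F.autGroup B ⊓ stabSub B A₀ : Subgroup (MulAut B))).map
      (F.autGroup B ⊓ stabSub B A₀ : Subgroup (MulAut B)).subtype)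
      (F.autGroup B ⊓ stabSub B A₀) := by
    refine ⟨Subgroup.map_subtype_le _, ?_⟩
    rw [Subgroup.card_subtype]
    exact Sy₀.card_eq_multiplicity
  obtain ⟨γ, hγ, hγSy⟩ := sylCard_conj (sylCard_of_fa hfa) _ (hSy.1.trans inf_le_left)
    (sylCard_isPGroup hSy)
  refine ⟨γ, hγ, ?_⟩
  have hγm : Mor F A₀ (autFun B γ) := ((mem_autGroup_iff F hB γ).mp hγ).restrict hA₀
  have hA : img A₀ (autFun B γ) ≤ B := by
    intro y hy
    obtain ⟨x, hx, rfl⟩ := hγm.mem_img.mp hy
    exact autFun_mem γ (hA₀ hx)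
  have hmem : ∀ x : B, (x : Ω) ∈ img A₀ (autFun B γ) ↔ ((γ⁻¹ x : B) : Ω) ∈ A₀ := by
    intro x
    constructor
    · intro hx
      obtain ⟨a, ha, hax⟩ := hγm.mem_img.mp hx
      have h1 : γ ⟨a, hA₀ ha⟩ = x := by
        apply Subtype.ext
        rw [← hax, autFun_apply' γ (hA₀ ha)]
      rw [← h1]
      simpa using ha
    · intro hx
      have h1 : autFun B γ ((γ⁻¹ x : B) : Ω) = x := by
        rw [autFun_apply]
        simp
      rw [← h1]
      exact hγm.mem_img_of_mem hx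
  have key : ∀ β : MulAut B, β ∈ stabSub B (img A₀ (autFun B γ)) ↔
      γ⁻¹ * β * γ ∈ stabSub B A₀ := by
    intro β
    constructor
    · intro hβ z
      have h1 := hβ (γ z)
      rw [hmem, hmem] at h1
      simpa using h1
    · intro hβ x
      have h1 := hβ (γ⁻¹ x)
      rw [hmem, hmem]
      simpa using h1
  -- the conjugated Sylow subgroup
  have hmap : (F.autGroup B ⊓ stabSub B A₀).map (MulAut.conj γ).toMonoidHom =
      F.autGroup B ⊓ stabSub B (img A₀ (autFun B γ)) := by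
    ext β
    constructor
    · rintro ⟨β₀, ⟨h1, h2⟩, rfl⟩
      refine ⟨?_, ?_⟩
      · exact (F.autGroup B).mul_mem ((F.autGroup B).mul_mem hγ h1) ((F.autGroup B).inv_mem hγ)
      · apply (key _).mpr
        show γ⁻¹ * (γ * β₀ * γ⁻¹) * γ ∈ stabSub B A₀
        have e : γ⁻¹ * (γ * β₀ * γ⁻¹) * γ = β₀ := by group
        rw [e]
        exact h2
    · rintro ⟨h1, h2⟩
      refine ⟨γ⁻¹ * β * γ, ⟨?_, (key β).mp h2⟩, ?_⟩
      · exact (F.autGroup B).mul_mem ((F.autGroup B).mul_mem ((F.autGroup B).inv_mem hγ) h1) hγ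
      · show γ * (γ⁻¹ * β * γ) * γ⁻¹ = β
        group
  have hinj : Function.Injective (MulAut.conj γ).toMonoidHom := (MulAut.conj γ).injective
  have hSy' : SylCard p (((Sy₀ : Subgroup (F.autGroup B ⊓ stabSub B A₀ : Subgroup (MulAut B))).map
      (F.autGroup B ⊓ stabSub B A₀ : Subgroup (MulAut B)).subtype).map
      (MulAut.conj γ).toMonoidHom) (F.autGroup B ⊓ stabSub B (img A₀ (autFun B γ))) := by
    refine ⟨?_, ?_⟩
    · rw [← hmap]
      exact Subgroup.map_mono hSy.1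
    · rw [Subgroup.card_map_of_injective hinj, hSy.2, ← hmap, Subgroup.card_map_of_injective hinj]
  refine sylCard_of_le hSy' ?_ (inf_le_inf_right _ (autInducedBy_le_autGroup F hB))
    ((sylCard_isPGroup (sylCard_of_fa hfa)).to_le inf_le_left)
  rintro _ ⟨σ, hσ, rfl⟩
  exact ⟨hγSy σ hσ, (hSy'.1 ⟨σ, hσ, rfl⟩).2⟩

/-- Universal property of a pair in Sylow position with `B` receptive: every conjugate pair
`A' ⊴ B'` maps to it together with its normalizer `N_S(A') ∩ N_S(B')`. -/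
theorem flag_map [Finite S] {p : ℕ} [Fact p.Prime] (hS : IsPGroup p S) {B A B' A' : Subgroup Ω}
    (hrec : F.IsReceptive B) (hAB : A ≤ B) (hsyl : FlagSyl p F B A)
    (hA'B' : A' ≤ B') {l : Ω → Ω} (hl : Mor F B' l)
    (hlB : img B' l = B) (hlA : img A' l = A) :
    ∃ l', Mor F (normalizerIn (normalizerIn S A') B') l' ∧ img B' l' = B ∧ img A' l' = A := by
  have hB : B ≤ S := hrec.1
  have hB' : B' ≤ S := hl.le
  have : Finite B := finite_of_le hB
  have : Finite B' := finite_of_le hB'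
  obtain ⟨e, he⟩ := hl.exists_equiv hlB
  have hNnS : normalizerIn (normalizerIn S A') B' ≤ S := fun x hx => hx.1.1
  have hNnp : IsPGroup p (normalizerIn (normalizerIn S A') B') := hS.to_le hNnS
  have hDp : IsPGroup p ((autInducedBy (normalizerIn (normalizerIn S A') B') B').map
      (MulAut.congr e).toMonoidHom) := (isPGroup_autInducedBy hNnp B').map _
  have hmemA : ∀ x : B', ((e x : B) : Ω) ∈ A ↔ (x : Ω) ∈ A' := by
    intro x
    rw [he, ← hlA]
    exact mor_apply_mem_img_iff hl hA'B' x.2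
  have hD_le : (autInducedBy (normalizerIn (normalizerIn S A') B') B').map
      (MulAut.congr e).toMonoidHom ≤ F.autGroup B ⊓ stabSub B A := by
    rintro _ ⟨α, hα, rfl⟩
    obtain ⟨g, hg, hαg⟩ := (mem_autInducedBy_iff _ B' α).mp hα
    have hαF : α ∈ F.autGroup B' :=
      autInducedBy_le_autGroup F hB' ((mem_autInducedBy_iff S B' α).mpr ⟨g, hNnS hg, hαg⟩)
    refine ⟨congr_mem_autGroup hl hlB e he α hαF, ?_⟩
    intro y
    show ((e (α (e.symm y)) : B) : Ω) ∈ A ↔ (y : Ω) ∈ A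
    rw [hmemA]
    have hy : (y : Ω) ∈ A ↔ ((e.symm y : B') : Ω) ∈ A' := by
      rw [← hmemA]
      simp
    rw [hy, hαg]
    exact (Subgroup.mem_normalizer_iff.mp hg.1.2 _).symm
  obtain ⟨y, hy, hyD⟩ := sylCard_conj hsyl _ hD_le hDp
  have hym : Mor F B (autFun B y) := (mem_autGroup_iff F hB y).mp hy.1
  have hlmem : ∀ x ∈ B', l x ∈ B := fun x hx => hlB ▸ hl.mem_img_of_mem hx
  have hl' : Mor F B' (autFun B y ∘ l) := hl.comp hym hlmem
  have hl'img : img B' (autFun B y ∘ l) = B := by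
    rw [Mor.img_comp hl hym hlmem, hlB, img_autFun]
  have hext : normalizerIn (normalizerIn S A') B' ≤ extFn S B' (autFun B y ∘ l) := by
    intro g hg
    have hgS : g ∈ S := hNnS hg
    have hgN : g ∈ Subgroup.normalizer (B' : Set Ω) := hg.2
    obtain ⟨α, hαF, hαg⟩ := exists_conjAut F hB' hgS hgN
    have hαN : α ∈ autInducedBy (normalizerIn (normalizerIn S A') B') B' :=
      (mem_autInducedBy_iff _ B' α).mpr ⟨g, hg, hαg⟩
    have h1 := (hyD _ ⟨α, hαN, rfl⟩).1
    obtain ⟨b, hb, hbα⟩ := (mem_autInducedBy_iff S B _).mp h1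
    rw [hl'.mem_extFn]
    refine ⟨hgS, hgN, b, hb, fun x hx => ?_⟩
    show autFun B y (l (g * x * g⁻¹)) = b * autFun B y (l x) * b⁻¹
    have hlx : l x ∈ B := hlmem x hx
    have h2 := hbα (y ⟨l x, hlx⟩)
    rw [autFun_apply' y hlx, ← h2]
    simp only [MulAut.mul_apply, MulAut.inv_apply_self]
    have h3 : e.symm ⟨l x, hlx⟩ = ⟨x, hx⟩ := by
      rw [MulEquiv.symm_apply_eq]
      exact Subtype.ext (he ⟨x, hx⟩).symm
    have h4 : (MulAut.congr e α) ⟨l x, hlx⟩ = e (α ⟨x, hx⟩) := by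
      rw [congr_apply_coe, h3]
    have h5 : l (g * x * g⁻¹) = ((e (α ⟨x, hx⟩) : B) : Ω) := by
      rw [he, hαg]
    show autFun B y (l (g * x * g⁻¹)) = ((y ((MulAut.congr e α) ⟨l x, hlx⟩) : B) : Ω)
    rw [h4, h5, autFun_apply]
  obtain ⟨f₁, hf₁, hf₁B⟩ := receptive_extend' hrec hl' hl'img
  refine ⟨f₁, hf₁.restrict hext, ?_, ?_⟩
  · rw [img_congr hf₁B, hl'img]
  · rw [img_congr (fun x hx => hf₁B x (hA'B' hx)),
      Mor.img_comp (hl.restrict hA'B') hym (fun x hx => hlmem x (hA'B' hx)), hlA]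
    exact img_of_stab hAB hy.2

end Cfsg.Agent.Lib.Helper88
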