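import Cfsg.Agent.Lib.Helper89.WCtlCenter

/-!
# Generation of a saturated fusion system by `C_F(℧¹(Z(S)))` and `N_F(W(S))`: the local step

`W` is a characteristic functor on finite `p`-groups containing the centre, `F` a saturated
fusion system over `S`, and `good` a class of maps closed under restriction, composition and
inverses (`GoodClass`), containing the maps of `F` that fix `℧¹(Z(S))` elementwise (`CenGood`)
and the maps of `F` that normalize `W(S)` (`NorGood … S`).  Under the local factorization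
hypothesis `LocFac` (`L = C_L(℧¹(Z(T))) N_L(W(T))` for every finite group `L` with
`C_L(O_p(L)) ≤ O_p(L)` and Sylow `p`-subgroup `T`), every map of `F` is good
(`Cfsg.Agent.Lib.Helper88.GenCtl.gen_ctl`, in `GenCtlB`).  This file has the local step.
-/

set_option autoImplicit false
universe u

namespace Cfsg.Agent.Lib.Helper88.GenCtl

open Cfsg Cfsg.FusionSystem Cfsg.Agent.Lib.Helper90 Cfsg.Agent.Lib.Helper89.WCtl

open Pointwise in
/-- Adjusting a factorization `g = c m` (`c ∈ C'`, `m ∈ M'`, both subgroups containing the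
Sylow `p`-subgroup `T`) so that `m` already conjugates a given subset `X` of `T` with
`g X g⁻¹ ⊆ T` into `T`. -/
theorem sylow_adjust {L : Type*} [Group L] [Finite L] {p : ℕ} [Fact p.Prime] (T : Sylow p L)
    (C' M' : Subgroup L) (hTC : (T : Subgroup L) ≤ C') (hTM : (T : Subgroup L) ≤ M')
    (X : Set L) (hXT : X ⊆ (T : Subgroup L)) {c m : L} (hc : c ∈ C') (hm : m ∈ M')
    (hg : ∀ a ∈ X, (c * m) * a * (c * m)⁻¹ ∈ (T : Subgroup L)) :
    ∃ c₁ ∈ C', ∃ m₁ ∈ M', c * m = c₁ * m₁ ∧ ∀ a ∈ X, m₁ * a * m₁⁻¹ ∈ (T : Subgroup L) := by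
  have hTD : (T : Subgroup L) ≤ C' ⊓ M' := le_inf hTC hTM
  have hQp : IsPGroup p ↥((MulAut.conj m • (T : Subgroup L)) ⊓ (C' ⊓ M')) := by
    have h1 : IsPGroup p ↥(MulAut.conj m • (T : Subgroup L)) := by
      have := T.isPGroup'.map (MulAut.conj m).toMonoidHom
      exact this
    exact h1.to_le inf_le_left
  have hmem : ∀ a ∈ X, m * a * m⁻¹ ∈ (MulAut.conj m • (T : Subgroup L)) ⊓ (C' ⊓ M') := by
    intro a ha
    refine ⟨?_, ?_, ?_⟩
    · have h0 : m * a * m⁻¹ ∈ MulAut.conj m • (T : Subgroup L) := by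
        rw [Subgroup.mem_pointwise_smul_iff_inv_smul_mem, MulAut.smul_def,
          MulAut.conj_inv_apply]
        have : m⁻¹ * (m * a * m⁻¹) * m = a := by group
        rw [this]
        exact hXT ha
      exact h0
    · have h1 : m * a * m⁻¹ = c⁻¹ * ((c * m) * a * (c * m)⁻¹) * c := by group
      rw [h1]
      exact C'.mul_mem (C'.mul_mem (C'.inv_mem hc) (hTC (hg a ha))) hc
    · exact M'.mul_mem (M'.mul_mem hm (hTM (hXT ha))) (M'.inv_mem hm)
  obtain ⟨P', hP'⟩ := (IsPGroup.comap_subtype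
    (H := (MulAut.conj m • (T : Subgroup L)) ⊓ (C' ⊓ M')) (K := C' ⊓ M') hQp).exists_le_sylow
  obtain ⟨d, hd⟩ := MulAction.exists_smul_eq ↥(C' ⊓ M') (T.subtype hTD) P'
  refine ⟨c * d, C'.mul_mem hc d.2.1, (d : L)⁻¹ * m, M'.mul_mem (M'.inv_mem d.2.2) hm,
    by group, ?_⟩
  intro a ha
  have hD : m * a * m⁻¹ ∈ C' ⊓ M' := (Subgroup.mem_inf.mp (hmem a ha)).2
  have h1 : (⟨m * a * m⁻¹, hD⟩ : ↥(C' ⊓ M')) ∈ (P' : Subgroup ↥(C' ⊓ M')) := by
    apply hP'
    rw [Subgroup.mem_comap]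
    exact hmem a ha
  rw [← hd, Sylow.coe_subgroup_smul, Subgroup.mem_pointwise_smul_iff_inv_smul_mem,
    MulAut.smul_def, MulAut.conj_inv_apply, Sylow.coe_subtype, Subgroup.mem_subgroupOf] at h1
  have h2 : (d : L)⁻¹ * m * a * ((d : L)⁻¹ * m)⁻¹ = (d : L)⁻¹ * (m * a * m⁻¹) * (d : L) := by
    group
  rw [h2]
  exact h1

section defs

variable {Ω : Type u} [Group Ω] {S : Subgroup Ω}

/-- A class of maps closed under pointwise agreement, restriction, composition and inverses. -/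
structure GoodClass (F : FusionSystem S) (good : Subgroup Ω → (Ω → Ω) → Prop) : Prop where
  congr : ∀ (P : Subgroup Ω) (f g : Ω → Ω), good P f → (∀ x ∈ P, f x = g x) → good P g
  res : ∀ (P P₀ : Subgroup Ω) (f : Ω → Ω), Mor F P f → good P f → P₀ ≤ P → good P₀ f
  comp : ∀ (P Q : Subgroup Ω) (f g : Ω → Ω), Mor F P f → Mor F Q g → (∀ x ∈ P, f x ∈ Q) →
    good P f → good Q g → good P (g ∘ f)
  inv : ∀ (P : Subgroup Ω) (f : Ω → Ω), Mor F P f → good P f → good (img P f) (invFn P f)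

/-- The maps of `F` fixing `℧¹(Z(S))` elementwise (with source containing it) are good. -/
def CenGood (p : ℕ) (F : FusionSystem S) (good : Subgroup Ω → (Ω → Ω) → Prop) : Prop :=
  ∀ (P : Subgroup Ω) (f : Ω → Ω), Mor F P f → powerClosure p 1 (centralizerIn S S) ≤ P →
    (∀ z ∈ powerClosure p 1 (centralizerIn S S), f z = z) → good P f

/-- The maps of `F` normalizing `W(T)` (between subgroups of `N_S(W(T))` containing `W(T)`)
are good. -/
def NorGood (W : ∀ (Q : Type u) [Group Q], Subgroup Q) (F : FusionSystem S)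
    (good : Subgroup Ω → (Ω → Ω) → Prop) (T : Subgroup Ω) : Prop :=
  ∀ (A : Subgroup Ω) (μ : Ω → Ω), wOf W T ≤ A → A ≤ normalizerIn S (wOf W T) → Mor F A μ →
    (∀ y ∈ wOf W T, μ y ∈ wOf W T) → good A μ

/-- The local factorization hypothesis: `L = C_L(℧¹(Z(T))) N_L(W(T))` for every finite group
`L` with `C_L(O_p(L)) ≤ O_p(L)` and Sylow `p`-subgroup `T`. -/
def LocFac (p : ℕ) (W : ∀ (Q : Type u) [Group Q], Subgroup Q) : Prop :=
  ∀ (L : Type u) [Group L] [Finite L] (T : Sylow p L),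
    Subgroup.centralizer ((pCore p L : Subgroup L) : Set L) ≤ pCore p L → ∀ h : L, ∃ c m : L,
      c ∈ Subgroup.centralizer ((powerClosure p 1
        ((T : Subgroup L) ⊓ Subgroup.centralizer ((T : Subgroup L) : Set L)) : Subgroup L) :
          Set L) ∧
      m ∈ Subgroup.normalizer ((wOf W (T : Subgroup L) : Subgroup L) : Set L) ∧ h = c * m

variable {F : FusionSystem S}

/-- Transport of goodness along a good map `θ`. -/
theorem good_of_conj {good : Subgroup Ω → (Ω → Ω) → Prop} (G : GoodClass F good)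
    {H A : Subgroup Ω} {θ μ : Ω → Ω} (hθ : Mor F H θ) (hgθ : good H θ) (hAH : A ≤ H)
    (hμ : Mor F A μ) (hμH : ∀ y ∈ A, μ y ∈ H)
    (h' : good (img A θ) (θ ∘ μ ∘ invFn A θ)) : good A μ := by
  have hθA : Mor F A θ := hθ.restrict hAH
  have hgθA : good A θ := G.res H A θ hθ hgθ hAH
  have hB : img A μ ≤ H := by
    intro z hz
    obtain ⟨y, hy, rfl⟩ := hμ.mem_img.1 hz
    exact hμH y hy
  have hθB : Mor F (img A μ) θ := hθ.restrict hB
  have hgθB : good (img A μ) θ := G.res H _ θ hθ hgθ hB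
  have hinvB := G.inv _ θ hθB hgθB
  have hμ' : Mor F (img A θ) (θ ∘ μ ∘ invFn A θ) :=
    ((hθA.inv).comp hμ (fun y hy => hθA.invFn_mem hy)).comp hθB
      (fun y hy => hμ.mem_img_of_mem (hθA.invFn_mem hy))
  have h1m : Mor F A ((θ ∘ μ ∘ invFn A θ) ∘ θ) :=
    hθA.comp hμ' (fun y hy => hθA.mem_img_of_mem hy)
  have h1 : good A ((θ ∘ μ ∘ invFn A θ) ∘ θ) :=
    G.comp A (img A θ) θ _ hθA hμ' (fun y hy => hθA.mem_img_of_mem hy) hgθA h'
  have hval : ∀ y ∈ A, ((θ ∘ μ ∘ invFn A θ) ∘ θ) y = θ (μ y) := by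
    intro y hy
    show θ (μ (invFn A θ (θ y))) = θ (μ y)
    rw [hθA.invFn_apply hy]
  have h2 : good A (invFn (img A μ) θ ∘ ((θ ∘ μ ∘ invFn A θ) ∘ θ)) := by
    refine G.comp A (img (img A μ) θ) _ _ h1m hθB.inv (fun y hy => ?_) h1 hinvB
    rw [hval y hy]
    exact hθB.mem_img_of_mem (hμ.mem_img_of_mem hy)
  refine G.congr A _ μ h2 (fun y hy => ?_)
  show invFn (img A μ) θ (((θ ∘ μ ∘ invFn A θ) ∘ θ) y) = μ y
  rw [hval y hy]
  exact hθB.invFn_apply (hμ.mem_img_of_mem hy)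

end defs

section local_step

variable {W : ∀ (Q : Type u) [Group Q], Subgroup Q} {p : ℕ}
  {Ω : Type u} [Group Ω] {S : Subgroup Ω} {F : FusionSystem S}

theorem powerClosure_center_le (p : ℕ) (S : Subgroup Ω) :
    powerClosure p 1 (centralizerIn S S) ≤ centralizerIn S S := by
  unfold powerClosure
  rw [Subgroup.closure_le]
  rintro _ ⟨x, hx, rfl⟩
  exact Subgroup.pow_mem _ hx _

/-- An embedding of `R` onto a subgroup `T` carries `℧¹(Z(S))` into `℧¹(Z(T))` when
`Z(S) ≤ R ≤ S`. -/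
theorem map_powerClosure_center {L : Type u} [Group L] {R : Subgroup Ω} (hRS : R ≤ S)
    (hZR : centralizerIn S S ≤ R) (ι : ↥R →* L) {T : Subgroup L} (hT : T = ι.range)
    {z : Ω} (hz : z ∈ powerClosure p 1 (centralizerIn S S)) :
    aFun ι z ∈ powerClosure p 1 (T ⊓ Subgroup.centralizer (T : Set L)) := by
  have hcen : ∀ x (hx : x ∈ centralizerIn S S),
      ι ⟨x, hZR hx⟩ ∈ T ⊓ Subgroup.centralizer (T : Set L) := by
    intro x hx
    refine ⟨hT ▸ ⟨_, rfl⟩, Subgroup.mem_centralizer_iff.mpr ?_⟩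
    intro t ht
    have ht' : t ∈ ι.range := hT ▸ ht
    obtain ⟨r, rfl⟩ := ht'
    rw [← map_mul, ← map_mul]
    congr 1
    exact Subtype.ext (Subgroup.mem_centralizer_iff.mp hx.2 r (hRS r.2))
  have hle : powerClosure p 1 (centralizerIn S S) ≤
      ((powerClosure p 1 (T ⊓ Subgroup.centralizer (T : Set L))).comap ι).map R.subtype := by
    unfold powerClosure
    rw [Subgroup.closure_le]
    rintro _ ⟨x, hx, rfl⟩
    have hmem : ι (⟨x, hZR hx⟩ ^ (p ^ 1)) ∈ Subgroup.closure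
        {y : L | ∃ x ∈ T ⊓ Subgroup.centralizer (T : Set L), y = x ^ (p ^ 1)} := by
      rw [map_pow]
      exact Subgroup.subset_closure ⟨_, hcen x hx, rfl⟩
    exact ⟨⟨x, hZR hx⟩ ^ (p ^ 1), hmem, rfl⟩
  obtain ⟨z', hz', hz'z⟩ := hle hz
  have hzR : z ∈ R := hz'z ▸ z'.2
  rw [aFun_apply' ι hzR]
  have : z' = ⟨z, hzR⟩ := Subtype.ext hz'z
  rw [← this]
  exact hz'

/-- The local step: for a fully automized, receptive, centric subgroup `P`, every map of
`N_F(P)` whose source contains `P` is good, provided the maps normalizing `W(N_S(P))` are. -/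
theorem local_factor [Finite S] [Fact p.Prime] (hW2 : FunctorIso p W) (hWZ : FunctorZ p W)
    (hloc : LocFac p W) (hS : IsPGroup p S) (hF : F.IsSaturated p)
    {good : Subgroup Ω → (Ω → Ω) → Prop} (G : GoodClass F good) (ha : CenGood p F good)
    {P : Subgroup Ω} (hfa : F.IsFullyAutomized p P) (hrec : F.IsReceptive P)
    (hc : centralizerIn S P ≤ P) (hK : NorGood W F good (normalizerIn S P)) :
    ∀ (A : Subgroup Ω) (χ : Ω → Ω), P ≤ A → A ≤ normalizerIn S P → Mor F A χ →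
      (∀ y ∈ P, χ y ∈ P) → good A χ := by
  have hPS : P ≤ S := hfa.1
  have hRS : normalizerIn S P ≤ S := inf_le_left
  have : Finite (normalizerIn S P) := finite_of_le hRS
  have : Finite P := finite_of_le hPS
  have hfn : F.IsFullyNormalized P := fullyNormalized_of_fa_rec hS hfa hrec
  have hcen : F.IsCentric P := centric_of_rec hrec hc
  have hE : F.IsNormalizerSystem P (normalizerSys F P hPS) :=
    normalizerSys_isNormalizerSystem hPS
  have hEsat : (normalizerSys F P hPS).IsSaturated p :=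
    Cfsg.Agent.S5098.result p hS F hF P hfn _ hE
  have hEn : (normalizerSys F P hPS).IsNormal P :=
    Cfsg.Agent.S5126.normal_in_normalizer F P hPS _ hE
  have hEc : (normalizerSys F P hPS).IsCentric P :=
    Cfsg.Agent.S5126.centric_in_normalizer F P hcen _ hE
  have hRp : IsPGroup p (normalizerIn S P) := hS.to_le hRS
  obtain ⟨L, instL, ι, hfin, hreal, ⟨T, hT⟩, hcore⟩ :=
    Cfsg.Agent.S5090.result p hRp (normalizerSys F P hPS) ⟨hEsat, P, hEn, hEc⟩
  intro A χ hPA hAR hχ hχP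
  have hPR : P ≤ normalizerIn S P := le_normalizerIn hPS
  have hZR : centralizerIn S S ≤ normalizerIn S P := fun z hz =>
    hPR (hc ⟨hz.1, mem_centralizer_of_le hPS hz⟩)
  have hmemT : ∀ y : ↥(normalizerIn S P), ι y ∈ (T : Subgroup L) := fun y => by
    rw [hT]
    exact ⟨y, rfl⟩
  have haT : ∀ {y : Ω}, y ∈ normalizerIn S P → aFun ι y ∈ (T : Subgroup L) := fun {y} hy => by
    rw [aFun_apply' ι hy]
    exact hmemT _
  -- `χ` maps `A` into `N_S(P)`
  have hχPs := (hχ.restrict hPA).surj_of_finite hχP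
  have hχR : ∀ y ∈ A, χ y ∈ normalizerIn S P := by
    intro y hy
    refine ⟨hχ.mem hy, ?_⟩
    apply mem_normalizer_of_finite
    intro x hx
    obtain ⟨x₀, hx₀, rfl⟩ := hχPs x hx
    have h1 : χ y * χ x₀ * (χ y)⁻¹ = χ (y * x₀ * y⁻¹) := by
      rw [hχ.map_mul (A.mul_mem hy (hPA hx₀)) (A.inv_mem hy), hχ.map_mul hy (hPA hx₀),
        hχ.map_inv hy]
    rw [h1]
    exact hχP _ (conj_mem_of_mem_normalizer (hAR hy).2 hx₀)
  have hχE : Mor (normalizerSys F P hPS) A χ :=
    (mor_normalizerSys_iff hPS).2 ⟨hχ, hAR, hχR, extQ_of_le hPA hχ hχP⟩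
  obtain ⟨g, hg⟩ := Cfsg.Agent.Lib.Helper91.exists_conj_of_mor hreal hχE
  obtain ⟨c, m, hcC, hmN, hgcm⟩ := hloc L T hcore g
  -- the two subgroups of the factorization contain `T`
  have hTC : (T : Subgroup L) ≤ Subgroup.centralizer ((powerClosure p 1
      ((T : Subgroup L) ⊓ Subgroup.centralizer ((T : Subgroup L) : Set L)) : Subgroup L) :
        Set L) := by
    intro t ht
    rw [Subgroup.mem_centralizer_iff]
    intro h hh
    have h1 : powerClosure p 1
        ((T : Subgroup L) ⊓ Subgroup.centralizer ((T : Subgroup L) : Set L)) ≤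
        Subgroup.centralizer ((T : Subgroup L) : Set L) := by
      unfold powerClosure
      rw [Subgroup.closure_le]
      rintro _ ⟨x, hx, rfl⟩
      exact Subgroup.pow_mem _ hx.2 _
    exact (Subgroup.mem_centralizer_iff.mp (h1 hh) t ht).symm
  have hTM : (T : Subgroup L) ≤
      Subgroup.normalizer ((wOf W (T : Subgroup L) : Subgroup L) : Set L) := by
    intro t ht
    have h1 := normalizerIn_le_wOf W hW2 (S := (T : Subgroup L)) T.isPGroup' le_rfl
      (⟨ht, Subgroup.le_normalizer ht⟩ : t ∈ normalizerIn (T : Subgroup L) (T : Subgroup L))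
    exact h1.2
  obtain ⟨c₁, hc₁, m₁, hm₁, hcm, hm₁T⟩ := sylow_adjust T _ _ hTC hTM
    (aFun ι '' (A : Set Ω))
    (by rintro _ ⟨a, ha', rfl⟩; exact haT (hAR ha')) hcC hmN
    (by
      rintro _ ⟨a, ha', rfl⟩
      rw [← hgcm, ← hg a ha']
      exact haT (hχR a ha'))
  have hgcm' : g = c₁ * m₁ := hgcm.trans hcm
  -- transport of `W` along `ι`
  have hbij : Function.Bijective (ι.codRestrict (T : Subgroup L) hmemT) := by
    constructor
    · intro a b hab
      exact hreal.1 (congrArg Subtype.val hab)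
    · rintro ⟨t, ht⟩
      have ht' : t ∈ ι.range := hT ▸ ht
      obtain ⟨y, rfl⟩ := ht'
      exact ⟨y, rfl⟩
  have hwT : ∀ (y : Ω) (hy : y ∈ normalizerIn S P),
      y ∈ wOf W (normalizerIn S P) ↔ ι ⟨y, hy⟩ ∈ wOf W (T : Subgroup L) := fun y hy =>
    wOf_equiv W hW2 hRp (MulEquiv.ofBijective _ hbij) ⟨y, hy⟩
  have hVR : wOf W (normalizerIn S P) ≤ normalizerIn S P := wOf_le W _
  have hnV : ∀ y (hy : y ∈ wOf W (normalizerIn S P)),
      m₁ * ι ⟨y, hVR hy⟩ * m₁⁻¹ ∈ wOf W (T : Subgroup L) := fun y hy =>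
    (Subgroup.mem_normalizer_iff.1 hm₁ _).1 ((hwT y (hVR hy)).1 hy)
  have hAV : A ⊔ wOf W (normalizerIn S P) ≤ normalizerIn S P := sup_le hAR hVR
  -- the map `β` induced by `m₁` on `A W(N_S(P))`
  have hconjβ : ∀ y ∈ A ⊔ wOf W (normalizerIn S P), m₁ * aFun ι y * m₁⁻¹ ∈ ι.range := by
    have hle : A ⊔ wOf W (normalizerIn S P) ≤
        (((T : Subgroup L).comap (MulAut.conj m₁).toMonoidHom).comap ι).map
          (normalizerIn S P).subtype := by
      apply sup_le
      · intro y hy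
        refine ⟨⟨y, hAR hy⟩, ?_, rfl⟩
        show m₁ * ι ⟨y, hAR hy⟩ * m₁⁻¹ ∈ (T : Subgroup L)
        rw [← aFun_apply' ι (hAR hy)]
        exact hm₁T _ ⟨y, hy, rfl⟩
      · intro y hy
        refine ⟨⟨y, hVR hy⟩, ?_, rfl⟩
        show m₁ * ι ⟨y, hVR hy⟩ * m₁⁻¹ ∈ (T : Subgroup L)
        exact wOf_le W _ (hnV y hy)
    intro y hy
    obtain ⟨r, hr, hry⟩ := hle hy
    have hr' : m₁ * ι r * m₁⁻¹ ∈ (T : Subgroup L) := hr
    have hry' : (r : Ω) = y := hry
    rw [← hry', aFun_apply ι r, ← hT]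
    exact hr'
  obtain ⟨β, hβ, hβc⟩ := Cfsg.Agent.Lib.Helper91.exists_mor_of_conj hreal hAV m₁ hconjβ
  have hβF : Mor F (A ⊔ wOf W (normalizerIn S P)) β := mor_of_normalizerSys hPS hE hβ
  have hβV : ∀ y ∈ wOf W (normalizerIn S P), β y ∈ wOf W (normalizerIn S P) := by
    intro y hy
    have hβR : β y ∈ normalizerIn S P := hβ.mem (Subgroup.mem_sup_right hy)
    rw [hwT _ hβR, ← aFun_apply' ι hβR, hβc y (Subgroup.mem_sup_right hy), aFun_apply' ι (hVR hy)]
    exact hnV y hy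
  have hRN : normalizerIn S P ≤ normalizerIn S (wOf W (normalizerIn S P)) :=
    (le_normalizerIn hRS).trans (normalizerIn_le_wOf W hW2 hS hRS)
  have hgβ : good (A ⊔ wOf W (normalizerIn S P)) β :=
    hK _ β le_sup_right (hAV.trans hRN) hβF hβV
  have hβA : Mor F A β := hβF.restrict le_sup_left
  have hgβA : good A β := G.res _ A β hβF hgβ le_sup_left
  -- the map `γ` induced by `c₁` on `β(A) ℧¹(Z(S))`
  have hZ₁R : powerClosure p 1 (centralizerIn S S) ≤ normalizerIn S P :=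
    (powerClosure_center_le p S).trans hZR
  have hA₁R : img A β ≤ normalizerIn S P := by
    intro z hz
    obtain ⟨y, hy, rfl⟩ := hβA.mem_img.1 hz
    exact hβ.mem (Subgroup.mem_sup_left hy)
  have hιZ : ∀ z ∈ powerClosure p 1 (centralizerIn S S), c₁ * aFun ι z * c₁⁻¹ = aFun ι z := by
    intro z hz
    have h1 := map_powerClosure_center (p := p) hRS hZR ι hT hz
    have h2 := Subgroup.mem_centralizer_iff.mp hc₁ _ h1
    rw [← h2]
    group
  have hgconj : ∀ y ∈ A, c₁ * aFun ι (β y) * c₁⁻¹ = aFun ι (χ y) := by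
    intro y hy
    rw [hβc y (Subgroup.mem_sup_left hy), hg y hy, hgcm']
    group
  have hconjγ : ∀ y ∈ img A β ⊔ powerClosure p 1 (centralizerIn S S),
      c₁ * aFun ι y * c₁⁻¹ ∈ ι.range := by
    have hle : img A β ⊔ powerClosure p 1 (centralizerIn S S) ≤
        (((T : Subgroup L).comap (MulAut.conj c₁).toMonoidHom).comap ι).map
          (normalizerIn S P).subtype := by
      apply sup_le
      · intro z hz
        obtain ⟨y, hy, rfl⟩ := hβA.mem_img.1 hz
        have hβR : β y ∈ normalizerIn S P := hβ.mem (Subgroup.mem_sup_left hy)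
        refine ⟨⟨β y, hβR⟩, ?_, rfl⟩
        show c₁ * ι ⟨β y, hβR⟩ * c₁⁻¹ ∈ (T : Subgroup L)
        rw [← aFun_apply' ι hβR, hgconj y hy]
        exact haT (hχR y hy)
      · intro z hz
        refine ⟨⟨z, hZ₁R hz⟩, ?_, rfl⟩
        show c₁ * ι ⟨z, hZ₁R hz⟩ * c₁⁻¹ ∈ (T : Subgroup L)
        rw [← aFun_apply' ι (hZ₁R hz), hιZ z hz]
        exact haT (hZ₁R hz)
    intro y hy
    obtain ⟨r, hr, hry⟩ := hle hy
    have hr' : c₁ * ι r * c₁⁻¹ ∈ (T : Subgroup L) := hr
    have hry' : (r : Ω) = y := hry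
    rw [← hry', aFun_apply ι r, ← hT]
    exact hr'
  obtain ⟨γ, hγ, hγc⟩ := Cfsg.Agent.Lib.Helper91.exists_mor_of_conj hreal
    (sup_le hA₁R hZ₁R) c₁ hconjγ
  have hγF : Mor F (img A β ⊔ powerClosure p 1 (centralizerIn S S)) γ :=
    mor_of_normalizerSys hPS hE hγ
  have hγZ : ∀ z ∈ powerClosure p 1 (centralizerIn S S), γ z = z := by
    intro z hz
    apply Cfsg.Agent.Lib.Helper91.aFun_injOn hreal.1 (hγ.mem (Subgroup.mem_sup_right hz)) (hZ₁R hz)
    rw [hγc z (Subgroup.mem_sup_right hz), hιZ z hz]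
  have hgγ : good (img A β ⊔ powerClosure p 1 (centralizerIn S S)) γ :=
    ha _ γ hγF le_sup_right hγZ
  have hγA : Mor F (img A β) γ := hγF.restrict le_sup_left
  have hgγA : good (img A β) γ := G.res _ _ γ hγF hgγ le_sup_left
  have hcomp : good A (γ ∘ β) :=
    G.comp A (img A β) β γ hβA hγA (fun y hy => hβA.mem_img_of_mem hy) hgβA hgγA
  refine G.congr A _ χ hcomp (fun y hy => ?_)
  show γ (β y) = χ y
  have hβy : β y ∈ img A β := hβA.mem_img_of_mem hy
  apply Cfsg.Agent.Lib.Helper91.aFun_injOn hreal.1 (hγ.mem (Subgroup.mem_sup_left hβy)) (hχR y hy)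
  rw [hγc _ (Subgroup.mem_sup_left hβy), hgconj y hy]

end local_step

end Cfsg.Agent.Lib.Helper88.GenCtl
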