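import Cfsg.Agent.Lib.Helper88.GenCtl

/-!
# Generation of a saturated fusion system by `C_F(℧¹(Z(S)))` and `N_F(W(S))`: the induction

`gen_ctl`: let `W` be a characteristic functor on finite `p`-groups containing the centre and
satisfying the local factorization hypothesis `LocFac`, `F` a saturated fusion system over `S`
and `good` a class of maps closed under restriction, composition and inverses that contains
the maps of `F` fixing `℧¹(Z(S))` elementwise and the maps of `F` normalizing `W(S)`.  Then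
every map of `F` is good.
-/

set_option autoImplicit false
universe u

namespace Cfsg.Agent.Lib.Helper88.GenCtl

open Cfsg Cfsg.FusionSystem Cfsg.Agent.Lib.Helper90 Cfsg.Agent.Lib.Helper89.WCtl

variable {W : ∀ (Q : Type u) [Group Q], Subgroup Q} {p : ℕ}
  {Ω : Type u} [Group Ω]

theorem powerClosure_mono' {G : Type*} [Group G] (p n : ℕ) {H K : Subgroup G} (h : H ≤ K) :
    powerClosure p n H ≤ powerClosure p n K := by
  unfold powerClosure
  apply Subgroup.closure_mono
  rintro _ ⟨x, hx, rfl⟩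
  exact ⟨x, h hx, rfl⟩

/-- Maps normalizing a normal centric subgroup `U` of `S` (with source containing `U`) are
good. -/
theorem normal_centric_gen {S : Subgroup Ω} {F : FusionSystem S} [Finite S] [Fact p.Prime]
    (hW2 : FunctorIso p W) (hWZ : FunctorZ p W) (hloc : LocFac p W) (hS : IsPGroup p S)
    (hF : F.IsSaturated p) {good : Subgroup Ω → (Ω → Ω) → Prop} (G : GoodClass F good)
    (ha : CenGood p F good) (hb : NorGood W F good S) {U : Subgroup Ω} (hUS : U ≤ S)
    (hUn : S ≤ Subgroup.normalizer (U : Set Ω)) (hUc : centralizerIn S U ≤ U) :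
    ∀ (N₀ : Subgroup Ω) (χ : Ω → Ω), U ≤ N₀ → Mor F N₀ χ → (∀ y ∈ U, χ y ∈ U) →
      good N₀ χ := by
  obtain ⟨U', hconj, hfa, hrec⟩ := hF U hUS
  obtain ⟨c, hc, hcimg⟩ := isConj_iff.1 hconj
  obtain ⟨θ, hθ, rfl⟩ := exists_normalizer_map hS hfa hrec hc hcimg
  have hNU : normalizerIn S U = S := inf_eq_left.2 hUn
  rw [hNU] at hθ
  have hθS : ∀ y ∈ S, θ y ∈ S := fun y hy => hθ.mem hy
  have hsurj := hθ.surj_of_finite hθS
  have hgθ : good S θ :=
    hb S θ (wOf_le W S) (le_of_eq (normalizerIn_wOf_eq hW2 hS).symm) hθ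
      (wOf_mor_self W hW2 hS hθ hθS)
  have hU'S : img U θ ≤ S := hfa.1
  have hθU : Mor F U θ := hθ.restrict hUS
  have hU'c : centralizerIn S (img U θ) ≤ img U θ := by
    intro c' hc'
    obtain ⟨d, hd, rfl⟩ := hsurj c' hc'.1
    have hdU : d ∈ U := by
      apply hUc
      refine ⟨hd, ?_⟩
      show d ∈ Subgroup.centralizer (U : Set Ω)
      rw [Subgroup.mem_centralizer_iff]
      intro u hu
      apply hθ.inj (S.mul_mem (hUS hu) hd) (S.mul_mem hd (hUS hu))
      rw [hθ.map_mul (hUS hu) hd, hθ.map_mul hd (hUS hu)]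
      exact Subgroup.mem_centralizer_iff.1 hc'.2 (θ u) (hθU.mem_img_of_mem hu)
    exact hθU.mem_img_of_mem hdU
  have hNU' : normalizerIn S (img U θ) = S := by
    apply inf_eq_left.2
    intro a ha'
    have : Finite (img U θ) := finite_of_le hU'S
    apply mem_normalizer_of_finite
    intro y hy
    obtain ⟨b, hb', rfl⟩ := hsurj a ha'
    obtain ⟨u, hu, rfl⟩ := hθU.mem_img.1 hy
    have h1 : θ b * θ u * (θ b)⁻¹ = θ (b * u * b⁻¹) := by
      rw [hθ.map_mul (S.mul_mem hb' (hUS hu)) (S.inv_mem hb'), hθ.map_mul hb' (hUS hu),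
        hθ.map_inv hb']
    rw [h1]
    exact hθU.mem_img_of_mem (conj_mem_of_mem_normalizer (hUn hb') hu)
  have hK : NorGood W F good (normalizerIn S (img U θ)) := by
    rw [hNU']
    exact hb
  intro N₀ χ hUN hχ hχU
  have hN₀S : N₀ ≤ S := hχ.le
  apply good_of_conj G hθ hgθ hN₀S hχ (fun y hy => hχ.mem hy)
  have hθN : Mor F N₀ θ := hθ.restrict hN₀S
  refine local_factor hW2 hWZ hloc hS hF G ha hfa hrec hU'c hK (img N₀ θ) _ ?_ ?_ ?_ ?_
  · intro z hz
    obtain ⟨u, hu, rfl⟩ := hθU.mem_img.1 hz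
    exact hθN.mem_img_of_mem (hUN hu)
  · rw [hNU']
    exact hθN.img_le
  · exact ((hθN.inv).comp hχ (fun y hy => hθN.invFn_mem hy)).comp hθ
      (fun y hy => hχ.mem (hθN.invFn_mem hy))
  · intro z hz
    obtain ⟨u, hu, rfl⟩ := hθU.mem_img.1 hz
    show θ (χ (invFn N₀ θ (θ u))) ∈ img U θ
    rw [hθN.invFn_apply (hUN hu)]
    exact hθU.mem_img_of_mem (hχU u hu)

/-- The generation theorem. -/
theorem gen_ctl [Fact p.Prime] (hW2 : FunctorIso p W) (hWZ : FunctorZ p W)
    (hloc : LocFac p W) :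
    ∀ (n : ℕ) (S : Subgroup Ω) [Finite S] (F : FusionSystem S), Nat.card S = n →
      IsPGroup p S → F.IsSaturated p → ∀ good : Subgroup Ω → (Ω → Ω) → Prop,
      GoodClass F good → CenGood p F good → NorGood W F good S →
      ∀ (P : Subgroup Ω) (f : Ω → Ω), Mor F P f → good P f := by
  intro n
  induction n using Nat.strong_induction_on with
  | _ n IH =>
  intro S _ F hn hS hF good G ha hb
  refine alperin_induction_card hS hF good G.congr G.res G.comp G.inv ?_
  intro P hfa hrec IHA f hf hfP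
  have hPS : P ≤ S := hfa.1
  have : Finite P := finite_of_le hPS
  by_cases hc : centralizerIn S P ≤ P
  swap
  · -- `P` is not centric: extend `f`
    have himg : img P f = P := hf.img_eq_self hfP
    obtain ⟨f', hf', hf'eq⟩ := receptive_extend' hrec hf himg
    have hlt : P < extFn S P f := by
      refine lt_of_le_of_ne hf.le_extFn (fun h => hc ?_)
      have h1 : centralizerIn S P ≤ extFn S P f := hf.centralizerIn_le_extFn
      rwa [← h] at h1
    have : Finite (extFn S P f) := finite_of_le hf'.le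
    have hg : good (extFn S P f) f' := IHA _ f' (card_lt_of_lt hlt) hf'
    exact G.congr P f' f (G.res _ P f' hf' hg hf.le_extFn) hf'eq
  -- `P` is centric: the local step, for which we need `K(N_S(P))`
  have hKall : ∀ (m : ℕ) (T : Subgroup Ω), T ≤ S →
      (∀ θ : Ω → Ω, Mor F T θ → centralizerIn S S ≤ img T θ) →
      (Nat.card P < Nat.card T ∨ T = S) → Nat.card S - Nat.card T = m →
      NorGood W F good T := by
    intro m
    induction m using Nat.strong_induction_on with
    | _ m IHK =>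
    intro T hTS hCen hT hm
    by_cases hTeq : T = S
    · rw [hTeq]
      exact hb
    have hTlt : T < S := lt_of_le_of_ne hTS hTeq
    have hPT : Nat.card P < Nat.card T := hT.resolve_right hTeq
    have : Finite T := finite_of_le hTS
    have hTp : IsPGroup p T := hS.to_le hTS
    have hVT : wOf W T ≤ T := wOf_le W T
    have hVS : wOf W T ≤ S := hVT.trans hTS
    have : Finite (wOf W T) := finite_of_le hVS
    have hNT : T < normalizerIn S T := lt_normalizerIn hS hTlt
    have hNV : normalizerIn S T ≤ normalizerIn S (wOf W T) :=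
      normalizerIn_le_wOf W hW2 hS hTS
    have hNVS : normalizerIn S (wOf W T) ≤ S := inf_le_left
    have : Finite (normalizerIn S (wOf W T)) := finite_of_le hNVS
    have : Finite (normalizerIn S T) := finite_of_le inf_le_left
    have hc1 : Nat.card T < Nat.card (normalizerIn S T) := card_lt_of_lt hNT
    have hc2 : Nat.card (normalizerIn S T) ≤ Nat.card (normalizerIn S (wOf W T)) :=
      Subgroup.card_le_of_le hNV
    obtain ⟨V', hconj, hfaV, hrecV⟩ := hF (wOf W T) hVS
    obtain ⟨c, hc', hcimg⟩ := isConj_iff.1 hconj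
    obtain ⟨θ, hθ, hθimg⟩ := exists_normalizer_map hS hfaV hrecV hc' hcimg
    have hgθ : good (normalizerIn S (wOf W T)) θ := IHA _ θ (by omega) hθ
    have hVN : wOf W T ≤ normalizerIn S (wOf W T) := le_normalizerIn hVS
    have hθV : Mor F (wOf W T) θ := hθ.restrict hVN
    have hV'S : V' ≤ S := hfaV.1
    have hcS' : Nat.card (normalizerIn S (wOf W T)) ≤ Nat.card (normalizerIn S V') := by
      refine Cfsg.Agent.Lib.Helper91.card_le_of_mor_into hθ inf_le_left (fun a ha' => ?_)
      have := hθ.map_normalizerIn hVN ha' ha'.2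
      rwa [hθimg] at this
    have hTN : T ≤ normalizerIn S (wOf W T) := (le_normalizerIn hTS).trans hNV
    have hθT : Mor F T θ := hθ.restrict hTN
    have hθTN : ∀ y ∈ normalizerIn S (wOf W T), θ y ∈ normalizerIn S V' := fun y hy => by
      have := hθ.map_normalizerIn hVN hy hy.2
      rwa [hθimg] at this
    -- `℧¹(Z(S)) ≤ V'`
    have hZ1V' : powerClosure p 1 (centralizerIn S S) ≤ V' := by
      have hZT' : centralizerIn S S ≤ img T θ := hCen θ hθT
      have hWT' : img (wOf W T) θ = wOf W (img T θ) := wOf_mor_img W hW2 hTp hθT rfl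
      have hT'S : img T θ ≤ S := hθT.img_le
      have : Finite (img T θ) := finite_of_le hT'S
      intro z hz
      have hz' := powerClosure_center_le p S hz
      rw [← hθimg, hWT']
      exact wOf_center W hWZ (hS.to_le hT'S) (hZT' hz') (mem_centralizer_of_le hT'S hz')
    intro A μ hWA hAN hμ hμW
    have hμWs := (hμ.restrict hWA).surj_of_finite hμW
    have hμN : ∀ y ∈ A, μ y ∈ normalizerIn S (wOf W T) := by
      intro y hy
      refine ⟨hμ.mem hy, ?_⟩
      apply mem_normalizer_of_finite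
      intro x hx
      obtain ⟨x₀, hx₀, rfl⟩ := hμWs x hx
      have h1 : μ y * μ x₀ * (μ y)⁻¹ = μ (y * x₀ * y⁻¹) := by
        rw [hμ.map_mul (A.mul_mem hy (hWA hx₀)) (A.inv_mem hy), hμ.map_mul hy (hWA hx₀),
          hμ.map_inv hy]
      rw [h1]
      exact hμW _ (conj_mem_of_mem_normalizer (hAN hy).2 hx₀)
    apply good_of_conj G hθ hgθ hAN hμ hμN
    have hθA : Mor F A θ := hθ.restrict hAN
    have hμ' : Mor F (img A θ) (θ ∘ μ ∘ invFn A θ) :=
      ((hθA.inv).comp hμ (fun y hy => hθA.invFn_mem hy)).comp hθ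
        (fun y hy => hμN _ (hθA.invFn_mem hy))
    have hμ'val : ∀ a ∈ A, (θ ∘ μ ∘ invFn A θ) (θ a) = θ (μ a) := by
      intro a ha'
      show θ (μ (invFn A θ (θ a))) = θ (μ a)
      rw [hθA.invFn_apply ha']
    have hV'A : V' ≤ img A θ := by
      rw [← hθimg]
      intro z hz
      obtain ⟨w, hw, rfl⟩ := hθV.mem_img.1 hz
      exact hθA.mem_img_of_mem (hWA hw)
    have hμ'V : ∀ y ∈ V', (θ ∘ μ ∘ invFn A θ) y ∈ V' := by
      intro z hz
      rw [← hθimg] at hz ⊢
      obtain ⟨w, hw, rfl⟩ := hθV.mem_img.1 hz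
      rw [hμ'val w (hWA hw)]
      exact hθV.mem_img_of_mem (hμW w hw)
    have : Finite V' := finite_of_le hV'S
    by_cases hS' : normalizerIn S V' = S
    · -- `V'` is normal in `S`
      have hV'n : S ≤ Subgroup.normalizer (V' : Set Ω) := by
        intro s hs
        have h : s ∈ normalizerIn S V' := by rw [hS']; exact hs
        exact h.2
      have hμ'V' : Mor F V' (θ ∘ μ ∘ invFn A θ) := hμ'.restrict hV'A
      have himg' : img V' (θ ∘ μ ∘ invFn A θ) = V' := hμ'V'.img_eq_self hμ'V
      obtain ⟨ν₂, hν₂, hν₂eq⟩ := receptive_extend' hrecV hμ'V' himg'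
      have hA'ext : img A θ ≤ extFn S V' (θ ∘ μ ∘ invFn A θ) := by
        intro a ha'
        rw [hμ'V'.mem_extFn]
        refine ⟨hμ'.le ha', hV'n (hμ'.le ha'), (θ ∘ μ ∘ invFn A θ) a, hμ'.mem ha',
          fun x hx => ?_⟩
        have hxA := hV'A hx
        rw [hμ'.map_mul (Subgroup.mul_mem _ ha' hxA) (Subgroup.inv_mem _ ha'),
          hμ'.map_mul ha' hxA, hμ'.map_inv ha']
      have hUle : V' ⊔ centralizerIn S V' ≤ extFn S V' (θ ∘ μ ∘ invFn A θ) :=
        sup_le hμ'V'.le_extFn hμ'V'.centralizerIn_le_extFn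
      have hν₂U : Mor F (V' ⊔ centralizerIn S V') ν₂ := hν₂.restrict hUle
      have himg₂ : img V' ν₂ = V' := by
        rw [img_congr hν₂eq]
        exact himg'
      have hUU : ∀ z ∈ V' ⊔ centralizerIn S V', ν₂ z ∈ V' ⊔ centralizerIn S V' := by
        refine hν₂U.map_sup_le (fun y hy => by rw [hν₂eq y hy]; exact hμ'V y hy)
          (fun c hc => ?_)
        have := Cfsg.Agent.Lib.Helper91.map_centralizerIn hν₂U
          (le_sup_left : V' ≤ V' ⊔ centralizerIn S V') (le_sup_right (a := V') hc) hc.2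
        rwa [himg₂] at this
      have hUS : V' ⊔ centralizerIn S V' ≤ S := hν₂U.le
      have hUn := Cfsg.Agent.Lib.Helper91.normalizer_sup_centralizer hV'S hV'n
      have hUc : centralizerIn S (V' ⊔ centralizerIn S V') ≤ V' ⊔ centralizerIn S V' := by
        intro z hz
        exact Subgroup.mem_sup_right
          ⟨hz.1, Subgroup.centralizer_le (fun y hy => Subgroup.mem_sup_left hy) hz.2⟩
      have hgν₂ : good (extFn S V' (θ ∘ μ ∘ invFn A θ)) ν₂ :=
        normal_centric_gen hW2 hWZ hloc hS hF G ha hb hUS hUn hUc _ ν₂ hUle hν₂ hUU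
      have hν₂A : Mor F (img A θ) ν₂ := hν₂.restrict hA'ext
      have hgν₂A : good (img A θ) ν₂ := G.res _ _ ν₂ hν₂ hgν₂ hA'ext
      have hν₂V : Mor F V' ν₂ := hν₂.restrict hμ'V'.le_extFn
      -- the map `δ = μ' ∘ ν₂⁻¹` fixes `V'` elementwise
      have hδ : Mor F (img (img A θ) ν₂) ((θ ∘ μ ∘ invFn A θ) ∘ invFn (img A θ) ν₂) :=
        (hν₂A.inv).comp hμ' (fun y hy => hν₂A.invFn_mem hy)
      have hδV : ∀ v ∈ V', ((θ ∘ μ ∘ invFn A θ) ∘ invFn (img A θ) ν₂) v = v := by
        intro v hv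
        have hv' : v ∈ img V' ν₂ := by rw [himg₂]; exact hv
        obtain ⟨v₀, hv₀, rfl⟩ := hν₂V.mem_img.1 hv'
        show (θ ∘ μ ∘ invFn A θ) (invFn (img A θ) ν₂ (ν₂ v₀)) = ν₂ v₀
        rw [hν₂A.invFn_apply (hV'A hv₀), hν₂eq v₀ hv₀]
      have hV'B : V' ≤ img (img A θ) ν₂ := by
        intro v hv
        have hv' : v ∈ img V' ν₂ := by rw [himg₂]; exact hv
        obtain ⟨v₀, hv₀, rfl⟩ := hν₂V.mem_img.1 hv'
        exact hν₂A.mem_img_of_mem (hV'A hv₀)
      have hgδ : good (img (img A θ) ν₂) ((θ ∘ μ ∘ invFn A θ) ∘ invFn (img A θ) ν₂) :=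
        ha _ _ hδ (hZ1V'.trans hV'B) (fun z hz => hδV z (hZ1V' hz))
      have hcomp : good (img A θ)
          (((θ ∘ μ ∘ invFn A θ) ∘ invFn (img A θ) ν₂) ∘ ν₂) :=
        G.comp _ _ ν₂ _ hν₂A hδ (fun y hy => hν₂A.mem_img_of_mem hy) hgν₂A hgδ
      refine G.congr _ _ _ hcomp (fun y hy => ?_)
      show (θ ∘ μ ∘ invFn A θ) (invFn (img A θ) ν₂ (ν₂ y)) = (θ ∘ μ ∘ invFn A θ) y
      rw [hν₂A.invFn_apply hy]
    · -- `N_S(V') < S`: induction on `|S|`
      have hS'lt : normalizerIn S V' < S := lt_of_le_of_ne inf_le_left hS'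
      have : Finite (normalizerIn S V') := finite_of_le inf_le_left
      have hS'p : IsPGroup p (normalizerIn S V') := hS.to_le inf_le_left
      have hfnV : F.IsFullyNormalized V' := fullyNormalized_of_fa_rec hS hfaV hrecV
      have hE : F.IsNormalizerSystem V' (normalizerSys F V' hV'S) :=
        normalizerSys_isNormalizerSystem hV'S
      have hEsat := Cfsg.Agent.S5098.result p hS F hF V' hfnV _ hE
      have hcardS' : Nat.card (normalizerIn S V') < Nat.card S := card_lt_of_lt hS'lt
      have hG' : GoodClass (normalizerSys F V' hV'S) good :=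
        ⟨G.congr,
          fun P₁ P₀ f₁ hf₁ hg h0 => G.res P₁ P₀ f₁ (mor_of_normalizerSys hV'S hE hf₁) hg h0,
          fun P₁ Q₁ f₁ g₁ hf₁ hg₁ hPQ h1 h2 => G.comp P₁ Q₁ f₁ g₁
            (mor_of_normalizerSys hV'S hE hf₁) (mor_of_normalizerSys hV'S hE hg₁) hPQ h1 h2,
          fun P₁ f₁ hf₁ hg => G.inv P₁ f₁ (mor_of_normalizerSys hV'S hE hf₁) hg⟩
      have hZZ : centralizerIn S S ≤
          centralizerIn (normalizerIn S V') (normalizerIn S V') := by
        intro z hz
        refine ⟨⟨hz.1, ?_⟩, mem_centralizer_of_le inf_le_left hz⟩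
        apply mem_normalizer_of_finite
        intro v hv
        have h1 := Subgroup.mem_centralizer_iff.1 hz.2 v (hV'S hv)
        rw [← h1, mul_inv_cancel_right]
        exact hv
      have hpc := powerClosure_mono' p 1 hZZ
      have ha' : CenGood p (normalizerSys F V' hV'S) good := by
        intro P₁ f₁ hf₁ hZP hfix
        exact ha P₁ f₁ (mor_of_normalizerSys hV'S hE hf₁) (hpc.trans hZP)
          (fun z hz => hfix z (hpc hz))
      have hCen' : ∀ θ' : Ω → Ω, Mor F (normalizerIn S V') θ' →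
          centralizerIn S S ≤ img (normalizerIn S V') θ' := by
        intro θ' hθ' z hz
        have h1 : Mor F T (θ' ∘ θ) := hθT.comp hθ' (fun y hy => hθTN y (hTN hy))
        have h2 := hCen _ h1 hz
        obtain ⟨t, ht, rfl⟩ := h1.mem_img.1 h2
        exact hθ'.mem_img_of_mem (hθTN t (hTN ht))
      have hb' : NorGood W (normalizerSys F V' hV'S) good (normalizerIn S V') := by
        intro A₁ μ₁ hWA₁ hA₁N hμ₁ hμ₁W
        exact IHK (Nat.card S - Nat.card (normalizerIn S V')) (by omega)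
          (normalizerIn S V') inf_le_left hCen' (Or.inl (by omega)) rfl A₁ μ₁ hWA₁
          (fun a ha' => ⟨(hA₁N ha').1.1, (hA₁N ha').2⟩)
          (mor_of_normalizerSys hV'S hE hμ₁) hμ₁W
      have hall := IH (Nat.card (normalizerIn S V')) (by rw [← hn]; exact hcardS')
        (normalizerIn S V') (normalizerSys F V' hV'S) rfl hS'p hEsat good hG' ha' hb'
      have hA'N : img A θ ≤ normalizerIn S V' := by
        intro z hz
        obtain ⟨a, ha', rfl⟩ := hθA.mem_img.1 hz
        exact hθTN a (hAN ha')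
      have hμ'E : Mor (normalizerSys F V' hV'S) (img A θ) (θ ∘ μ ∘ invFn A θ) := by
        refine (mor_normalizerSys_iff hV'S).2 ⟨hμ', hA'N, fun z hz => ?_,
          extQ_of_le hV'A hμ' hμ'V⟩
        obtain ⟨a, ha', rfl⟩ := hθA.mem_img.1 hz
        rw [hμ'val a ha']
        exact hθTN _ (hμN a ha')
      exact hall (img A θ) _ hμ'E
  by_cases hPeq : P = S
  · rw [hPeq] at hf hfP ⊢
    exact hb S f (wOf_le W S) (le_of_eq (normalizerIn_wOf_eq hW2 hS).symm) hf
      (wOf_mor_self W hW2 hS hf hfP)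
  · have hPlt : P < S := lt_of_le_of_ne hPS hPeq
    have : Finite (normalizerIn S P) := finite_of_le inf_le_left
    have hPR : P ≤ normalizerIn S P := le_normalizerIn hPS
    have hCenR : ∀ θ : Ω → Ω, Mor F (normalizerIn S P) θ →
        centralizerIn S S ≤ img (normalizerIn S P) θ := by
      intro θ hθ z hz
      have hcen : F.IsCentric P := centric_of_rec hrec hc
      have hθP : Mor F P θ := hθ.restrict hPR
      have h1 : centralizerIn S (img P θ) ≤ img P θ :=
        hcen.2 (img P θ) (isConj_iff.2 ⟨θ, hθP, rfl⟩)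
      have h2 : z ∈ img P θ := h1 ⟨hz.1, mem_centralizer_of_le hθP.img_le hz⟩
      obtain ⟨y, hy, rfl⟩ := hθP.mem_img.1 h2
      exact hθ.mem_img_of_mem (hPR hy)
    have hK := hKall _ (normalizerIn S P) inf_le_left hCenR
      (Or.inl (card_lt_of_lt (lt_normalizerIn hS hPlt))) rfl
    exact local_factor hW2 hWZ hloc hS hF G ha hfa hrec hc hK P f le_rfl hPR hf hfP

end Cfsg.Agent.Lib.Helper88.GenCtl
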