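import Mathlib

/-! Project S2075 (helper70, `|Out(He)| = 2`), piece SYLC (helper88): a Sylow 2-subgroup of `C(z)`
has centre `⟨z⟩`. -/

set_option autoImplicit false
set_option linter.unusedVariables false

namespace Cfsg.Agent.Lib.Helper88.HeOSYLC

theorem sylow_center_exists {G : Type} [Group G] [Finite G] (z : G) (e : Fin 16 → G)
    (hcard : Nat.card (Subgroup.centralizer ({z} : Set G)) = 21504)
    (he0 : e 0 = 1) (he1 : e 1 = z) (hz1 : z ≠ 1)
    (hinj : Function.Injective e)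
    (hmul : ∀ i j, ∃ k, e i * e j = e k)
    (hez : ∀ i, e i * z = z * e i)
    (hnorm : ∀ c : G, c * z = z * c → ∀ i, ∃ j, c * e i * c⁻¹ = e j)
    (hself : ∀ c : G, c * z = z * c → (∀ i, c * e i = e i * c) → ∃ i, c = e i)
    (htr : ∀ j : Fin 16, j ≠ 0 → j ≠ 1 → ∃ c : G, c * z = z * c ∧ c * e 2 * c⁻¹ = e j) :
    ∃ S : Subgroup G, Nat.card S = 2 ^ 10 ∧ z ∈ S ∧ (∀ y ∈ S, z * y = y * z) ∧
      ∀ x ∈ S, (∀ y ∈ S, x * y = y * x) → x = 1 ∨ x = z := by
  classical
  obtain ⟨C, hCdef⟩ : ∃ C : Subgroup G, C = Subgroup.centralizer ({z} : Set G) := ⟨_, rfl⟩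
  rw [← hCdef] at hcard
  have hCmem : ∀ g : G, g ∈ C ↔ g * z = z * g := by
    intro g
    rw [hCdef, Subgroup.mem_centralizer_iff]
    constructor
    · intro h
      exact (h z rfl).symm
    · intro h y hy
      rw [Set.mem_singleton_iff] at hy
      rw [hy]
      exact h.symm
  have hC : ∀ i, e i ∈ C := fun i => (hCmem _).mpr (hez i)
  have hC1 : z ∈ C := (hCmem z).mpr rfl
  have hpow : ∀ i (n : ℕ), ∃ k, e i ^ n = e k := by
    intro i n
    induction n with
    | zero => exact ⟨0, by rw [pow_zero, he0]⟩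
    | succ n ih =>
      obtain ⟨k, hk⟩ := ih
      obtain ⟨k', hk'⟩ := hmul k i
      exact ⟨k', by rw [pow_succ, hk, hk']⟩
  have hinv : ∀ i, ∃ k, (e i)⁻¹ = e k := by
    intro i
    obtain ⟨k, hk⟩ := hpow i (orderOf (e i) - 1)
    refine ⟨k, ?_⟩
    rw [← hk]
    apply inv_eq_of_mul_eq_one_right
    rw [← pow_succ', Nat.sub_add_cancel (orderOf_pos (e i)), pow_orderOf_eq_one]
  obtain ⟨W, hWmem⟩ : ∃ W : Subgroup C, ∀ y : C, y ∈ W ↔ ∃ i, (y : G) = e i := by
    refine ⟨{ carrier := {y : C | ∃ i, (y : G) = e i}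
              mul_mem' := ?_
              one_mem' := ?_
              inv_mem' := ?_ }, fun y => Iff.rfl⟩
    · rintro a b ⟨i, hi⟩ ⟨j, hj⟩
      obtain ⟨k, hk⟩ := hmul i j
      exact ⟨k, by rw [Subgroup.coe_mul, hi, hj, hk]⟩
    · exact ⟨0, by rw [Subgroup.coe_one, he0]⟩
    · rintro a ⟨i, hi⟩
      obtain ⟨k, hk⟩ := hinv i
      exact ⟨k, by rw [Subgroup.coe_inv, hi, hk]⟩
  have hWcard : Nat.card W = 2 ^ 4 := by
    have hbij : Function.Bijective
        (fun j : Fin 16 => (⟨⟨e j, hC j⟩, (hWmem _).mpr ⟨j, rfl⟩⟩ : W)) := by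
      constructor
      · intro a b hab
        apply hinj
        exact congrArg (fun w : W => ((w : C) : G)) hab
      · rintro ⟨y, hy⟩
        obtain ⟨i, hi⟩ := (hWmem y).mp hy
        exact ⟨i, Subtype.ext (Subtype.ext hi.symm)⟩
    rw [← Nat.card_eq_of_bijective _ hbij, Nat.card_fin]
    norm_num
  have hW2 : IsPGroup 2 W := IsPGroup.of_card hWcard
  obtain ⟨P, hWP⟩ := hW2.exists_le_sylow
  obtain ⟨Q, hQ⟩ : ∃ Q : Subgroup C, Q = (P : Subgroup C) := ⟨_, rfl⟩
  have hWQ : W ≤ Q := by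
    rw [hQ]
    exact hWP
  have hQp : IsPGroup 2 Q := by
    rw [hQ]
    exact P.isPGroup'
  have hQidx : ¬ 2 ∣ Q.index := by
    rw [hQ]
    exact P.not_dvd_index
  have hQcard : Nat.card Q = 2 ^ 10 := by
    obtain ⟨k, hk⟩ := IsPGroup.iff_card.mp hQp
    have hmulidx := Subgroup.card_mul_index Q
    rw [hcard, hk] at hmulidx
    have hk14 : k < 15 := by
      by_contra hk15
      push Not at hk15
      have h1 := Nat.pow_le_pow_right (show 0 < 2 by norm_num) hk15
      have h2 : 2 ^ k ≤ 21504 := Nat.le_of_dvd (by norm_num) ⟨Q.index, hmulidx.symm⟩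
      norm_num at h1
      omega
    rw [hk]
    interval_cases k <;> first | rfl | (exfalso; norm_num at hmulidx; omega)
  refine ⟨Q.map C.subtype, ?_, ?_, ?_, ?_⟩
  · rw [Subgroup.card_subtype, hQcard]
  · exact Subgroup.mem_map.mpr ⟨⟨z, hC1⟩, hWQ ((hWmem _).mpr ⟨1, he1.symm⟩), rfl⟩
  · intro y hy
    obtain ⟨y', -, hyy'⟩ := Subgroup.mem_map.mp hy
    have hyv : (y' : G) = y := hyy'
    rw [← hyv]
    exact ((hCmem _).mp y'.2).symm
  · intro x hxS hx
    obtain ⟨x', hx'Q, hxx'⟩ := Subgroup.mem_map.mp hxS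
    have hxv : (x' : G) = x := hxx'
    have hxz : x * z = z * x := by
      rw [← hxv]
      exact (hCmem _).mp x'.2
    have heS : ∀ i, e i ∈ Q.map C.subtype := fun i =>
      Subgroup.mem_map.mpr ⟨⟨e i, hC i⟩, hWQ ((hWmem _).mpr ⟨i, rfl⟩), rfl⟩
    have hxe : ∀ i, x * e i = e i * x := fun i => hx (e i) (heS i)
    obtain ⟨i, hi⟩ := hself x hxz hxe
    by_cases hi0 : i = 0
    · left
      rw [hi, hi0, he0]
    by_cases hi1 : i = 1
    · right
      rw [hi, hi1, he1]
    exfalso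
    have hA : ∀ c : G, c * z = z * c → ∀ j, c * e i * c⁻¹ = e j → j ≠ 0 ∧ j ≠ 1 := by
      intro c hc j hj
      constructor
      · intro hj0
        rw [hj0, he0, mul_inv_eq_iff_eq_mul, one_mul] at hj
        have h1 : e i = 1 := mul_left_cancel (a := c) (by rw [hj, mul_one])
        exact hi0 (hinj (h1.trans he0.symm))
      · intro hj1
        rw [hj1, he1, mul_inv_eq_iff_eq_mul, ← hc] at hj
        have h1 : e i = z := mul_left_cancel hj
        exact hi1 (hinj (h1.trans he1.symm))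
    have hB : ∀ j : Fin 16, j ≠ 0 → j ≠ 1 →
        ∃ c : G, c * z = z * c ∧ c * e i * c⁻¹ = e j := by
      intro j hj0 hj1
      obtain ⟨c1, hc1z, hc1⟩ := htr i hi0 hi1
      obtain ⟨c2, hc2z, hc2⟩ := htr j hj0 hj1
      refine ⟨c2 * c1⁻¹, (hCmem _).mp (C.mul_mem ((hCmem _).mpr hc2z)
        (C.inv_mem ((hCmem _).mpr hc1z))), ?_⟩
      rw [← hc1, ← hc2]
      group
    have hxC : (x' : G) = e i := hxv.trans hi
    have horb : MulAction.orbit (ConjAct C) x' =
        (fun j : Fin 16 => (⟨e j, hC j⟩ : C)) '' {j : Fin 16 | j ≠ 0 ∧ j ≠ 1} := by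
      ext y
      rw [MulAction.mem_orbit_iff]
      constructor
      · rintro ⟨c, rfl⟩
        have h1 : ((ConjAct.ofConjAct c : C) : G) * e i * ((ConjAct.ofConjAct c : C) : G)⁻¹ =
            ((c • x' : C) : G) := by
          rw [ConjAct.smul_def, ← hxC]
          simp only [Subgroup.coe_mul, Subgroup.coe_inv]
        obtain ⟨j, hj⟩ := hnorm _ ((hCmem _).mp (ConjAct.ofConjAct c : C).2) i
        have hj01 := hA _ ((hCmem _).mp (ConjAct.ofConjAct c : C).2) j hj
        exact ⟨j, hj01, Subtype.ext (by rw [← h1, hj])⟩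
      · rintro ⟨j, ⟨hj0, hj1⟩, rfl⟩
        obtain ⟨c, hcz, hc⟩ := hB j hj0 hj1
        refine ⟨ConjAct.toConjAct (⟨c, (hCmem _).mpr hcz⟩ : C), ?_⟩
        rw [ConjAct.toConjAct_smul]
        apply Subtype.ext
        simp only [Subgroup.coe_mul, Subgroup.coe_inv]
        rw [hxC, hc]
    have hncard : ((fun j : Fin 16 => (⟨e j, hC j⟩ : C)) ''
        {j : Fin 16 | j ≠ 0 ∧ j ≠ 1}).ncard = 14 := by
      rw [Set.ncard_image_of_injective]
      · have h1 : ({j : Fin 16 | j ≠ 0 ∧ j ≠ 1} : Set (Fin 16)) =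
            ↑(Finset.univ.filter (fun j : Fin 16 => j ≠ 0 ∧ j ≠ 1)) := by
          ext j
          simp
        rw [h1, Set.ncard_coe_finset]
        rfl
      · intro a b hab
        exact hinj (congrArg (fun w : C => (w : G)) hab)
    have hidx := MulAction.index_stabilizer (ConjAct C) x'
    rw [horb, hncard] at hidx
    have hle : Q.map (ConjAct.toConjAct (G := C)).toMonoidHom ≤
        MulAction.stabilizer (ConjAct C) x' := by
      rintro _ ⟨g, hg, rfl⟩
      rw [MulAction.mem_stabilizer_iff]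
      show ConjAct.toConjAct g • x' = x'
      rw [ConjAct.toConjAct_smul]
      have h1 : (g : G) ∈ Q.map C.subtype := Subgroup.mem_map.mpr ⟨g, hg, rfl⟩
      have h2 := hx (g : G) h1
      apply Subtype.ext
      simp only [Subgroup.coe_mul, Subgroup.coe_inv]
      rw [hxv, ← h2, mul_assoc, mul_inv_cancel, mul_one]
    have hdvd : Nat.card Q ∣ Nat.card (MulAction.stabilizer (ConjAct C) x') := by
      have h1 := Subgroup.card_dvd_of_le hle
      rwa [Subgroup.card_map_of_injective (ConjAct.toConjAct (G := C)).injective] at h1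
    have hmul2 := Subgroup.card_mul_index (MulAction.stabilizer (ConjAct C) x')
    rw [hidx] at hmul2
    have hcc : Nat.card (ConjAct C) = 21504 := hcard
    rw [hcc] at hmul2
    rw [hQcard] at hdvd
    obtain ⟨k, hk⟩ := hdvd
    rw [hk] at hmul2
    norm_num at hmul2
    omega

end Cfsg.Agent.Lib.Helper88.HeOSYLC
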