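import Cfsg.Agent.Lib.Helper2.JZ
import Cfsg.Agent.Lib.Helper2.ThompsonMain
import Cfsg.Agent.Lib.Helper14.PCore
import Cfsg.Agent.Lib.Helper87.Model

/-!
# The Thompson subgroup as a functor on finite `p`-groups

`jW Q = J(Q)` (generated by the abelian subgroups of largest order), with the properties used by
the functor statements for fusion systems: nontrivial, invariant under isomorphisms, containing
the centre, and the quadratic-element property (Thompson replacement): if `J(P)` is not normal in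
`G` then some `g ∈ P` outside `O_p(G)` has `[Z(O_p(G)), g, g] = 1`.
-/

set_option autoImplicit false

namespace Cfsg.Agent.Lib.Helper88

open Cfsg Cfsg.Agent.Lib.Helper2

universe u

section JFun

/-- The Thompson subgroup (abelian version) as a functor on groups. -/
def jW : ∀ (Q : Type u) [Group Q], Subgroup Q := fun Q _ => thompsonSubgroupA Q

theorem jW_eq_JJ_top (Q : Type u) [Group Q] : jW Q = JJ (⊤ : Subgroup Q) := by
  unfold jW thompsonSubgroupA JJ
  congr 1
  ext A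
  constructor
  · rintro ⟨hA, hmax⟩
    exact ⟨le_top, hA, fun B _ hB => hmax B hB⟩
  · rintro ⟨-, hA, hmax⟩
    exact ⟨hA, fun B hB => hmax B le_top hB⟩

theorem jW_map_subtype {G : Type u} [Group G] (P : Subgroup G) :
    (jW ↥P).map P.subtype = thompsonSubgroupAOf P := rfl

theorem jW_ne_bot (Q : Type u) [Group Q] [Finite Q] [Nontrivial Q] : jW Q ≠ ⊥ := by
  rw [jW_eq_JJ_top]
  apply JJ_ne_bot
  intro h
  obtain ⟨x, hx⟩ := exists_ne (1 : Q)
  have h1 : x ∈ (⊤ : Subgroup Q) := Subgroup.mem_top x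
  rw [h] at h1
  exact hx (Subgroup.mem_bot.mp h1)

theorem jW_map (Q R : Type u) [Group Q] [Group R] (φ : Q ≃* R) :
    (jW Q).map φ.toMonoidHom = jW R := by
  rw [jW_eq_JJ_top, jW_eq_JJ_top,
    JJ_map φ.toMonoidHom (fun x _ hx => φ.injective (hx.trans (map_one φ).symm))]
  congr 1
  exact Subgroup.map_top_of_surjective _ φ.surjective

theorem center_le_jW (Q : Type u) [Group Q] [Finite Q] : Subgroup.center Q ≤ jW Q := by
  obtain ⟨A, hA⟩ := exists_maxAb (⊤ : Subgroup Q)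
  have hA' : A ∈ maxAbelianSubgroups Q := ⟨hA.2.1, fun B hB => hA.2.2 B le_top hB⟩
  have h1 : Subgroup.center Q ≤ A :=
    Cfsg.Agent.Lib.Helper59.le_of_comm_maxAbelian A (Subgroup.center Q) hA' inferInstance
      (fun d hd a _ => (Subgroup.mem_center_iff.mp hd a).symm)
  rw [jW_eq_JJ_top]
  exact h1.trans (le_JJ hA)

/-- The quadratic-element property of `J` (from Thompson's replacement theorem). -/
theorem jW_quadratic {p : ℕ} [Fact p.Prime] (G : Type u) [Group G] [Finite G] (P : Sylow p G)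
    (hn : ¬ (((jW ↥(P : Subgroup G)).map (P : Subgroup G).subtype : Subgroup G)).Normal) :
    ∃ g : G, g ∈ (P : Subgroup G) ∧ g ∉ Cfsg.pCore p G ∧
      ⁅⁅Subgroup.center ↥(Cfsg.pCore p G) |>.map (Cfsg.pCore p G).subtype, Subgroup.zpowers g⁆,
        Subgroup.zpowers g⁆ = ⊥ := by
  classical
  rw [jW_map_subtype, thompsonSubgroupAOf_eq_JJ] at hn
  have hQn : (Cfsg.pCore p G).Normal := Cfsg.Agent.Lib.Helper87.pCore_normal_inst p G
  have hQP : Cfsg.pCore p G ≤ (P : Subgroup G) := Cfsg.Agent.Lib.Helper14.pCore_le_sylow P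
  have hQcore : Cfsg.pCore p G ≤ (P : Subgroup G).normalCore :=
    Subgroup.normal_le_normalCore.mpr hQP
  -- `V = Z(O_p(G))`
  obtain ⟨V, hVdef⟩ : ∃ V : Subgroup G,
      V = (Subgroup.center ↥(Cfsg.pCore p G)).map (Cfsg.pCore p G).subtype := ⟨_, rfl⟩
  have hmemV : ∀ v : G, v ∈ V ↔ v ∈ Cfsg.pCore p G ∧ ∀ q ∈ Cfsg.pCore p G, q * v = v * q := by
    intro v
    rw [hVdef]
    constructor
    · rintro ⟨c, hc, rfl⟩
      refine ⟨c.2, fun q hq => ?_⟩
      have h1 := Subgroup.mem_center_iff.mp hc ⟨q, hq⟩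
      exact congrArg Subtype.val h1
    · rintro ⟨hv, hcomm⟩
      refine ⟨⟨v, hv⟩, Subgroup.mem_center_iff.mpr (fun q => Subtype.ext (hcomm q q.2)), rfl⟩
  have hVQ : V ≤ Cfsg.pCore p G := fun v hv => ((hmemV v).mp hv).1
  have hVP : V ≤ (P : Subgroup G) := hVQ.trans hQP
  have hVc : IsMulCommutative V := by
    apply Cfsg.Agent.Lib.Helper59.isMulCommutative_of_mul_comm
    intro a ha b hb
    exact (((hmemV b).mp hb).2 a (hVQ ha))
  have hVnorm : ∀ g : G, ∀ v ∈ V, g * v * g⁻¹ ∈ V := by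
    intro g v hv
    obtain ⟨hvQ, hvc⟩ := (hmemV v).mp hv
    refine (hmemV _).mpr ⟨hQn.conj_mem v hvQ g, fun q hq => ?_⟩
    have h1 := hvc (g⁻¹ * q * g⁻¹⁻¹) (hQn.conj_mem q hq g⁻¹)
    have e1 : q * (g * v * g⁻¹) = g * ((g⁻¹ * q * g⁻¹⁻¹) * v) * g⁻¹ := by group
    have e2 : g * v * g⁻¹ * q = g * (v * (g⁻¹ * q * g⁻¹⁻¹)) * g⁻¹ := by group
    rw [e1, e2, h1]
  have hVn : (P : Subgroup G) ≤ Subgroup.normalizer (V : Set G) := by
    intro g _
    rw [Subgroup.mem_normalizer_iff]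
    intro v
    constructor
    · intro hv
      exact hVnorm g v hv
    · intro hv
      have h1 := hVnorm g⁻¹ _ hv
      have e : g⁻¹ * (g * v * g⁻¹) * g⁻¹⁻¹ = v := by group
      rwa [e] at h1
  -- some abelian subgroup of largest order is not inside `O_p(G)`
  have hex : ∃ A₀ : Subgroup G, MaxAb (P : Subgroup G) A₀ ∧ ¬ A₀ ≤ Cfsg.pCore p G := by
    by_contra hcon
    push Not at hcon
    have hJ : JJ (P : Subgroup G) ≤ (P : Subgroup G).normalCore :=
      (sSup_le (fun A hA => hcon A hA)).trans hQcore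
    have htop := normalizer_JJ_eq_top_of_le_core P hJ
    exact hn (Subgroup.normalizer_eq_top_iff.mp htop)
  obtain ⟨A₀, hA₀, hA₀Q⟩ := hex
  -- a member `A` not inside `O_p(G)` with `[V, A] ≤ A`
  have hkey : ∃ A : Subgroup G, MaxAb (P : Subgroup G) A ∧ ¬ A ≤ Cfsg.pCore p G ∧
      ∀ v ∈ V, ∀ a ∈ A, v * a * v⁻¹ * a⁻¹ ∈ A := by
    by_cases hc : A₀ ≤ Subgroup.centralizer (V : Set G)
    · refine ⟨A₀, hA₀, hA₀Q, fun v hv a ha => ?_⟩
      have h1 := Subgroup.mem_centralizer_iff.mp (hc ha) v hv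
      have e : v * a * v⁻¹ * a⁻¹ = 1 := by
        rw [h1]
        group
      rw [e]
      exact Subgroup.one_mem _
    · obtain ⟨A, hA, hAc, hAn⟩ := exists_maxAb_normalized (P : Subgroup G) V P.isPGroup' hVP hVc
        hVn A₀ hA₀ hc
      refine ⟨A, hA, fun hAQ => hAc (fun a ha => ?_), fun v hv a ha => ?_⟩
      · rw [Subgroup.mem_centralizer_iff]
        intro v hv
        exact (((hmemV v).mp hv).2 a (hAQ ha)).symm
      · have h1 : v * a * v⁻¹ ∈ A := (Subgroup.mem_normalizer_iff.mp (hAn hv) a).mp ha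
        exact A.mul_mem h1 (A.inv_mem ha)
  obtain ⟨A, hA, hAQ, hVA⟩ := hkey
  obtain ⟨g, hgA, hgQ⟩ := SetLike.not_le_iff_exists.mp hAQ
  refine ⟨g, hA.1 hgA, hgQ, ?_⟩
  rw [← hVdef]
  have hAc := Cfsg.Agent.Lib.Helper59.mul_comm_of_isMulCommutative hA.2.1
  have h1 : ⁅V, Subgroup.zpowers g⁆ ≤ A := by
    rw [Subgroup.commutator_le]
    intro v hv z hz
    have hzA : z ∈ A := (Subgroup.zpowers_le.mpr hgA) hz
    exact hVA v hv z hzA
  rw [eq_bot_iff, Subgroup.commutator_le]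
  intro x hx z hz
  have hzA : z ∈ A := (Subgroup.zpowers_le.mpr hgA) hz
  have hxA : x ∈ A := h1 hx
  rw [Subgroup.mem_bot, commutatorElement_def, hAc x hxA z hzA]
  group

end JFun

end Cfsg.Agent.Lib.Helper88
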