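import Mathlib
import Cfsg.Prelude.Def_Characters
import Cfsg.Agent.Lib.Helper22.PTDefs
import Cfsg.Agent.Lib.Helper33.TIFour
import Cfsg.Agent.Lib.Helper68.BFPDEC
import Cfsg.Agent.Lib.Helper82.CharCore

/-! Project PT (S4705, helper22), piece BLKR2 (helper88): the two exceptional characters `χ₁, χ₂`
of the block and the structure `Blk`. -/

set_option autoImplicit false
set_option linter.unusedVariables false

namespace Cfsg.Agent.Lib.Helper88.PT

open Cfsg Cfsg.Agent.Lib.Helper22.BFD Cfsg.Agent.Lib.Helper22.PT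
open scoped ComplexConjugate

universe u

variable {G : Type u} [Group G] [Fintype G]

/-- degree congruence: a character constant `= n` on `z ^ t`, `t ≠ 0`, has degree `≡ n` mod `p` -/
theorem blkR2_cong (p : ℕ) [Fact p.Prime] (w : ℂ) (hw : IsPrimitiveRoot w p) (z : G)
    (hz : z ^ p = 1) (φ : IrrCharacter G) (n : ℤ)
    (hn : ∀ t : ZMod p, t ≠ 0 → φ.1 (z ^ t.val) = (n : ℂ)) :
    ∃ a : ℕ, (charDegree φ.1 : ℤ) + ((p : ℤ) - 1) * n = (p : ℤ) * (a : ℤ) := by
  classical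
  have hp : p.Prime := Fact.out
  have hchar : IsCharacter G φ.1 := by
    obtain ⟨m, ρ, -, hρ⟩ := φ.2
    exact ⟨m, ρ, hρ⟩
  obtain ⟨a, ha⟩ := Cfsg.Agent.Lib.Helper68.BFT.pdec p w hw φ.1 hchar z hz
  refine ⟨a 0, ?_⟩
  have hdeg := (Cfsg.Agent.Lib.Helper82.irr_charDegree φ).1
  have h1 : ∑ t : ZMod p, φ.1 (z ^ t.val) = (p : ℂ) * (a 0 : ℂ) := by
    calc ∑ t : ZMod p, φ.1 (z ^ t.val)
        = ∑ t : ZMod p, ∑ v : ZMod p, (a v : ℂ) * w ^ (v * t).val := by
          apply Finset.sum_congr rfl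
          intro t _
          exact ha t
      _ = ∑ v : ZMod p, (a v : ℂ) * ∑ t : ZMod p, w ^ (v * t).val := by
          rw [Finset.sum_comm]
          apply Finset.sum_congr rfl
          intro v _
          rw [Finset.mul_sum]
      _ = ∑ v : ZMod p, (a v : ℂ) * (if v = 0 then (p : ℂ) else 0) := by
          apply Finset.sum_congr rfl
          intro v _
          rw [Cfsg.Agent.Lib.Helper33.TI.sum_pow_val p w hw v]
      _ = (p : ℂ) * (a 0 : ℂ) := by
          rw [Finset.sum_eq_single 0]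
          · rw [if_pos rfl]
            ring
          · intro v _ hv
            rw [if_neg hv, mul_zero]
          · intro h0
            exact absurd (Finset.mem_univ _) h0
  have h2 : ∑ t : ZMod p, φ.1 (z ^ t.val) = φ.1 1 + ((p : ℂ) - 1) * (n : ℂ) := by
    rw [← Finset.add_sum_erase Finset.univ _ (Finset.mem_univ (0 : ZMod p))]
    rw [ZMod.val_zero, pow_zero]
    congr 1
    rw [Finset.sum_congr rfl (fun t ht => hn t (Finset.ne_of_mem_erase ht))]
    rw [Finset.sum_const, Finset.card_erase_of_mem (Finset.mem_univ _), Finset.card_univ,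
      ZMod.card, nsmul_eq_mul, Nat.cast_sub hp.one_le]
    push_cast
    ring
  have h3 : (((charDegree φ.1 : ℤ) + ((p : ℤ) - 1) * n : ℤ) : ℂ) =
      (((p : ℤ) * (a 0 : ℤ) : ℤ) : ℂ) := by
    push_cast
    rw [hdeg, ← h2, h1]
  exact_mod_cast h3

/-- integers with squares summing to `2`: exactly two of them are `± 1` -/
theorem blkR2_two {ι : Type*} [Fintype ι] [DecidableEq ι] (n : ι → ℤ)
    (h : ∑ i, n i ^ 2 = 2) :
    ∃ a b : ι, a ≠ b ∧ (n a = 1 ∨ n a = -1) ∧ (n b = 1 ∨ n b = -1) ∧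
      ∀ i, i ≠ a → i ≠ b → n i = 0 := by
  have hle : ∀ i, n i ^ 2 ≤ 2 := by
    intro i
    rw [← h]
    exact Finset.single_le_sum (fun j _ => sq_nonneg (n j)) (Finset.mem_univ i)
  have hval : ∀ i, n i = 0 ∨ n i = 1 ∨ n i = -1 := by
    intro i
    have h1 := hle i
    have h2 : n i ≤ 1 := by
      by_contra hc
      push Not at hc
      nlinarith
    have h3 : -1 ≤ n i := by
      by_contra hc
      push Not at hc
      nlinarith
    omega
  have hsq : ∀ i, n i ^ 2 = if n i ≠ 0 then 1 else 0 := by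
    intro i
    rcases hval i with h0 | h1 | h1
    · simp [h0]
    · simp [h1]
    · simp [h1]
  have hcard : (Finset.univ.filter (fun i => n i ≠ 0)).card = 2 := by
    have h1 : ∑ i, n i ^ 2 = ((Finset.univ.filter (fun i => n i ≠ 0)).card : ℤ) := by
      rw [Finset.sum_congr rfl (fun i _ => hsq i), Finset.sum_boole]
    rw [h] at h1
    exact_mod_cast h1.symm
  obtain ⟨a, b, hab, hS⟩ := Finset.card_eq_two.mp hcard
  have ha : n a ≠ 0 := by
    have h1 : a ∈ Finset.univ.filter (fun i => n i ≠ 0) := by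
      rw [hS]
      simp
    exact (Finset.mem_filter.mp h1).2
  have hb : n b ≠ 0 := by
    have h1 : b ∈ Finset.univ.filter (fun i => n i ≠ 0) := by
      rw [hS]
      simp
    exact (Finset.mem_filter.mp h1).2
  refine ⟨a, b, hab, ?_, ?_, ?_⟩
  · rcases hval a with h0 | h1
    · exact absurd h0 ha
    · exact h1
  · rcases hval b with h0 | h1
    · exact absurd h0 hb
    · exact h1
  · intro i hia hib
    by_contra hi
    have h1 : i ∈ Finset.univ.filter (fun i => n i ≠ 0) :=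
      Finset.mem_filter.mpr ⟨Finset.mem_univ _, hi⟩
    rw [hS] at h1
    simp only [Finset.mem_insert, Finset.mem_singleton] at h1
    rcases h1 with h1 | h1
    · exact hia h1
    · exact hib h1

/-- PIECE BLKR2 -/
theorem blkR2 [Fintype (IrrCharacter G)] (p : ℕ) [Fact p.Prime] (w : ℂ)
    (hw : IsPrimitiveRoot w p) (z : G) (ζ : G → ℂ) (h : Hyp G p z ζ) (hl : Loc G p z ζ)
    (u : ZMod p) (hu : u ≠ 0) (Y : (ZMod p)ˣ → IrrCharacter G)
    (hY : YFam p w z ζ u Y) (hR : RestP p z (cz ζ) Y) :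
    ∃ χ₁ χ₂ : IrrCharacter G, Blk G p w z (cz ζ) u χ₁ χ₂ Y := by
  classical
  have hp : p.Prime := Fact.out
  have hp5 : (5 : ℤ) < (p : ℤ) := by exact_mod_cast h.p5
  obtain ⟨hY1, hYzc, hYval, hYdeg, hYreg, hYeq⟩ := hY
  obtain ⟨hR1, hR2, hR3⟩ := hR
  have hzp : z ^ p = 1 := by
    rw [← h.ord]
    exact pow_orderOf_eq_one z
  have hone : ((1 : ZMod p)).val = 1 := ZMod.val_one p
  have h1ne : (1 : ZMod p) ≠ 0 := one_ne_zero
  have hex : ∀ φ : IrrCharacter G, ∃ n : ℤ,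
      ((ZC (cz ζ) φ.1 ∧ ∀ k, φ ≠ Y k) → ∀ t : ZMod p, t ≠ 0 → φ.1 (z ^ t.val) = (n : ℂ)) ∧
      (¬ (ZC (cz ζ) φ.1 ∧ ∀ k, φ ≠ Y k) → n = 0) := by
    intro φ
    by_cases hφ : ZC (cz ζ) φ.1 ∧ ∀ k, φ ≠ Y k
    · obtain ⟨n, hn⟩ := hR1 φ hφ.1 hφ.2
      exact ⟨n, fun _ => hn, fun hc => absurd hφ hc⟩
    · exact ⟨0, fun hc => absurd hc hφ, fun _ => rfl⟩
  choose n hn1 hn0 using hex
  have hnz : ∀ φ : IrrCharacter G, (ZC (cz ζ) φ.1 ∧ ∀ k, φ ≠ Y k) → φ.1 z = (n φ : ℂ) := by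
    intro φ hφ
    have h1 := hn1 φ hφ 1 h1ne
    rwa [hone, pow_one] at h1
  have hsq : ∑ φ : IrrCharacter G, n φ ^ 2 = 2 := by
    have h1 : ∑ φ : IrrCharacter G, ((n φ ^ 2 : ℤ) : ℂ) = 2 := by
      rw [← hR2]
      apply Finset.sum_congr rfl
      intro φ _
      by_cases hφ : ZC (cz ζ) φ.1 ∧ ∀ k, φ ≠ Y k
      · rw [if_pos hφ, hnz φ hφ, map_intCast]
        push_cast
        ring
      · rw [if_neg hφ, hn0 φ hφ]
        simp
    exact_mod_cast h1
  obtain ⟨a, b, hab, hna, hnb, hrest⟩ := blkR2_two n hsq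
  have hRa : ZC (cz ζ) a.1 ∧ ∀ k, a ≠ Y k := by
    by_contra hc
    have h1 := hn0 a hc
    rcases hna with h2 | h2 <;> omega
  have hRb : ZC (cz ζ) b.1 ∧ ∀ k, b ≠ Y k := by
    by_contra hc
    have h1 := hn0 b hc
    rcases hnb with h2 | h2 <;> omega
  have hd : ∀ φ : IrrCharacter G,
      ((charDegree φ.1 : ℕ) : ℂ) = φ.1 1 ∧ charDegree φ.1 ≠ 0 :=
    fun φ => Cfsg.Agent.Lib.Helper82.irr_charDegree φ
  have hsum3 : a.1 1 * (n a : ℂ) + b.1 1 * (n b : ℂ) = -((p : ℂ) - 2) := by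
    rw [← hR3]
    have h2 : ∑ φ : IrrCharacter G, φ.1 1 * (n φ : ℂ) =
        a.1 1 * (n a : ℂ) + b.1 1 * (n b : ℂ) := by
      rw [← Finset.sum_subset (Finset.subset_univ {a, b})]
      · rw [Finset.sum_pair hab]
      · intro φ _ hφ
        have h3 : n φ = 0 := hrest φ
          (by
            intro hc
            apply hφ
            rw [hc]
            simp)
          (by
            intro hc
            apply hφ
            rw [hc]
            simp)
        rw [h3]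
        simp
    rw [← h2]
    apply Finset.sum_congr rfl
    intro φ _
    by_cases hφ : ZC (cz ζ) φ.1 ∧ ∀ k, φ ≠ Y k
    · rw [if_pos hφ, hnz φ hφ, map_intCast]
    · rw [if_neg hφ, hn0 φ hφ]
      simp
  have hsumZ : (charDegree a.1 : ℤ) * n a + (charDegree b.1 : ℤ) * n b = -((p : ℤ) - 2) := by
    have h1 : (((charDegree a.1 : ℤ) * n a + (charDegree b.1 : ℤ) * n b : ℤ) : ℂ) =
        ((-((p : ℤ) - 2) : ℤ) : ℂ) := by
      push_cast
      rw [(hd a).1, (hd b).1]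
      exact hsum3
    exact_mod_cast h1
  obtain ⟨ca, hca⟩ := blkR2_cong p w hw z hzp a (n a) (hn1 a hRa)
  obtain ⟨cb, hcb⟩ := blkR2_cong p w hw z hzp b (n b) (hn1 b hRb)
  have hda : 0 < (charDegree a.1 : ℤ) := by
    have h1 := (hd a).2
    omega
  have hdb : 0 < (charDegree b.1 : ℤ) := by
    have h1 := (hd b).2
    omega
  -- the construction of `Blk` from a pair with `n χ₁ = 1`, `n χ₂ = -1`
  have build : ∀ χ₁ χ₂ : IrrCharacter G, χ₁ ≠ χ₂ → n χ₁ = 1 → n χ₂ = -1 →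
      (ZC (cz ζ) χ₁.1 ∧ ∀ k, χ₁ ≠ Y k) → (ZC (cz ζ) χ₂.1 ∧ ∀ k, χ₂ ≠ Y k) →
      (∀ i, i ≠ χ₁ → i ≠ χ₂ → n i = 0) →
      (charDegree χ₁.1 : ℤ) - (charDegree χ₂.1 : ℤ) = -((p : ℤ) - 2) →
      (∃ c : ℕ, (charDegree χ₁.1 : ℤ) + ((p : ℤ) - 1) = (p : ℤ) * (c : ℤ)) →
      Blk G p w z (cz ζ) u χ₁ χ₂ Y := by
    intro χ₁ χ₂ h12 hn1' hn2' hRχ₁ hRχ₂ hrest' hdiff hc
    refine ⟨hRχ₁.1, hRχ₂.1, hYzc, ?_, ?_, hYval, hYdeg, ?_, ?_, ?_, hYeq, h12, ?_, ?_, ?_⟩
    · intro t ht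
      rw [hn1 χ₁ hRχ₁ t ht, hn1']
      simp
    · intro t ht
      rw [hn1 χ₂ hRχ₂ t ht, hn2']
      simp
    · obtain ⟨c, hc⟩ := hc
      have hd1 : 0 < (charDegree χ₁.1 : ℤ) := by
        have h1 := (hd χ₁).2
        omega
      have hc1 : 1 ≤ c := by
        rcases Nat.eq_zero_or_pos c with h0 | h0
        · rw [h0] at hc
          simp at hc
          omega
        · exact h0
      obtain ⟨a', rfl⟩ : ∃ a' : ℕ, c = a' + 1 := ⟨c - 1, by omega⟩
      refine ⟨a', ?_⟩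
      have h1 : (charDegree χ₁.1 : ℤ) = 1 + (a' : ℤ) * (p : ℤ) := by
        push_cast at hc
        linarith
      have h2 : (((charDegree χ₁.1 : ℕ) : ℤ) : ℂ) = ((1 + (a' : ℤ) * (p : ℤ) : ℤ) : ℂ) := by
        rw [h1]
      push_cast at h2
      rw [← (hd χ₁).1]
      exact h2
    · have h2 : ((((charDegree χ₁.1 : ℕ) : ℤ) - ((charDegree χ₂.1 : ℕ) : ℤ) : ℤ) : ℂ) =
          ((-((p : ℤ) - 2) : ℤ) : ℂ) := by
        rw [hdiff]
      push_cast at h2
      rw [← (hd χ₁).1, ← (hd χ₂).1]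
      linear_combination -h2
    · intro k g hg
      rw [hYreg k g hg, hY1]
    · intro k hk
      exact hRχ₁.2 k hk.symm
    · intro k hk
      exact hRχ₂.2 k hk.symm
    · intro φ hφ
      by_cases h1 : φ = χ₁
      · exact Or.inl h1
      by_cases h2 : φ = χ₂
      · exact Or.inr (Or.inl h2)
      by_cases h3 : ∃ k, φ = Y k
      · exact Or.inr (Or.inr (Or.inl h3))
      · right
        right
        right
        push Not at h3
        intro t ht
        rw [hn1 φ ⟨hφ, h3⟩ t ht, hrest' φ h1 h2]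
        simp
  rcases hna with ha1 | ha1 <;> rcases hnb with hb1 | hb1
  · exfalso
    rw [ha1, hb1] at hsumZ
    omega
  · refine ⟨a, b, build a b hab ha1 hb1 hRa hRb hrest ?_ ⟨ca, ?_⟩⟩
    · rw [ha1, hb1] at hsumZ
      linarith
    · rw [ha1] at hca
      linarith
  · refine ⟨b, a, build b a hab.symm hb1 ha1 hRb hRa (fun i hib hia => hrest i hia hib) ?_
      ⟨cb, ?_⟩⟩
    · rw [ha1, hb1] at hsumZ
      linarith
    · rw [hb1] at hcb
      linarith
  · exfalso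
    rw [ha1] at hca
    rw [hb1] at hcb
    rw [ha1, hb1] at hsumZ
    have h1 : 0 ≤ (p : ℤ) * (ca : ℤ) := by positivity
    have h2 : 0 ≤ (p : ℤ) * (cb : ℤ) := by positivity
    linarith

end Cfsg.Agent.Lib.Helper88.PT
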