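import Mathlib

/-!
# Project QB (helper48, S2359), piece NTA (backup copy by helper88)
-/

set_option autoImplicit false

namespace Cfsg.Agent.Lib.Helper48.QB

-- QB-NTA
theorem nt_a (q r : ℕ) (hq8 : q % 8 = 3) (hr : r.Prime) (hdvd : r ∣ (q - 1) / 2) :
    (q - 1).factorization r = (q ^ 3 * (q - 1) * (q ^ 3 + 1)).factorization r ∧ r ≠ 2 := by
  have hq3 : 3 ≤ q := by omega
  have hodd : ((q - 1) / 2) % 2 = 1 := by omega
  have hr2 : r ≠ 2 := by
    rintro rfl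
    have h1 := Nat.mod_eq_zero_of_dvd hdvd
    omega
  have hrq1 : r ∣ q - 1 := dvd_trans hdvd (Nat.div_dvd_of_dvd (by omega : 2 ∣ q - 1))
  have hrq : ¬ r ∣ q := by
    intro h
    have h1 : r ∣ q - (q - 1) := Nat.dvd_sub h hrq1
    have h2 : q - (q - 1) = 1 := by omega
    rw [h2] at h1
    exact hr.one_lt.ne' (Nat.dvd_one.mp h1)
  have hrq3 : ¬ r ∣ q ^ 3 + 1 := by
    intro h
    have h1 : q ^ 3 + 1 = (q - 1) * (q ^ 2 + q + 1) + 2 := by
      obtain ⟨m, rfl⟩ : ∃ m, q = m + 1 := ⟨q - 1, by omega⟩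
      simp only [Nat.add_sub_cancel]
      ring
    rw [h1] at h
    have h2 : r ∣ 2 := (Nat.dvd_add_right (dvd_mul_of_dvd_left hrq1 _)).mp h
    have h3 := (Nat.prime_dvd_prime_iff_eq hr Nat.prime_two).mp h2
    exact hr2 h3
  refine ⟨?_, hr2⟩
  have h0a : q ^ 3 ≠ 0 := pow_ne_zero 3 (by omega)
  have h0b : q - 1 ≠ 0 := by omega
  have h0c : q ^ 3 + 1 ≠ 0 := Nat.succ_ne_zero _
  rw [Nat.factorization_mul (mul_ne_zero h0a h0b) h0c, Nat.factorization_mul h0a h0b]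
  simp only [Finsupp.add_apply]
  rw [Nat.factorization_eq_zero_of_not_dvd hrq3,
    Nat.factorization_eq_zero_of_not_dvd (fun h => hrq (hr.dvd_of_dvd_pow h))]
  omega

end Cfsg.Agent.Lib.Helper48.QB
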