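import Mathlib

/-!
# Project QB (helper48, S2359), piece SYLCONJ (backup copy by helper88)
-/

set_option autoImplicit false

namespace Cfsg.Agent.Lib.Helper48.QB

-- QB-SYLCONJ
theorem syl_conj {G : Type*} [Group G] [Finite G] (M : Subgroup G) (r : ℕ) (hr : r.Prime)
    (hfac : (Nat.card M).factorization r = (Nat.card G).factorization r)
    (y : G) (hy : orderOf y = r) : ∃ g : G, g * y * g⁻¹ ∈ M := by
  classical
  have hrF : Fact r.Prime := ⟨hr⟩
  obtain ⟨Q⟩ : Nonempty (Sylow r M) := inferInstance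
  have hQcard : Nat.card Q = r ^ (Nat.card M).factorization r := Q.card_eq_multiplicity
  have hQ' : Nat.card ((Q : Subgroup M).map M.subtype) = r ^ (Nat.card G).factorization r := by
    rw [Subgroup.card_map_of_injective (Subgroup.subtype_injective _), ← hfac]
    exact hQcard
  obtain ⟨S', hS'⟩ : ∃ S' : Sylow r G, (S' : Subgroup G) = (Q : Subgroup M).map M.subtype :=
    ⟨Sylow.ofCard ((Q : Subgroup M).map M.subtype) hQ', rfl⟩
  have hpg : IsPGroup r (Subgroup.zpowers y) := by
    apply IsPGroup.of_card (n := 1)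
    rw [Nat.card_zpowers, hy, pow_one]
  obtain ⟨P, hP⟩ := hpg.exists_le_sylow
  obtain ⟨g, hg⟩ := MulAction.exists_smul_eq G P S'
  refine ⟨g, ?_⟩
  have h1 : g * y * g⁻¹ ∈ ((g • P : Sylow r G) : Subgroup G) := by
    rw [Sylow.coe_subgroup_smul]
    have h2 := Subgroup.smul_mem_pointwise_smul y (MulAut.conj g) (P : Subgroup G)
      (hP (Subgroup.mem_zpowers y))
    simpa [MulAut.smul_def] using h2
  rw [hg, hS'] at h1
  obtain ⟨m, -, hm⟩ := h1
  rw [← hm]
  exact m.2

end Cfsg.Agent.Lib.Helper48.QB
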