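import Mathlib
import Cfsg.Agent.Lib.Helper48.RCBase

/-!
# Project QB (helper48, S2359), piece TORUS (backup copy c, helper88)

In the abstract rank-one setting `Ok0`, an element commuting with `H s`, `s² ≠ 1`, lies in the
torus.
-/

set_option autoImplicit false

namespace Cfsg.Agent.Lib.Helper48.QB

open Cfsg.Agent.Lib.Helper48.RC

variable {F : Type*} [Field F] [Finite F] [CharP F 3] {G : Type*} [Group G] [Finite G]
variable {θ : F →+* F} {T : F → F → F → G} {H : Fˣ → G} {w : G}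

theorem torusc_H_mem_Qs (h : Ok0 θ T H w) (τ : Fˣ) (hτ : H τ ∈ h.Qs) : τ = 1 := by
  have h1 : w * H τ * w ∈ h.Bs := by
    rw [h.wH]
    exact h.H_mem _
  exact h.H_inj τ (h.eq_one_of_wuw hτ h1)

theorem torusc_uniq (h : Ok0 θ T H w) (X X' Y Y' : G) (hX : X ∈ h.Qs) (hX' : X' ∈ h.Qs)
    (hY : Y ∈ h.Qs) (hY' : Y' ∈ h.Qs) (σ σ' : Fˣ)
    (e : X * w * (Y * H σ) = X' * w * (Y' * H σ')) : σ = σ' := by
  obtain ⟨a, b, c, hU⟩ := h.Qs.mul_mem (h.Qs.inv_mem hX') hX
  have hZ : (Y * H σ) * (Y' * H σ')⁻¹ ∈ h.Bs :=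
    h.Bs.mul_mem (h.Bs.mul_mem (h.Qs_le_Bs hY) (h.H_mem σ))
      (h.Bs.inv_mem (h.Bs.mul_mem (h.Qs_le_Bs hY') (h.H_mem σ')))
  obtain ⟨a', b', c', τ, hZ'⟩ := hZ
  have e1 : T a b c * w * (T a' b' c' * H τ) = w := by
    rw [← hU, ← hZ']
    calc X'⁻¹ * X * w * (Y * H σ * (Y' * H σ')⁻¹)
        = X'⁻¹ * (X * w * (Y * H σ)) * (Y' * H σ')⁻¹ := by group
      _ = w := by rw [e]; group
  obtain ⟨rfl, rfl, rfl⟩ := h.uniq a b c a' b' c' τ e1
  rw [h.T_zero] at hU
  have hXX : X' = X := inv_mul_eq_one.mp hU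
  subst hXX
  have e2 : Y * H σ = Y' * H σ' := mul_left_cancel e
  have e3 : H (σ' * σ⁻¹) = Y'⁻¹ * Y := by
    rw [h.H_mul, ← h.H_inv]
    have h5 : H σ' = Y'⁻¹ * (Y * H σ) := by rw [e2]; group
    rw [h5]
    group
  have e4 : H (σ' * σ⁻¹) ∈ h.Qs := by
    rw [e3]
    exact h.Qs.mul_mem (h.Qs.inv_mem hY') hY
  have h6 := torusc_H_mem_Qs h _ e4
  exact (mul_inv_eq_one.mp h6).symm

-- QB-TORUS
theorem centralizer_H (h : Ok0 θ T H w) (s : Fˣ) (hs : s * s ≠ 1) (g : G)
    (hg : g * H s = H s * g) : ∃ s' : Fˣ, g = H s' := by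
  have hs1 : (s : F) ≠ 1 := by
    intro h1
    apply hs
    have h2 : s = 1 := Units.ext h1
    rw [h2, mul_one]
  have hθθ := h.θθ (s : F)
  rcases h.cases g with ⟨a, b, c, s', rfl⟩ | ⟨a, b, c, a', b', c', s', rfl⟩
  · have e1 : T a b c * (H s * H s')
        = T (s * a) (s * θ s * b) (s ^ 2 * θ s * c) * (H s * H s') := by
      calc T a b c * (H s * H s') = T a b c * H s' * H s := by
            rw [← h.H_mul, mul_comm s s', h.H_mul, mul_assoc]
        _ = H s * (T a b c * H s') := hg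
        _ = H s * T a b c * H s' := by rw [mul_assoc]
        _ = T (s * a) (s * θ s * b) (s ^ 2 * θ s * c) * (H s * H s') := by
            rw [h.HT, mul_assoc]
    have e2 := mul_right_cancel e1
    obtain ⟨ha, hb, hc⟩ := h.T_inj _ _ _ _ _ _ e2
    have ha0 : a = 0 := by
      have h1 : ((s : F) - 1) * a = 0 := by linear_combination -ha
      rcases mul_eq_zero.mp h1 with h2 | h2
      · exact absurd (sub_eq_zero.mp h2) hs1
      · exact h2
    have hb0 : b = 0 := by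
      have h1 : ((s : F) * θ s - 1) * b = 0 := by linear_combination -hb
      rcases mul_eq_zero.mp h1 with h2 | h2
      · exfalso
        have h3 : (s : F) * θ s = 1 := sub_eq_zero.mp h2
        have h4 : θ (s : F) * (s : F) ^ 3 = 1 := by
          have h5 := congrArg θ h3
          rw [map_mul, hθθ, map_one] at h5
          exact h5
        apply hs
        apply Units.ext
        rw [Units.val_mul, Units.val_one]
        linear_combination (-(s : F) ^ 2) * h3 + h4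
      · exact h2
    have hc0 : c = 0 := by
      have h1 : ((s : F) ^ 2 * θ s - 1) * c = 0 := by linear_combination -hc
      rcases mul_eq_zero.mp h1 with h2 | h2
      · exfalso
        have h3 : (s : F) ^ 2 * θ s = 1 := sub_eq_zero.mp h2
        have h4 : θ (s : F) ^ 2 * (s : F) ^ 3 = 1 := by
          have h5 := congrArg θ h3
          rw [map_mul, map_pow, hθθ, map_one] at h5
          exact h5
        apply hs1
        linear_combination (-(s : F)) * h4 + ((s : F) ^ 2 * θ s + 1) * h3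
      · exact h2
    exact ⟨s', by rw [ha0, hb0, hc0, h.T_zero, one_mul]⟩
  · exfalso
    have hX : H s * T a b c * (H s)⁻¹ ∈ h.Qs := h.conj_mem_Qs (h.H_mem s) (h.T_mem a b c)
    have hY : (H s)⁻¹ * T a' b' c' * (H s)⁻¹⁻¹ ∈ h.Qs :=
      h.conj_mem_Qs (h.Bs.inv_mem (h.H_mem s)) (h.T_mem a' b' c')
    have hHw : H s * w = w * (H s)⁻¹ := by
      have h1 := h.wH s
      rw [h.H_inv]
      calc H s * w = w * (w * H s * w) := by
            rw [← mul_assoc, ← mul_assoc, h.w_sq, one_mul]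
        _ = w * H s⁻¹ := by rw [h1]
    have hw' : (H s)⁻¹ * w * (H s)⁻¹ = w := by
      calc (H s)⁻¹ * w * (H s)⁻¹ = (H s)⁻¹ * (w * (H s)⁻¹) := by rw [mul_assoc]
        _ = (H s)⁻¹ * (H s * w) := by rw [hHw]
        _ = w := by rw [inv_mul_cancel_left]
    have hσ : H (s⁻¹ * s' * s⁻¹) = (H s)⁻¹ * H s' * (H s)⁻¹ := by
      rw [h.H_mul, h.H_mul, h.H_inv]
    have e : (H s * T a b c * (H s)⁻¹) * w *
        (((H s)⁻¹ * T a' b' c' * (H s)⁻¹⁻¹) * H (s⁻¹ * s' * s⁻¹))
        = T a b c * w * (T a' b' c' * H s') := by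
      rw [hσ]
      calc H s * T a b c * (H s)⁻¹ * w *
            ((H s)⁻¹ * T a' b' c' * (H s)⁻¹⁻¹ * ((H s)⁻¹ * H s' * (H s)⁻¹))
          = H s * T a b c * ((H s)⁻¹ * w * (H s)⁻¹) * T a' b' c' * H s' * (H s)⁻¹ := by group
        _ = H s * (T a b c * w * (T a' b' c' * H s')) * (H s)⁻¹ := by rw [hw']; group
        _ = T a b c * w * (T a' b' c' * H s') := by rw [← hg]; group
    have hσ' := torusc_uniq h _ _ _ _ hX (h.T_mem a b c) hY (h.T_mem a' b' c') _ _ e
    apply hs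
    have h1 : s' * (s * s)⁻¹ = s' * 1 := by
      rw [mul_one]
      calc s' * (s * s)⁻¹ = s' * (s⁻¹ * s⁻¹) := by rw [mul_inv_rev]
        _ = s⁻¹ * s' * s⁻¹ := by rw [mul_comm s⁻¹ s', mul_assoc]
        _ = s' := hσ'
    exact inv_eq_one.mp (mul_left_cancel h1)

end Cfsg.Agent.Lib.Helper48.QB
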