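import Cfsg.Agent.Lib.Helper90.CR

set_option autoImplicit false

/-!
# A reduction for normality of strongly closed subgroups

If a strongly closed subgroup `Q` of a saturated fusion system is not normal, then there are a
subgroup `U` of `Q`, an element `x` of `Q` outside `U` normalizing `U` with `x ^ p ∈ U`, and a
group `B` of automorphisms of `U` containing conjugation by `x`, such that conjugation by `x`
lies in no `p`-subgroup of `Aut(U)` normalized by `B`.
-/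

namespace Cfsg.Agent.Lib.Helper88

open Cfsg Cfsg.FusionSystem Cfsg.Agent.Lib.Helper90

variable {Ω : Type*} [Group Ω] {S : Subgroup Ω} {F : FusionSystem S} {Q R : Subgroup Ω}

/-- Restriction of a group `A` of automorphisms of `R` to `R ∩ Q`, seen as a subgroup of `↥Q`. -/
def scRes (A : Subgroup (MulAut R)) (Q : Subgroup Ω)
    (hinv : ∀ α ∈ A, ∀ u : R, (u : Ω) ∈ Q → ((α u : R) : Ω) ∈ Q) :
    A →* MulAut (R.subgroupOf Q) where
  toFun α :=
    { toFun := fun u =>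
        ⟨⟨(((α : MulAut R) ⟨((u : Q) : Ω), Subgroup.mem_subgroupOf.mp u.2⟩ : R) : Ω),
          hinv α α.2 _ (u : Q).2⟩, Subgroup.mem_subgroupOf.mpr (SetLike.coe_mem _)⟩
      invFun := fun u =>
        ⟨⟨(((α : MulAut R)⁻¹ ⟨((u : Q) : Ω), Subgroup.mem_subgroupOf.mp u.2⟩ : R) : Ω),
          hinv _ (A.inv_mem α.2) _ (u : Q).2⟩, Subgroup.mem_subgroupOf.mpr (SetLike.coe_mem _)⟩
      left_inv := by
        intro u
        apply Subtype.ext
        apply Subtype.ext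
        simp
      right_inv := by
        intro u
        apply Subtype.ext
        apply Subtype.ext
        simp
      map_mul' := by
        intro a b
        apply Subtype.ext
        apply Subtype.ext
        show (((α : MulAut R) ⟨((a * b : R.subgroupOf Q) : Q), _⟩ : R) : Ω) = _
        have h : (⟨(((a * b : R.subgroupOf Q) : Q) : Ω), Subgroup.mem_subgroupOf.mp (a * b).2⟩ : R)
            = ⟨((a : Q) : Ω), Subgroup.mem_subgroupOf.mp a.2⟩ *
              ⟨((b : Q) : Ω), Subgroup.mem_subgroupOf.mp b.2⟩ := rfl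
        rw [h, map_mul]
        rfl }
  map_one' := by
    ext u
    rfl
  map_mul' := by
    intro a b
    ext u
    rfl

theorem scRes_apply (A : Subgroup (MulAut R)) (Q : Subgroup Ω)
    (hinv : ∀ α ∈ A, ∀ u : R, (u : Ω) ∈ Q → ((α u : R) : Ω) ∈ Q) (α : A) (u : R.subgroupOf Q) :
    (((scRes A Q hinv α u : R.subgroupOf Q) : Q) : Ω) =
      (((α : MulAut R) ⟨((u : Q) : Ω), Subgroup.mem_subgroupOf.mp u.2⟩ : R) : Ω) := rfl

/-- The automorphisms of `R` acting trivially on `R` modulo `Q`. -/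
def scStab (Q R : Subgroup Ω) : Subgroup (MulAut R) where
  carrier := {β | ∀ x : R, ((β x : R) : Ω) * (x : Ω)⁻¹ ∈ Q}
  mul_mem' := by
    intro β₁ β₂ h₁ h₂ x
    have e : ((β₁ (β₂ x) : R) : Ω) * (x : Ω)⁻¹ =
        (((β₁ (β₂ x) : R) : Ω) * ((β₂ x : R) : Ω)⁻¹) * (((β₂ x : R) : Ω) * (x : Ω)⁻¹) := by group
    show ((β₁ (β₂ x) : R) : Ω) * (x : Ω)⁻¹ ∈ Q
    rw [e]
    exact Q.mul_mem (h₁ _) (h₂ x)
  one_mem' := by
    intro x
    simp
  inv_mem' := by
    intro β h x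
    have h1 := h (β⁻¹ x)
    have h2 : β (β⁻¹ x) = x := by simp
    rw [h2] at h1
    have h3 := Q.inv_mem h1
    simpa using h3

theorem mem_scStab {β : MulAut R} :
    β ∈ scStab Q R ↔ ∀ x : R, ((β x : R) : Ω) * (x : Ω)⁻¹ ∈ Q := Iff.rfl

/-- An automorphism `β` of `R` acting trivially on `R` modulo `Q` and fixing `R ∩ Q` pointwise
has `p`-power order (when `R ≤ S`, a finite `p`-group). -/
theorem scStab_pow_eq_one [Finite S] {p : ℕ} [Fact p.Prime] (hS : IsPGroup p S) (hR : R ≤ S)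
    {β : MulAut R} (hβ : β ∈ scStab Q R) (hfix : ∀ u : R, (u : Ω) ∈ Q → β u = u) :
    ∃ m : ℕ, β ^ p ^ m = 1 := by
  obtain ⟨m, hm⟩ := IsPGroup.iff_card.mp hS
  have hpow : ∀ s ∈ S, s ^ p ^ m = 1 := by
    intro s hs
    have : (⟨s, hs⟩ : S) ^ Nat.card S = 1 := pow_card_eq_one'
    rw [hm] at this
    exact congrArg Subtype.val this
  refine ⟨m, ?_⟩
  have hiter : ∀ (j : ℕ) (r : R), (β ^ j) r = (β r * r⁻¹) ^ j * r := by
    intro j
    induction j with
    | zero => intro r; simp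
    | succ j ih =>
      intro r
      have hc : β (β r * r⁻¹) = β r * r⁻¹ := hfix _ (hβ r)
      have h1 : (β ^ (j + 1)) r = β ((β ^ j) r) := by
        rw [pow_succ']
        rfl
      rw [h1, ih, map_mul, map_pow, hc, pow_succ]
      group
  ext r
  rw [hiter]
  have h2 : (β r * r⁻¹) ^ p ^ m = 1 := by
    apply Subtype.ext
    have := hpow ((β r * r⁻¹ : R) : Ω) (hR (β r * r⁻¹).2)
    simpa using this
  rw [h2]
  simp

/-- **Reduction for strongly closed subgroups.** If the strongly closed subgroup `Q` of the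
saturated system `F` is not normal in `F`, then there are a subgroup `U` of `Q`, an element `x`
of `Q` outside `U` with `x ^ p ∈ U` normalizing `U`, and a group `B` of automorphisms of `U`
containing the conjugation `κ` by `x`, such that `κ` lies in no `p`-subgroup of `Aut(U)`
normalized by `B`.  (`U = Q ∩ R` for a centric radical subgroup `R` not containing `Q`, and `B`
is the image of `Aut_F(R)`.) -/
theorem exists_bad_of_not_normal [Finite S] {p : ℕ} [Fact p.Prime] (hS : IsPGroup p S)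
    (hF : F.IsSaturated p) (hQ : F.StronglyClosed Q) (hn : ¬ F.IsNormal Q) :
    ∃ (U : Subgroup Q) (x : Q) (B : Subgroup (MulAut U)) (κ : MulAut U),
      x ∉ U ∧ x ^ p ∈ U ∧ (∀ u : U, ((κ u : U) : Q) = x * u * x⁻¹) ∧ κ ∈ B ∧
      ∀ K : Subgroup (MulAut U), (∀ b ∈ B, ∀ k ∈ K, b * k * b⁻¹ ∈ K) → IsPGroup p K → κ ∉ K := by
  classical
  by_contra hcon
  apply hn
  have hQS : Q ≤ S := hQ.1
  apply isNormal_of_le_centric_radical hS hF hQ
  intro R hfa hrec hcen hrad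
  by_contra hQR
  apply hcon
  have hR : R ≤ S := hcen.1
  have : Finite R := finite_of_le hR
  -- the element `x`
  obtain ⟨a, haQ, haN, haR⟩ := exists_normalizing_not_mem hS hR hQS
    (fun s hs q hq => stronglyClosed_conj_mem hQ hs hq) hQR
  have hex : ∃ k, a ^ p ^ k ∈ R := by
    obtain ⟨m, hm⟩ := hS ⟨a, hQS haQ⟩
    refine ⟨m, ?_⟩
    have : a ^ p ^ m = 1 := congrArg Subtype.val hm
    rw [this]
    exact R.one_mem
  have hk : a ^ p ^ (Nat.find hex) ∈ R := Nat.find_spec hex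
  have hk0 : Nat.find hex ≠ 0 := by
    intro h
    rw [h] at hk
    simp only [pow_zero, pow_one] at hk
    exact haR hk
  obtain ⟨j, hj⟩ := Nat.exists_eq_succ_of_ne_zero hk0
  have hxQ : a ^ p ^ j ∈ Q := Q.pow_mem haQ _
  have hxN : a ^ p ^ j ∈ Subgroup.normalizer (R : Set Ω) := Subgroup.pow_mem _ haN _
  have hxR : a ^ p ^ j ∉ R := Nat.find_min hex (by omega)
  have hxp : (a ^ p ^ j) ^ p ∈ R := by
    rw [← pow_mul, ← pow_succ, ← Nat.succ_eq_add_one, ← hj]
    exact hk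
  generalize a ^ p ^ j = x at hxQ hxN hxR hxp
  -- the restriction map
  have hinv : ∀ α ∈ F.autGroup R, ∀ u : R, (u : Ω) ∈ Q → ((α u : R) : Ω) ∈ Q := by
    intro α hα u hu
    have hαm : Mor F R (autFun R α) := (mem_autGroup_iff F hR α).mp hα
    have := stronglyClosed_mor_mem hQ (hαm.restrict (inf_le_left : R ⊓ Q ≤ R)) inf_le_right
      (x := (u : Ω)) ⟨u.2, hu⟩
    rwa [autFun_apply] at this
  obtain ⟨κR, hκA, hκ⟩ := exists_aut_of_mor (mor_conj F hR (hQS hxQ))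
    (fun y hy => conj_mem_of_mem_normalizer hxN hy)
  refine ⟨R.subgroupOf Q, ⟨x, hxQ⟩, (scRes (F.autGroup R) Q hinv).range,
    scRes (F.autGroup R) Q hinv ⟨κR, hκA⟩, ?_, ?_, ?_, ⟨_, rfl⟩, ?_⟩
  · intro h
    exact hxR (Subgroup.mem_subgroupOf.mp h)
  · exact Subgroup.mem_subgroupOf.mpr hxp
  · intro u
    apply Subtype.ext
    rw [scRes_apply]
    exact hκ _
  · intro K hKn hKp hκK
    set ρ := scRes (F.autGroup R) Q hinv with hρ
    let B' : Subgroup (MulAut R) := ((K.comap ρ).map (F.autGroup R).subtype) ⊓ scStab Q R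
    have hB'le : B' ≤ F.autGroup R := by
      rintro α ⟨⟨a, -, rfl⟩, -⟩
      exact a.2
    have hB'n : ∀ γ ∈ F.autGroup R, ∀ α ∈ B', γ * α * γ⁻¹ ∈ B' := by
      rintro γ hγ _ ⟨⟨a, ha, rfl⟩, hst⟩
      refine ⟨⟨⟨γ, hγ⟩ * a * ⟨γ, hγ⟩⁻¹, ?_, rfl⟩, ?_⟩
      · show ρ (⟨γ, hγ⟩ * a * ⟨γ, hγ⟩⁻¹) ∈ K
        rw [map_mul, map_mul, map_inv]
        exact hKn _ ⟨_, rfl⟩ _ ha
      · intro r
        show ((γ ((a : MulAut R) (γ⁻¹ r)) : R) : Ω) * (r : Ω)⁻¹ ∈ Q
        have h1 : (((a : MulAut R) (γ⁻¹ r) * (γ⁻¹ r)⁻¹ : R) : Ω) ∈ Q := hst (γ⁻¹ r)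
        have h2 := hinv γ hγ _ h1
        have h3 : γ ((a : MulAut R) (γ⁻¹ r) * (γ⁻¹ r)⁻¹) = γ ((a : MulAut R) (γ⁻¹ r)) * r⁻¹ := by
          rw [map_mul, map_inv]
          simp
        rw [h3] at h2
        exact h2
    have hB'p : IsPGroup p B' := by
      rintro ⟨α, ⟨a, ha, rfl⟩, hst⟩
      obtain ⟨n, hn⟩ := hKp ⟨ρ a, ha⟩
      have h1 : ρ (a ^ p ^ n) = 1 := by
        rw [map_pow]
        exact congrArg Subtype.val hn
      have hfix : ∀ u : R, (u : Ω) ∈ Q → ((a : MulAut R) ^ p ^ n) u = u := by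
        intro u hu
        have h2 := congrArg (fun γ : MulAut (R.subgroupOf Q) =>
          (((γ ⟨⟨(u : Ω), hu⟩, Subgroup.mem_subgroupOf.mpr u.2⟩ : R.subgroupOf Q) : Q) : Ω)) h1
        apply Subtype.ext
        exact h2
      have hmem : (a : MulAut R) ^ p ^ n ∈ scStab Q R := Subgroup.pow_mem _ hst _
      obtain ⟨m, hm⟩ := scStab_pow_eq_one hS hR hmem hfix
      refine ⟨n + m, Subtype.ext ?_⟩
      show (a : MulAut R) ^ p ^ (n + m) = 1
      rw [pow_add, pow_mul]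
      exact hm
    have hκB' : κR ∈ B' := by
      refine ⟨⟨⟨κR, hκA⟩, hκK, rfl⟩, fun r => ?_⟩
      rw [hκ r]
      have h1 : (r : Ω) * x⁻¹ * (r : Ω)⁻¹ ∈ Q :=
        stronglyClosed_conj_mem hQ (hR r.2) (Q.inv_mem hxQ)
      have e : x * (r : Ω) * x⁻¹ * (r : Ω)⁻¹ = x * ((r : Ω) * x⁻¹ * (r : Ω)⁻¹) := by group
      rw [e]
      exact Q.mul_mem hxQ h1
    have h2 := le_pCore_map B' hB'p hB'le hB'n hκB'
    rw [hrad.2] at h2
    obtain ⟨y, hy, hκy⟩ := (mem_Inn_iff κR).mp h2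
    have hc : y⁻¹ * x ∈ centralizerIn S R := by
      refine ⟨S.mul_mem (S.inv_mem (hR hy)) (hQS hxQ), ?_⟩
      show y⁻¹ * x ∈ Subgroup.centralizer (R : Set Ω)
      rw [Subgroup.mem_centralizer_iff]
      intro z hz
      have h1 : x * z * x⁻¹ = y * z * y⁻¹ := by rw [← hκ ⟨z, hz⟩, hκy]
      calc z * (y⁻¹ * x) = y⁻¹ * (y * z * y⁻¹) * x := by group
        _ = y⁻¹ * (x * z * x⁻¹) * x := by rw [h1]
        _ = y⁻¹ * x * z := by group
    have h3 : y⁻¹ * x ∈ R := hcen.2 R (isConj_refl F hR) hc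
    have h4 : y * (y⁻¹ * x) ∈ R := R.mul_mem hy h3
    rw [mul_inv_cancel_left] at h4
    exact hxR h4

end Cfsg.Agent.Lib.Helper88
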