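import Cfsg.Agent.S5284
import Cfsg.Agent.Lib.Helper88.SSolFus
import Cfsg.Prelude.Def_OddOrderLocal

set_option autoImplicit false

/-!
# S5287: glue lemmas (resistance of abelian groups, `p'`-groups of automorphisms)
-/

universe u

namespace Cfsg.Agent.Lib.Helper88.SSol

open Cfsg Cfsg.FusionSystem Cfsg.Agent.Lib.Helper90

variable {Ω : Type*} [Group Ω] {S : Subgroup Ω}

/-- An abelian `p`-group is normal in every saturated fusion system on it. -/
theorem resistant_of_abelian [Finite S] (p : ℕ) [Fact p.Prime] (hS : IsPGroup p ↥S)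
    (habc : ∀ a b : S, a * b = b * a) (F : Cfsg.FusionSystem S) (hF : F.IsSaturated p) :
    F.IsNormal S := by
  apply Cfsg.Agent.S5301.result p hS F hF
  intro P hfn hcen _
  have hPS : P = S := by
    apply le_antisymm hfn.1
    intro x hx
    apply hcen.2 P (isConj_refl F hfn.1)
    refine ⟨hx, Subgroup.mem_centralizer_iff.mpr (fun h hh => ?_)⟩
    exact congrArg Subtype.val (habc ⟨h, hfn.1 hh⟩ ⟨x, hx⟩)
  rw [hPS]
  obtain ⟨-, R, hR⟩ := (top_fullyAutomized_receptive hF).1
  refine ⟨R, ?_⟩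
  rw [hR]
  have hAS : autInducedBy S S = Inn S := by
    apply le_antisymm
    · intro α hα
      obtain ⟨a, ha, h⟩ := (mem_autInducedBy_iff S S α).mp hα
      exact (mem_Inn_iff α).mpr ⟨a, ha, h⟩
    · exact Inn_le_autInducedBy le_rfl
  rw [hAS]
  infer_instance

theorem stronglyClosed_self (F : FusionSystem S) : F.StronglyClosed S :=
  ⟨le_rfl, fun _ _ _ hφ x => (F.le_of_mem hφ).2 x⟩

/-- A `p'`-group `H` of automorphisms containing a `p`-subgroup `K` that contains all commutators
and all `(p-1)`-th powers of `H` is abelian of exponent dividing `p - 1`. -/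
theorem pprime_of_K {T : Type*} [Group T] [Finite T] {p : ℕ} [hp : Fact p.Prime]
    (H : Subgroup (MulAut T)) (hH : (Nat.card H).Coprime p) (K : Subgroup (MulAut T))
    (hKH : K ≤ H) (hKp : IsPGroup p K)
    (hcomm : ∀ α ∈ H, ∀ β ∈ H, α * β * α⁻¹ * β⁻¹ ∈ K) (hpow : ∀ α ∈ H, α ^ (p - 1) ∈ K) :
    IsMulCommutative ↥H ∧ ∀ h ∈ H, h ^ (p - 1) = 1 := by
  have : Finite (MulAut T) := Finite.of_injective (fun e : MulAut T => (e : T → T))
    DFunLike.coe_injective
  have hK1 : K = ⊥ := by
    obtain ⟨k, hk⟩ := IsPGroup.iff_card.mp hKp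
    have h1 : Nat.card K ∣ Nat.card H := Subgroup.card_dvd_of_le hKH
    rw [hk] at h1
    have h2 : (p ^ k).Coprime p := Nat.Coprime.coprime_dvd_left h1 hH
    have hk0 : k = 0 := by
      by_contra hk0
      have h3 : p ∣ p ^ k := dvd_pow_self p hk0
      have h4 : p = 1 := Nat.Coprime.eq_one_of_dvd h2.symm h3
      exact hp.out.one_lt.ne' h4
    rw [hk0, pow_zero] at hk
    exact Subgroup.card_eq_one.mp hk
  constructor
  · refine ⟨⟨fun a b => ?_⟩⟩
    have h1 := hcomm a a.2 b b.2
    rw [hK1, Subgroup.mem_bot] at h1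
    apply Subtype.ext
    show (a : MulAut T) * b = b * a
    have h2 : (a : MulAut T) * b = ((a : MulAut T) * b * (a : MulAut T)⁻¹ * (b : MulAut T)⁻¹) *
        (b * a) := by group
    rw [h2, h1, one_mul]
  · intro h hh
    have h1 := hpow h hh
    rwa [hK1, Subgroup.mem_bot] at h1

/-- A `p'`-group of automorphisms of a cyclic `p`-group is abelian of exponent dividing `p - 1`. -/
theorem pprime_of_cyclic {T : Type*} [Group T] [Finite T] {p : ℕ} [hp : Fact p.Prime]
    (hT : IsPGroup p T) (hc : IsCyclic T) (H : Subgroup (MulAut T))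
    (hH : (Nat.card H).Coprime p) : IsMulCommutative ↥H ∧ ∀ h ∈ H, h ^ (p - 1) = 1 := by
  obtain ⟨n, hn⟩ := IsPGroup.iff_card.mp hT
  obtain ⟨g, hg⟩ := hc.exists_generator
  have h1 := pprime_abelian_of_abs_chain p hn (fun i => if i = 0 then (⊥ : Subgroup T) else ⊤) 1
    (by simp) (by simp)
    (by
      intro i j hij
      by_cases hi : i = 0
      · simp [hi]
      · have hj : j ≠ 0 := by omega
        simp [hi, hj])
    (by
      intro i
      by_cases hi : i = 0
      · simp only [hi, if_true]; infer_instance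
      · simp only [hi, if_false]; infer_instance)
    (by
      intro i
      by_cases hi : i = 0
      · simp only [hi, if_true, zero_add, one_ne_zero, if_false]
        refine ⟨g, Subgroup.mem_top g, fun y _ => ?_⟩
        obtain ⟨k, hk⟩ := (isOfFinOrder_of_finite g).mem_powers_iff_mem_zpowers.mpr (hg y)
        have hk' : g ^ k = y := hk
        exact ⟨k, by rw [Subgroup.mem_bot, hk']; group⟩
      · have hi1 : i + 1 ≠ 0 := by omega
        simp only [hi, hi1, if_false]
        exact cycStep_refl _)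
    H
    (by
      intro β _ i x hx
      by_cases hi : i = 0
      · simp only [hi, if_true, Subgroup.mem_bot] at hx ⊢
        rw [hx, map_one]
      · simp only [hi, if_false]
        exact Subgroup.mem_top _)
    hH
  exact ⟨⟨⟨fun a b => Subtype.ext (h1.1 a a.2 b b.2)⟩⟩, h1.2⟩

/-- If `Aut(T)` is a `2`-group, its subgroups of odd order are trivial. -/
theorem pprime_two {T : Type*} [Group T] [Finite T] (hA : IsPGroup 2 (MulAut T))
    (H : Subgroup (MulAut T)) (hH : (Nat.card H).Coprime 2) :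
    IsMulCommutative ↥H ∧ ∀ h ∈ H, h ^ (2 - 1) = 1 :=
  pprime_of_K (p := 2) H hH H le_rfl (hA.to_subgroup H)
    (fun _ hα _ hβ => H.mul_mem (H.mul_mem (H.mul_mem hα hβ) (H.inv_mem hα)) (H.inv_mem hβ))
    (fun _ hα => H.pow_mem hα _)

/-- A metacyclic group is generated by two elements. -/
theorem two_gen_of_metacyclic {T : Type u} [Group T] (hm : Cfsg.IsMetacyclic T) :
    ∃ a b : T, Subgroup.closure {a, b} = ⊤ := by
  obtain ⟨N, hN, hNc, hQc⟩ := hm
  obtain ⟨c, hc⟩ := hNc.exists_generator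
  obtain ⟨γ, hγ⟩ := hQc.exists_generator
  obtain ⟨d, rfl⟩ := QuotientGroup.mk_surjective γ
  refine ⟨(c : T), d, ?_⟩
  rw [eq_top_iff]
  intro x _
  have hcl : (c : T) ∈ Subgroup.closure ({(c : T), d} : Set T) :=
    Subgroup.subset_closure (Set.mem_insert _ _)
  have hdl : d ∈ Subgroup.closure ({(c : T), d} : Set T) :=
    Subgroup.subset_closure (Set.mem_insert_of_mem _ rfl)
  obtain ⟨j, hj⟩ := Subgroup.mem_zpowers_iff.mp (hγ (QuotientGroup.mk x))
  have h2 : (d ^ j)⁻¹ * x ∈ N := by
    apply QuotientGroup.eq.mp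
    rw [QuotientGroup.mk_zpow]
    exact hj
  obtain ⟨i, hi⟩ := Subgroup.mem_zpowers_iff.mp (hc ⟨_, h2⟩)
  have h3 : (c : T) ^ i = (d ^ j)⁻¹ * x := by
    have := congrArg Subtype.val hi
    simpa using this
  have h4 : x = d ^ j * (c : T) ^ i := by rw [h3]; group
  rw [h4]
  exact Subgroup.mul_mem _ (Subgroup.zpow_mem _ hdl j) (Subgroup.zpow_mem _ hcl i)

end Cfsg.Agent.Lib.Helper88.SSol
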