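import Mathlib
import Cfsg.Agent.Lib.Helper50.SU4Q3Def
import Cfsg.Agent.Lib.Helper71.Asch5

/-! Project SU4 (helper50), piece Q3FRAME (helper88): for `q = 3` a non-degenerate
1-decomposition of `F^4` is the image of the standard frame under a unitary matrix. -/

set_option autoImplicit false

namespace Cfsg.Agent.Lib.Helper88.SU4Q3FRAME

open Matrix Cfsg.Geo Cfsg.Agent.Lib.Helper71.Asch Cfsg.Agent.Lib.Helper50.SU4Q3Def

variable {F : Type*} [Field F] [Fintype F] {q : ℕ}

/-- a field with nine elements contains a primitive 8th root of unity -/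
theorem su4q3frame_lam (hF : Fintype.card F = 9) : ∃ lam : F, lam ^ 4 = -1 := by
  classical
  obtain ⟨g, hg⟩ := IsCyclic.exists_ofOrder_eq_natCard (α := Fˣ)
  have hcard : Nat.card Fˣ = 8 := by
    rw [Nat.card_eq_fintype_card, Fintype.card_units, hF]
  rw [hcard] at hg
  have h4 : g ^ 4 ≠ 1 := by
    apply pow_ne_one_of_lt_orderOf (by norm_num)
    rw [hg]
    norm_num
  have h8 : g ^ 8 = 1 := by
    rw [← hg]
    exact pow_orderOf_eq_one g
  refine ⟨(g : F), ?_⟩
  have h8' : ((g : F) ^ 4) * ((g : F) ^ 4) = 1 := by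
    have h := congrArg Units.val h8
    rw [Units.val_pow_eq_pow_val, Units.val_one] at h
    rw [← pow_add]
    exact h
  rcases mul_self_eq_one_iff.mp h8' with h | h
  · exfalso
    apply h4
    apply Units.ext
    rw [Units.val_pow_eq_pow_val, Units.val_one]
    exact h
  · exact h

/-- Q3FRAME: for `q = 3` an orthogonal frame is the image of the standard frame under a unitary
matrix. -/
theorem Q3FRAME (hF : Fintype.card F = q ^ 2) (hq : q = 3) (D : Fin 4 → Submodule F (Fin 4 → F))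
    (hD : IsNondegenerateMDecomposition (Cfsg.hermForm 4 F q) 1 D) :
    ∃ g : GL (Fin 4) F, g ∈ Cfsg.GU 4 F q ∧
      ∀ j, D j = Submodule.span F {g.1 *ᵥ (Pi.single j 1 : Fin 4 → F)} := by
  classical
  subst hq
  haveI : Fact (Nat.Prime 3) := ⟨by norm_num⟩
  haveI : CharP F 3 := charP_of_card_eq_prime_pow (f := 2) hF
  have hF9 : Fintype.card F = 9 := by
    rw [hF]
    norm_num
  have hpow : ∀ x : F, x ^ 9 = x := by
    intro x
    have h := FiniteField.pow_card x
    rw [hF9] at h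
    exact h
  obtain ⟨lam, hlam⟩ := su4q3frame_lam hF9
  have hB : ∀ v : Fin 4 → F, (Cfsg.hermForm 4 F 3 v v) ^ 3 = Cfsg.hermForm 4 F 3 v v := by
    intro v
    unfold Cfsg.hermForm
    rw [sum_pow_char]
    apply Finset.sum_congr rfl
    intro i _
    calc (v i * v i ^ 3) ^ 3 = v i ^ 3 * v i ^ 9 := by ring
      _ = v i ^ 3 * v i := by rw [hpow]
      _ = v i * v i ^ 3 := by ring
  have hsm : ∀ (a b : F) (x y : Fin 4 → F),
      Cfsg.hermForm 4 F 3 (a • x) (b • y) = a * b ^ 3 * Cfsg.hermForm 4 F 3 x y := by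
    intro a b x y
    unfold Cfsg.hermForm
    rw [Finset.mul_sum]
    apply Finset.sum_congr rfl
    intro i _
    simp only [Pi.smul_apply, smul_eq_mul]
    ring
  have hgen : ∀ j, ∃ d : Fin 4 → F, d ≠ 0 ∧ D j = Submodule.span F {d} := by
    intro j
    have h1 := hD.decomp.finrank_eq j
    obtain ⟨v, hv0, hv⟩ := finrank_eq_one_iff'.mp h1
    refine ⟨v.1, fun h => hv0 (Subtype.ext h), ?_⟩
    apply le_antisymm
    · intro w hw
      obtain ⟨c, hc⟩ := hv ⟨w, hw⟩
      rw [Submodule.mem_span_singleton]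
      exact ⟨c, congrArg Subtype.val hc⟩
    · rw [Submodule.span_singleton_le_iff_mem]
      exact v.2
  choose d hd0 hdD using hgen
  have hdmem : ∀ j, d j ∈ D j := by
    intro j
    rw [hdD j]
    exact Submodule.mem_span_singleton_self _
  have hc0 : ∀ j, Cfsg.hermForm 4 F 3 (d j) (d j) ≠ 0 := by
    intro j hzero
    obtain ⟨⟨x, hx, hxne⟩, -⟩ := hD.nondegenerate j (d j) (hdmem j) (hd0 j)
    rw [hdD j, Submodule.mem_span_singleton] at hx
    obtain ⟨a, rfl⟩ := hx
    apply hxne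
    have h5 := hsm a 1 (d j) (d j)
    rw [one_smul] at h5
    rw [h5, hzero, mul_zero]
  have hc2 : ∀ j, Cfsg.hermForm 4 F 3 (d j) (d j) * Cfsg.hermForm 4 F 3 (d j) (d j) = 1 := by
    intro j
    exact mul_right_cancel₀ (hc0 j) (by linear_combination hB (d j))
  have hmu : ∀ j, ∃ mu : F, mu ≠ 0 ∧ mu * mu ^ 3 * Cfsg.hermForm 4 F 3 (d j) (d j) = 1 := by
    intro j
    rcases mul_self_eq_one_iff.mp (hc2 j) with h1 | h1
    · exact ⟨1, one_ne_zero, by rw [h1]; ring⟩
    · refine ⟨lam, ?_, ?_⟩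
      · intro h0
        rw [h0] at hlam
        have h6 : (0 : F) = -1 := by simpa using hlam
        exact one_ne_zero (by linear_combination h6 : (1 : F) = 0)
      · rw [h1]
        linear_combination -hlam
  choose mu hmu0 hmu1 using hmu
  obtain ⟨dd, hdd⟩ : ∃ dd : Fin 4 → Fin 4 → F, dd = fun j => mu j • d j := ⟨_, rfl⟩
  have hddj : ∀ j, dd j = mu j • d j := fun j => by rw [hdd]
  have hddmem : ∀ j, dd j ∈ D j := by
    intro j
    rw [hddj j]
    exact Submodule.smul_mem _ _ (hdmem j)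
  have hkd : ∀ j, Cfsg.hermForm 4 F 3 (dd j) (dd j) = 1 := by
    intro j
    rw [hddj j, hsm]
    exact hmu1 j
  have hko : ∀ j k, j ≠ k → Cfsg.hermForm 4 F 3 (dd j) (dd k) = 0 := by
    intro j k hjk
    exact hD.orthogonal j k hjk _ (hddmem j) _ (hddmem k)
  obtain ⟨G, hGdef⟩ : ∃ G : Matrix (Fin 4) (Fin 4) F, G = Matrix.of (fun i j => dd j i) :=
    ⟨_, rfl⟩
  have hGij : ∀ i j, G i j = dd j i := fun i j => by rw [hGdef]; rfl
  have KGd : ∀ j, ∑ i, G i j * G i j ^ 3 = 1 := by
    intro j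
    have h := hkd j
    unfold Cfsg.hermForm at h
    simp only [hGij]
    exact h
  have KGo : ∀ j k, j ≠ k → ∑ i, G i j * G i k ^ 3 = 0 := by
    intro j k hjk
    have h := hko j k hjk
    unfold Cfsg.hermForm at h
    simp only [hGij]
    exact h
  have hGe : ∀ j, G *ᵥ (Pi.single j 1 : Fin 4 → F) = dd j := by
    intro j
    ext i
    simp [Matrix.mulVec, dotProduct, Pi.single_apply, hGij]
  have hiso : ∀ u v : Fin 4 → F,
      Cfsg.hermForm 4 F 3 (G *ᵥ u) (G *ᵥ v) = Cfsg.hermForm 4 F 3 u v := by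
    intro u v
    unfold Cfsg.hermForm
    have hfr : ∀ i, ((G *ᵥ v) i) ^ 3 = ∑ k, (G i k) ^ 3 * (v k) ^ 3 := by
      intro i
      simp only [Matrix.mulVec, dotProduct]
      rw [sum_pow_char]
      apply Finset.sum_congr rfl
      intro k _
      rw [mul_pow]
    simp only [hfr]
    simp only [Matrix.mulVec, dotProduct, Fin.sum_univ_four]
    have k00 := KGd 0
    rw [Fin.sum_univ_four] at k00
    have k01 := KGo 0 1 (by decide)
    rw [Fin.sum_univ_four] at k01
    have k02 := KGo 0 2 (by decide)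
    rw [Fin.sum_univ_four] at k02
    have k03 := KGo 0 3 (by decide)
    rw [Fin.sum_univ_four] at k03
    have k10 := KGo 1 0 (by decide)
    rw [Fin.sum_univ_four] at k10
    have k11 := KGd 1
    rw [Fin.sum_univ_four] at k11
    have k12 := KGo 1 2 (by decide)
    rw [Fin.sum_univ_four] at k12
    have k13 := KGo 1 3 (by decide)
    rw [Fin.sum_univ_four] at k13
    have k20 := KGo 2 0 (by decide)
    rw [Fin.sum_univ_four] at k20
    have k21 := KGo 2 1 (by decide)
    rw [Fin.sum_univ_four] at k21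
    have k22 := KGd 2
    rw [Fin.sum_univ_four] at k22
    have k23 := KGo 2 3 (by decide)
    rw [Fin.sum_univ_four] at k23
    have k30 := KGo 3 0 (by decide)
    rw [Fin.sum_univ_four] at k30
    have k31 := KGo 3 1 (by decide)
    rw [Fin.sum_univ_four] at k31
    have k32 := KGo 3 2 (by decide)
    rw [Fin.sum_univ_four] at k32
    have k33 := KGd 3
    rw [Fin.sum_univ_four] at k33
    linear_combination (u 0 * v 0 ^ 3) * k00 +
      (u 0 * v 1 ^ 3) * k01 +
      (u 0 * v 2 ^ 3) * k02 +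
      (u 0 * v 3 ^ 3) * k03 +
      (u 1 * v 0 ^ 3) * k10 +
      (u 1 * v 1 ^ 3) * k11 +
      (u 1 * v 2 ^ 3) * k12 +
      (u 1 * v 3 ^ 3) * k13 +
      (u 2 * v 0 ^ 3) * k20 +
      (u 2 * v 1 ^ 3) * k21 +
      (u 2 * v 2 ^ 3) * k22 +
      (u 2 * v 3 ^ 3) * k23 +
      (u 3 * v 0 ^ 3) * k30 +
      (u 3 * v 1 ^ 3) * k31 +
      (u 3 * v 2 ^ 3) * k32 +
      (u 3 * v 3 ^ 3) * k33
  have hinj : Function.Injective G.mulVec := by
    intro u u' huu
    funext i
    have h1 := hiso u (Pi.single i 1)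
    have h2 := hiso u' (Pi.single i 1)
    have e : ∀ w : Fin 4 → F, Cfsg.hermForm 4 F 3 w (Pi.single i 1) = w i := by
      intro w
      unfold Cfsg.hermForm
      rw [Finset.sum_eq_single i]
      · simp
      · intro b _ hb
        simp [Pi.single_apply, hb]
      · intro h
        exact absurd (Finset.mem_univ i) h
    have huu' : G *ᵥ u = G *ᵥ u' := huu
    rw [e] at h1 h2
    rw [← h1, ← h2, huu']
  obtain ⟨g, hg⟩ := Matrix.mulVec_injective_iff_isUnit.mp hinj
  refine ⟨g, ?_, ?_⟩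
  · show ∀ u v : Fin 4 → F, Cfsg.hermForm 4 F 3 ((g : Matrix (Fin 4) (Fin 4) F) *ᵥ u)
        ((g : Matrix (Fin 4) (Fin 4) F) *ᵥ v) = Cfsg.hermForm 4 F 3 u v
    rw [hg]
    exact hiso
  · intro j
    rw [hg, hGe j, hddj j, hdD j]
    exact (Submodule.span_singleton_smul_eq (IsUnit.mk0 _ (hmu0 j)) (d j)).symm

end Cfsg.Agent.Lib.Helper88.SU4Q3FRAME
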