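import Cfsg.Agent.Lib.Helper88.Flag
import Cfsg.Agent.Lib.Helper90.Centric

set_option autoImplicit false

namespace Cfsg.Agent.Lib.Helper88

open Cfsg Cfsg.FusionSystem Cfsg.Agent.Lib.Helper90 Cfsg.Agent.Lib.Helper91

variable {Ω : Type*} [Group Ω] {S : Subgroup Ω} {F : FusionSystem S}

/-! ### The subgroup `K(P)` of `N_S(P)` inducing `O_p(Aut_F(P))` -/

/-- `O_p(Aut_F(P))` as a subgroup of `Aut(P)`. -/
def opAut (p : ℕ) (F : FusionSystem S) (P : Subgroup Ω) : Subgroup (MulAut P) :=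
  (pCore p (F.autGroup P)).map (F.autGroup P).subtype

theorem opAut_le (p : ℕ) (F : FusionSystem S) (P : Subgroup Ω) : opAut p F P ≤ F.autGroup P := by
  rintro _ ⟨b, -, rfl⟩
  exact b.2

theorem isPGroup_opAut (p : ℕ) (F : FusionSystem S) (P : Subgroup Ω) : IsPGroup p (opAut p F P) :=
  (isPGroup_pCore p _).map _

/-- The elements of `N_S(P)` inducing on `P` an element of `O_p(Aut_F(P))`. -/
def kSub (p : ℕ) (F : FusionSystem S) (P : Subgroup Ω) : Subgroup Ω where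
  carrier := {g | g ∈ S ∧ g ∈ Subgroup.normalizer (P : Set Ω) ∧
    ∃ γ ∈ opAut p F P, ∀ x : P, ((γ x : P) : Ω) = g * x * g⁻¹}
  mul_mem' := by
    rintro a b ⟨ha, haN, γa, hγa, hγa'⟩ ⟨hb, hbN, γb, hγb, hγb'⟩
    refine ⟨S.mul_mem ha hb, Subgroup.mul_mem _ haN hbN, γa * γb, Subgroup.mul_mem _ hγa hγb,
      fun x => ?_⟩
    rw [MulAut.mul_apply, hγa', hγb']
    group
  one_mem' := ⟨S.one_mem, Subgroup.one_mem _, 1, Subgroup.one_mem _, fun x => by simp⟩
  inv_mem' := by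
    rintro a ⟨ha, haN, γ, hγ, hγ'⟩
    refine ⟨S.inv_mem ha, Subgroup.inv_mem _ haN, γ⁻¹, Subgroup.inv_mem _ hγ, fun x => ?_⟩
    have h := hγ' (γ⁻¹ x)
    rw [MulAut.apply_inv_self] at h
    rw [h]
    group

theorem mem_kSub {p : ℕ} {P : Subgroup Ω} {g : Ω} : g ∈ kSub p F P ↔
    g ∈ S ∧ g ∈ Subgroup.normalizer (P : Set Ω) ∧
      ∃ γ ∈ opAut p F P, ∀ x : P, ((γ x : P) : Ω) = g * x * g⁻¹ := Iff.rfl

theorem kSub_le_normalizerIn (p : ℕ) (F : FusionSystem S) (P : Subgroup Ω) :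
    kSub p F P ≤ normalizerIn S P := fun _ hg => ⟨hg.1, hg.2.1⟩

theorem le_kSub {p : ℕ} (hS : IsPGroup p S) {P : Subgroup Ω} (hP : P ≤ S) : P ≤ kSub p F P := by
  intro g hg
  refine ⟨hP hg, Subgroup.le_normalizer hg, MulAut.conj ⟨g, hg⟩, ?_, fun x => rfl⟩
  exact Inn_le_pCore_map F hS hP ((mem_Inn_iff _).mpr ⟨g, hg, fun x => rfl⟩)

theorem centralizerIn_le_kSub (p : ℕ) (F : FusionSystem S) (P : Subgroup Ω) :
    centralizerIn S P ≤ kSub p F P := by
  intro g hg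
  refine ⟨hg.1, Subgroup.centralizer_le_normalizer _ hg.2, 1, Subgroup.one_mem _, fun x => ?_⟩
  have h1 : (x : Ω) * g = g * x := Subgroup.mem_centralizer_iff.mp hg.2 x x.2
  show (x : Ω) = g * x * g⁻¹
  rw [← h1]
  group

theorem kSub_conj_mem [Finite S] {p : ℕ} {P : Subgroup Ω} (hP : P ≤ S) {a g : Ω}
    (ha : a ∈ normalizerIn S P) (hg : g ∈ kSub p F P) : a * g * a⁻¹ ∈ kSub p F P := by
  obtain ⟨hgS, hgN, γ, hγ, hγ'⟩ := hg
  obtain ⟨γa, hγaF, hγa'⟩ := exists_conjAut F hP ha.1 ha.2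
  refine ⟨S.mul_mem (S.mul_mem ha.1 hgS) (S.inv_mem ha.1),
    Subgroup.mul_mem _ (Subgroup.mul_mem _ ha.2 hgN) (Subgroup.inv_mem _ ha.2),
    γa * γ * γa⁻¹, pCore_map_conj_mem p (F.autGroup P) hγaF hγ, fun x => ?_⟩
  simp only [MulAut.mul_apply]
  rw [hγa', hγ']
  have h := hγa' (γa⁻¹ x)
  rw [MulAut.apply_inv_self] at h
  have h' : ((γa⁻¹ x : P) : Ω) = a⁻¹ * x * a := by
    rw [h]
    group
  rw [h']
  group

/-- `K(P)` is carried into `K(ψ(P))` by maps of the system. -/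
theorem kSub_map [Finite S] {p : ℕ} {Q P : Subgroup Ω} {ψ : Ω → Ω} (hψ : Mor F Q ψ) (hPQ : P ≤ Q)
    {g : Ω} (hgQ : g ∈ Q) (hg : g ∈ kSub p F P) : ψ g ∈ kSub p F (img P ψ) := by
  obtain ⟨hgS, hgN, γ, hγ, hγ'⟩ := hg
  have hψP := hψ.restrict hPQ
  obtain ⟨e, he⟩ := hψP.exists_equiv rfl
  have hN := hψ.map_normalizerIn hPQ hgQ hgN
  refine ⟨hN.1, hN.2, MulAut.congr e γ, ?_, fun y => ?_⟩
  · exact mem_pCore_map_congr p (MulAut.congr e) (F.autGroup P) (F.autGroup (img P ψ))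
      (fun a => autGroup_congr_iff hψP rfl e he a) hγ
  · rw [congr_apply_coe, he, hγ']
    have hx : ((e.symm y : P) : Ω) ∈ Q := hPQ (e.symm y).2
    rw [hψ.map_mul (Q.mul_mem hgQ hx) (Q.inv_mem hgQ), hψ.map_mul hgQ hx, hψ.map_inv hgQ, ← he]
    simp

/-! ### Generation by maps defined on larger subgroups -/

/-- Every property of the maps with source in the class of `P` that is stable under composition
and inverses and holds for restrictions of maps defined on strictly larger subgroups holds for all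
maps with source in the class. -/
def GenP (F : FusionSystem S) (P : Subgroup Ω) : Prop :=
  ∀ C : Subgroup Ω → (Ω → Ω) → Prop,
    (∀ (R : Subgroup Ω) (f g : Ω → Ω), C R f → (∀ x ∈ R, f x = g x) → C R g) →
    (∀ (R : Subgroup Ω) (f g : Ω → Ω), F.IsConj P R → Mor F R f → Mor F (img R f) g → C R f →
      C (img R f) g → C R (g ∘ f)) →
    (∀ (R : Subgroup Ω) (f : Ω → Ω), F.IsConj P R → Mor F R f → C R f →
      C (img R f) (invFn R f)) →
    (∀ (R R' : Subgroup Ω) (g : Ω → Ω), F.IsConj P R → R < R' → Mor F R' g → C R g) →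
    ∀ (R : Subgroup Ω) (f : Ω → Ω), F.IsConj P R → Mor F R f → C R f

theorem genP_of_isConj {P P' : Subgroup Ω} (h : GenP F P) (hc : F.IsConj P P') : GenP F P' := by
  intro C h1 h2 h3 h4 R f hR hf
  have hiff : ∀ R, F.IsConj P R → F.IsConj P' R := fun R hR => isConj_trans' (isConj_symm' hc) hR
  exact h C h1 (fun R f g hR => h2 R f g (hiff R hR)) (fun R f hR => h3 R f (hiff R hR))
    (fun R R' g hR => h4 R R' g (hiff R hR)) R f (isConj_trans' hc hR) hf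

theorem card_eq_of_isConj {P R : Subgroup Ω} (h : F.IsConj P R) : Nat.card R = Nat.card P := by
  obtain ⟨f, hf, hfimg⟩ := isConj_iff.mp h
  rw [← hfimg, hf.card_img]

theorem img_comp_inv {Q R : Subgroup Ω} {ψ ρ : Ω → Ω} (hψ : Mor F Q ψ) (hRQ : R ≤ Q)
    (hρ : Mor F Q ρ) : img (img R ψ) (ρ ∘ invFn Q ψ) = img R ρ := by
  have h1 : Mor F (img R ψ) (ρ ∘ invFn Q ψ) :=
    (hψ.inv.restrict (img_mono' hRQ ψ)).comp hρ (fun y hy => hψ.invFn_mem (img_mono' hRQ ψ hy))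
  ext y
  rw [h1.mem_img, (hρ.restrict hRQ).mem_img]
  constructor
  · rintro ⟨z, hz, rfl⟩
    obtain ⟨x, hx, rfl⟩ := (hψ.restrict hRQ).mem_img.mp hz
    refine ⟨x, hx, ?_⟩
    show ρ x = ρ (invFn Q ψ (ψ x))
    rw [hψ.invFn_apply (hRQ hx)]
  · rintro ⟨x, hx, rfl⟩
    refine ⟨ψ x, (hψ.restrict hRQ).mem_img_of_mem hx, ?_⟩
    show ρ (invFn Q ψ (ψ x)) = ρ x
    rw [hψ.invFn_apply (hRQ hx)]

theorem img_inv_of_le {Q R : Subgroup Ω} {ψ : Ω → Ω} (hψ : Mor F Q ψ) (hRQ : R ≤ Q) :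
    img (img R ψ) (invFn Q ψ) = R := by
  have h1 : Mor F (img R ψ) (invFn Q ψ) := hψ.inv.restrict (img_mono' hRQ ψ)
  ext y
  rw [h1.mem_img]
  constructor
  · rintro ⟨z, hz, rfl⟩
    obtain ⟨x, hx, rfl⟩ := (hψ.restrict hRQ).mem_img.mp hz
    rw [hψ.invFn_apply (hRQ hx)]
    exact hx
  · intro hy
    exact ⟨ψ y, (hψ.restrict hRQ).mem_img_of_mem hy, hψ.invFn_apply (hRQ hy)⟩

/-! ### Maps of normalizers onto the normalizer of a fully normalized member -/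

/-- Some map of the system defined on `N_S(R)` carries `R` onto `P`. -/
def HasNMap (F : FusionSystem S) (P R : Subgroup Ω) : Prop :=
  ∃ χ, Mor F (normalizerIn S R) χ ∧ img R χ = P

theorem exists_flag [Finite S] {p : ℕ} [Fact p.Prime] {Q R : Subgroup Ω} (hRQ : R ≤ Q)
    (hsat : ∃ Q', F.IsConj Q Q' ∧ F.IsFullyAutomized p Q' ∧ F.IsReceptive Q') :
    ∃ (B A : Subgroup Ω) (ρ : Ω → Ω), F.IsFullyAutomized p B ∧ F.IsReceptive B ∧ A ≤ B ∧
      FlagSyl p F B A ∧ Mor F Q ρ ∧ img Q ρ = B ∧ img R ρ = A := by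
  obtain ⟨B, hconj, hfa, hrec⟩ := hsat
  obtain ⟨ρ₀, hρ₀, hρ₀img⟩ := isConj_iff.mp hconj
  have hA₀ : img R ρ₀ ≤ B := hρ₀img ▸ img_mono' hRQ ρ₀
  obtain ⟨γ, hγ, hsyl⟩ := flag_exists hfa hA₀
  have hγm := (mem_autGroup_iff F hfa.1 γ).mp hγ
  have hmem : ∀ x ∈ Q, ρ₀ x ∈ B := fun x hx => hρ₀img ▸ hρ₀.mem_img_of_mem hx
  refine ⟨B, img (img R ρ₀) (autFun B γ), autFun B γ ∘ ρ₀, hfa, hrec, ?_, hsyl,
    hρ₀.comp hγm hmem, ?_, ?_⟩
  · intro y hy
    obtain ⟨x, hx, rfl⟩ := (hγm.restrict hA₀).mem_img.mp hy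
    exact autFun_mem γ (hA₀ hx)
  · rw [Mor.img_comp hρ₀ hγm hmem, hρ₀img, img_autFun]
  · exact Mor.img_comp (hρ₀.restrict hRQ) hγm (fun x hx => hmem x (hRQ hx))

theorem hasNMap_step [Finite S] {p : ℕ} [Fact p.Prime] (hS : IsPGroup p S) {P : Subgroup Ω}
    (hP : P ≤ S)
    (H1 : ∀ Q : Subgroup Ω, Q ≤ S → Nat.card P < Nat.card Q →
      ∃ Q', F.IsConj Q Q' ∧ F.IsFullyAutomized p Q' ∧ F.IsReceptive Q')
    (hfn : ∀ R, F.IsConj P R → Nat.card (normalizerIn S R) ≤ Nat.card (normalizerIn S P)) :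
    ∀ (d : ℕ) (R Q : Subgroup Ω) (ψ : Ω → Ω), F.IsConj P R → R ≤ Q → Q ≤ normalizerIn S R →
      Nat.card P < Nat.card Q → Mor F Q ψ → img R ψ = P → Nat.card S - Nat.card Q = d →
      HasNMap F P R := by
  intro d
  induction d using Nat.strong_induction_on with
  | _ d ih =>
  intro R Q ψ hR hRQ hQN hcard hψ hψR hd
  have hQS : Q ≤ S := hψ.le
  have hQcard : Nat.card Q ≤ Nat.card S := Subgroup.card_le_of_le hQS
  rcases eq_or_lt_of_le hQN with heq | hlt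
  · exact ⟨ψ, heq ▸ hψ, hψR⟩
  · have hNRp : IsPGroup p (normalizerIn S R) := hS.to_le inf_le_left
    have hfinNR : Finite (normalizerIn S R) := finite_of_le inf_le_left
    have hQ₂ : Q < normalizerIn (normalizerIn S R) Q := lt_normalizerIn hNRp hlt
    have hPQ' : P ≤ img Q ψ := hψR ▸ img_mono' hRQ ψ
    have hQ'N : img Q ψ ≤ normalizerIn S P := hψR ▸ mor_img_le_normalizerIn hψ hRQ hQN
    have hcardQ' : Nat.card (img Q ψ) = Nat.card Q := hψ.card_img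
    have hQ'lt : img Q ψ < normalizerIn S P := by
      refine lt_of_le_of_ne hQ'N (fun h => ?_)
      have h1 : Nat.card Q < Nat.card (normalizerIn S R) := card_lt_of_lt hlt
      have h2 := hfn R hR
      rw [← h, hcardQ'] at h2
      omega
    have hNPp : IsPGroup p (normalizerIn S P) := hS.to_le inf_le_left
    have hfinNP : Finite (normalizerIn S P) := finite_of_le inf_le_left
    have hQ'₂ : img Q ψ < normalizerIn (normalizerIn S P) (img Q ψ) := lt_normalizerIn hNPp hQ'lt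
    obtain ⟨B, A, ρ, hfa, hrec, hAB, hsyl, hρ, hρB, hρA⟩ := exists_flag hRQ (H1 Q hQS hcard)
    obtain ⟨l₁, hl₁, hl₁B, hl₁A⟩ := flag_map hS hrec hAB hsyl hRQ hρ hρB hρA
    have hinv : Mor F (img Q ψ) (invFn Q ψ) := hψ.inv
    have hρ' : Mor F (img Q ψ) (ρ ∘ invFn Q ψ) := hinv.comp hρ (fun y hy => hψ.invFn_mem hy)
    have hρ'B : img (img Q ψ) (ρ ∘ invFn Q ψ) = B := by
      rw [Mor.img_comp hinv hρ (fun y hy => hψ.invFn_mem hy), hψ.img_inv, hρB]
    have hρ'A : img P (ρ ∘ invFn Q ψ) = A := by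
      rw [← hρA, ← hψR]
      exact img_comp_inv hψ hRQ hρ
    obtain ⟨l₂, hl₂, hl₂B, hl₂A⟩ := flag_map hS hrec hAB hsyl hPQ' hρ' hρ'B hρ'A
    have hPN₂ : P ≤ normalizerIn (normalizerIn S P) (img Q ψ) :=
      fun x hx => ⟨⟨hP hx, Subgroup.le_normalizer hx⟩, Subgroup.le_normalizer (hPQ' hx)⟩
    have hconjA : F.IsConj P A := isConj_iff.mpr ⟨l₂, hl₂.restrict hPN₂, hl₂A⟩
    have hN₂N : normalizerIn (normalizerIn S P) (img Q ψ) ≤ normalizerIn S P := inf_le_left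
    have hfinN₂ : Finite (normalizerIn (normalizerIn S P) (img Q ψ)) :=
      finite_of_le (hN₂N.trans inf_le_left)
    have hR₂N : img (normalizerIn (normalizerIn S P) (img Q ψ)) l₂ ≤ normalizerIn S A :=
      hl₂A ▸ mor_img_le_normalizerIn hl₂ hPN₂ hN₂N
    have hAR₂ : A ≤ img (normalizerIn (normalizerIn S P) (img Q ψ)) l₂ :=
      hl₂A ▸ img_mono' hPN₂ l₂
    have hcardR₂ : Nat.card (img (normalizerIn (normalizerIn S P) (img Q ψ)) l₂) =
        Nat.card (normalizerIn (normalizerIn S P) (img Q ψ)) := hl₂.card_img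
    have hcardN₂ : Nat.card Q < Nat.card (normalizerIn (normalizerIn S P) (img Q ψ)) := by
      rw [← hcardQ']
      exact card_lt_of_lt hQ'₂
    have hR₂S : Nat.card (img (normalizerIn (normalizerIn S P) (img Q ψ)) l₂) ≤ Nat.card S :=
      Subgroup.card_le_of_le hl₂.img_le
    have hAmap : HasNMap F P A := by
      refine ih (Nat.card S - Nat.card (img (normalizerIn (normalizerIn S P) (img Q ψ)) l₂)) ?_
        A _ (invFn (normalizerIn (normalizerIn S P) (img Q ψ)) l₂) hconjA hAR₂ hR₂N ?_ hl₂.inv ?_ rfl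
      · omega
      · omega
      · rw [← hl₂A]
        exact img_inv_of_le hl₂ hPN₂
    obtain ⟨χA, hχA, hχAimg⟩ := hAmap
    have hRS : R ≤ S := hRQ.trans hQS
    have hRN₁ : R ≤ normalizerIn (normalizerIn S R) Q :=
      fun x hx => ⟨⟨hRS hx, Subgroup.le_normalizer hx⟩, Subgroup.le_normalizer (hRQ hx)⟩
    have hN₁N : normalizerIn (normalizerIn S R) Q ≤ normalizerIn S R := inf_le_left
    have hfinN₁ : Finite (normalizerIn (normalizerIn S R) Q) := finite_of_le (hN₁N.trans inf_le_left)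
    have hl₁N : ∀ x ∈ normalizerIn (normalizerIn S R) Q, l₁ x ∈ normalizerIn S A := fun x hx =>
      (hl₁A ▸ mor_img_le_normalizerIn hl₁ hRN₁ hN₁N) (hl₁.mem_img_of_mem hx)
    have hψ₂ : Mor F (normalizerIn (normalizerIn S R) Q) (χA ∘ l₁) := hl₁.comp hχA hl₁N
    have hψ₂R : img R (χA ∘ l₁) = P := by
      rw [Mor.img_comp (hl₁.restrict hRN₁) hχA (fun x hx => hl₁N x (hRN₁ hx)), hl₁A, hχAimg]
    have hcardN₁ : Nat.card Q < Nat.card (normalizerIn (normalizerIn S R) Q) := card_lt_of_lt hQ₂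
    have hN₁S : Nat.card (normalizerIn (normalizerIn S R) Q) ≤ Nat.card S :=
      Subgroup.card_le_of_le (hN₁N.trans inf_le_left)
    exact ih (Nat.card S - Nat.card (normalizerIn (normalizerIn S R) Q)) (by omega) R _ (χA ∘ l₁)
      hR hRN₁ hN₁N (by omega) hψ₂ hψ₂R rfl

theorem hasNMap_of_lt [Finite S] {p : ℕ} [Fact p.Prime] (hS : IsPGroup p S) {P : Subgroup Ω}
    (hP : P ≤ S)
    (H1 : ∀ Q : Subgroup Ω, Q ≤ S → Nat.card P < Nat.card Q →
      ∃ Q', F.IsConj Q Q' ∧ F.IsFullyAutomized p Q' ∧ F.IsReceptive Q')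
    (hfn : ∀ R, F.IsConj P R → Nat.card (normalizerIn S R) ≤ Nat.card (normalizerIn S P))
    {R R' : Subgroup Ω} {g : Ω → Ω} (hR : F.IsConj P R) (hlt : R < R') (hg : Mor F R' g)
    (h : HasNMap F P (img R g)) : HasNMap F P R := by
  obtain ⟨χ₁, hχ₁, hχ₁img⟩ := h
  have hR'S : R' ≤ S := hg.le
  have hR'p : IsPGroup p R' := hS.to_le hR'S
  have hfinR' : Finite R' := finite_of_le hR'S
  have hQ : R < normalizerIn R' R := lt_normalizerIn hR'p hlt
  have hQR' : normalizerIn R' R ≤ R' := inf_le_left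
  have hQN : normalizerIn R' R ≤ normalizerIn S R := fun x hx => ⟨hR'S hx.1, hx.2⟩
  have hgQ : Mor F (normalizerIn R' R) g := hg.restrict hQR'
  have hgN : ∀ x ∈ normalizerIn R' R, g x ∈ normalizerIn S (img R g) := fun x hx =>
    mor_img_le_normalizerIn hgQ hQ.le hQN (hgQ.mem_img_of_mem hx)
  have hψ : Mor F (normalizerIn R' R) (χ₁ ∘ g) := hgQ.comp hχ₁ hgN
  have hψR : img R (χ₁ ∘ g) = P := by
    rw [Mor.img_comp (hgQ.restrict hQ.le) hχ₁ (fun x hx => hgN x (hQ.le hx)), hχ₁img]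
  have hfinQ : Finite (normalizerIn R' R) := finite_of_le (hQR'.trans hR'S)
  have hcard : Nat.card P < Nat.card (normalizerIn R' R) := by
    rw [← card_eq_of_isConj hR]
    exact card_lt_of_lt hQ
  exact hasNMap_step hS hP H1 hfn _ R _ _ hR hQ.le hQN hcard hψ hψR rfl

/-- Every member `R` of the class of a fully normalized `P` has a map `N_S(R) → N_S(P)` of the
system carrying `R` onto `P`. -/
theorem hasNMap_all [Finite S] {p : ℕ} [Fact p.Prime] (hS : IsPGroup p S) {P : Subgroup Ω}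
    (hP : P ≤ S)
    (H1 : ∀ Q : Subgroup Ω, Q ≤ S → Nat.card P < Nat.card Q →
      ∃ Q', F.IsConj Q Q' ∧ F.IsFullyAutomized p Q' ∧ F.IsReceptive Q')
    (H2 : GenP F P)
    (hfn : ∀ R, F.IsConj P R → Nat.card (normalizerIn S R) ≤ Nat.card (normalizerIn S P)) :
    ∀ R, F.IsConj P R → HasNMap F P R := by
  have key := H2 (fun R f => HasNMap F P R ↔ HasNMap F P (img R f)) ?_ ?_ ?_ ?_
  · intro R hR
    obtain ⟨f, hf, hfimg⟩ := isConj_iff.mp hR
    have h1 := key P f (isConj_self F hP) hf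
    rw [hfimg] at h1
    exact h1.mp ⟨id, mor_id F inf_le_left, img_id P⟩
  · intro R f g h hfg
    rw [← img_congr hfg]
    exact h
  · intro R f g hR hf hg h1 h2
    rw [Mor.img_comp hf hg (fun x hx => hf.mem_img_of_mem hx)]
    exact h1.trans h2
  · intro R f hR hf h
    rw [hf.img_inv]
    exact h.symm
  · intro R R' g hR hlt hg
    constructor
    · intro hRmap
      have hfinR' : Finite R' := finite_of_le hg.le
      have hR₁ : F.IsConj P (img R g) := isConj_trans' hR (isConj_of_mor (hg.restrict hlt.le))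
      have hfin1 : Finite (img R' g) := finite_of_le hg.img_le
      have hlt₁ : img R g < img R' g := by
        refine lt_of_le_of_ne (img_mono' hlt.le g) (fun h => ?_)
        have h1 : Nat.card (img R g) = Nat.card R := (hg.restrict hlt.le).card_img
        have h2 : Nat.card (img R' g) = Nat.card R' := hg.card_img
        have h3 := card_lt_of_lt hlt
        rw [h] at h1
        omega
      refine hasNMap_of_lt hS hP H1 hfn hR₁ hlt₁ hg.inv ?_
      rw [img_inv_of_le hg hlt.le]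
      exact hRmap
    · exact hasNMap_of_lt hS hP H1 hfn hR hlt hg

/-! ### Restriction of automorphisms to a stabilized subgroup -/

/-- The automorphism `δ` of `B` restricts to the automorphism `d` of `A`. -/
def ResTo (B A : Subgroup Ω) (δ : MulAut B) (d : MulAut A) : Prop :=
  ∀ x : A, autFun B δ x = ((d x : A) : Ω)

theorem resTo_mul {B A : Subgroup Ω} (hAB : A ≤ B) {δ₁ δ₂ : MulAut B} {d₁ d₂ : MulAut A}
    (h₁ : ResTo B A δ₁ d₁) (h₂ : ResTo B A δ₂ d₂) : ResTo B A (δ₁ * δ₂) (d₁ * d₂) := by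
  intro x
  rw [autFun_mul_apply δ₁ δ₂ (hAB x.2), h₂ x, h₁ (d₂ x)]
  rfl

theorem resTo_one {B A : Subgroup Ω} (hAB : A ≤ B) : ResTo B A 1 1 := by
  intro x
  rw [autFun_apply' _ (hAB x.2)]
  rfl

theorem resTo_inv {B A : Subgroup Ω} (hAB : A ≤ B) {δ : MulAut B} {d : MulAut A}
    (h : ResTo B A δ d) : ResTo B A δ⁻¹ d⁻¹ := by
  intro x
  have h1 := h (d⁻¹ x)
  rw [MulAut.apply_inv_self] at h1
  calc autFun B δ⁻¹ x = autFun B δ⁻¹ (autFun B δ ((d⁻¹ x : A) : Ω)) := by rw [h1]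
    _ = ((d⁻¹ x : A) : Ω) := autFun_inv_apply' δ (hAB (d⁻¹ x).2)

theorem resTo_pow {B A : Subgroup Ω} (hAB : A ≤ B) {δ : MulAut B} {d : MulAut A}
    (h : ResTo B A δ d) (n : ℕ) : ResTo B A (δ ^ n) (d ^ n) := by
  induction n with
  | zero => simpa using resTo_one hAB
  | succ n ih =>
    rw [pow_succ, pow_succ]
    exact resTo_mul hAB ih h

theorem mem_stabSub_of_resTo {B A : Subgroup Ω} [Finite B] (hAB : A ≤ B) {δ : MulAut B}
    {d : MulAut A} (h : ResTo B A δ d) : δ ∈ stabSub B A := by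
  apply mem_stabSub_of_maps hAB
  intro x hx
  have h1 := h ⟨x, hx⟩
  rw [autFun_apply] at h1
  rw [h1]
  exact (d ⟨x, hx⟩).2

theorem exists_resTo [Finite S] {B A : Subgroup Ω} (hB : B ≤ S) (hAB : A ≤ B) {g : MulAut B}
    (hg : g ∈ F.autGroup B) (hgs : g ∈ stabSub B A) : ∃ gA ∈ F.autGroup A, ResTo B A g gA := by
  have : Finite A := finite_of_le (hAB.trans hB)
  obtain ⟨gA, hgA, hgA'⟩ := exists_aut_of_mor (((mem_autGroup_iff F hB g).mp hg).restrict hAB)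
    (fun x hx => autFun_mem_of_stab hAB hgs hx)
  exact ⟨gA, hgA, fun x => (hgA' x).symm⟩

/-- The automorphisms of `B` in the system that induce on `A` an element of `Θ`. -/
def resPre (F : FusionSystem S) {B A : Subgroup Ω} (hAB : A ≤ B) (Θ : Subgroup (MulAut A)) :
    Subgroup (MulAut B) where
  carrier := {m | m ∈ F.autGroup B ∧ ∃ θ ∈ Θ, ResTo B A m θ}
  mul_mem' := by
    rintro a b ⟨ha, θa, hθa, ha'⟩ ⟨hb, θb, hθb, hb'⟩
    exact ⟨Subgroup.mul_mem _ ha hb, θa * θb, Θ.mul_mem hθa hθb, resTo_mul hAB ha' hb'⟩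
  one_mem' := ⟨Subgroup.one_mem _, 1, Θ.one_mem, resTo_one hAB⟩
  inv_mem' := by
    rintro a ⟨ha, θa, hθa, ha'⟩
    exact ⟨Subgroup.inv_mem _ ha, θa⁻¹, Θ.inv_mem hθa, resTo_inv hAB ha'⟩

theorem mem_resPre {B A : Subgroup Ω} {hAB : A ≤ B} {Θ : Subgroup (MulAut A)} {m : MulAut B} :
    m ∈ resPre F hAB Θ ↔ m ∈ F.autGroup B ∧ ∃ θ ∈ Θ, ResTo B A m θ := Iff.rfl

theorem mem_resPre_bot {B A : Subgroup Ω} {hAB : A ≤ B} {m : MulAut B} :
    m ∈ resPre F hAB ⊥ ↔ m ∈ F.autGroup B ∧ ResTo B A m 1 := by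
  constructor
  · rintro ⟨h1, θ, hθ, h2⟩
    rw [Subgroup.mem_bot] at hθ
    subst hθ
    exact ⟨h1, h2⟩
  · rintro ⟨h1, h2⟩
    exact ⟨h1, 1, Subgroup.one_mem _, h2⟩

theorem resPre_mono {B A : Subgroup Ω} (hAB : A ≤ B) {Θ₁ Θ₂ : Subgroup (MulAut A)} (h : Θ₁ ≤ Θ₂) :
    resPre F hAB Θ₁ ≤ resPre F hAB Θ₂ := by
  rintro m ⟨h1, θ, hθ, h2⟩
  exact ⟨h1, θ, h hθ, h2⟩

theorem resPre_le_stab {B A : Subgroup Ω} [Finite B] (hAB : A ≤ B) (Θ : Subgroup (MulAut A)) :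
    resPre F hAB Θ ≤ F.autGroup B ⊓ stabSub B A := by
  rintro m ⟨h1, θ, -, h2⟩
  exact ⟨h1, mem_stabSub_of_resTo hAB h2⟩

theorem resPre_conj_mem [Finite S] {B A : Subgroup Ω} (hB : B ≤ S) (hAB : A ≤ B)
    {Θ : Subgroup (MulAut A)} (hΘ : ∀ a ∈ F.autGroup A, ∀ θ ∈ Θ, a * θ * a⁻¹ ∈ Θ)
    {g m : MulAut B} (hg : g ∈ F.autGroup B ⊓ stabSub B A) (hm : m ∈ resPre F hAB Θ) :
    g * m * g⁻¹ ∈ resPre F hAB Θ := by
  obtain ⟨hm1, θ, hθ, hm2⟩ := hm
  obtain ⟨gA, hgA, hgA'⟩ := exists_resTo hB hAB hg.1 hg.2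
  refine ⟨Subgroup.mul_mem _ (Subgroup.mul_mem _ hg.1 hm1) (Subgroup.inv_mem _ hg.1),
    gA * θ * gA⁻¹, hΘ gA hgA θ hθ, ?_⟩
  exact resTo_mul hAB (resTo_mul hAB hgA' hm2) (resTo_inv hAB hgA')

theorem resPre_pow_mem {p : ℕ} {B A : Subgroup Ω} (hAB : A ≤ B) {Θ : Subgroup (MulAut A)}
    (hΘp : IsPGroup p Θ) {m : MulAut B} (hm : m ∈ resPre F hAB Θ) :
    ∃ j : ℕ, m ^ (p ^ j) ∈ resPre F hAB ⊥ := by
  obtain ⟨hm1, θ, hθ, hm2⟩ := hm
  obtain ⟨j, hj⟩ := hΘp ⟨θ, hθ⟩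
  have hj' : θ ^ (p ^ j) = 1 := congrArg Subtype.val hj
  refine ⟨j, mem_resPre_bot.mpr ⟨Subgroup.pow_mem _ hm1 _, ?_⟩⟩
  have := resTo_pow hAB hm2 (p ^ j)
  rwa [hj'] at this

/-- The preimage of a subgroup under a map of the system. -/
def preSub {N : Subgroup Ω} {f : Ω → Ω} (hf : Mor F N f) (E : Subgroup Ω) : Subgroup Ω where
  carrier := {z | z ∈ N ∧ f z ∈ E}
  mul_mem' := by
    rintro a b ⟨h1, h2⟩ ⟨h1', h2'⟩
    exact ⟨N.mul_mem h1 h1', by rw [hf.map_mul h1 h1']; exact E.mul_mem h2 h2'⟩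
  one_mem' := ⟨N.one_mem, by rw [hf.map_one]; exact E.one_mem⟩
  inv_mem' := by
    rintro a ⟨h1, h2⟩
    exact ⟨N.inv_mem h1, by rw [hf.map_inv h1]; exact E.inv_mem h2⟩

/-! ### Automorphisms of `P` extending to larger subgroups of `N_S(P)` -/

/-- Automorphisms of `P` that are restrictions of maps of the system defined on subgroups `Q` of
`N_S(P)` with `m ≤ |Q|` or `K ≤ Q`. -/
def ExtSet (F : FusionSystem S) (P K : Subgroup Ω) (m : ℕ) : Set (MulAut P) :=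
  {α | ∃ (Q : Subgroup Ω) (ψ : Ω → Ω), P ≤ Q ∧ Q ≤ normalizerIn S P ∧ Mor F Q ψ ∧
    (∀ x : P, ((α x : P) : Ω) = ψ x) ∧ (m ≤ Nat.card Q ∨ K ≤ Q)}

theorem autGroup_le_ext [Finite S] {p : ℕ} [Fact p.Prime] (hS : IsPGroup p S) {P : Subgroup Ω}
    (K : Subgroup Ω) (hPS : P < S) (H2 : GenP F P) (hX : ∀ R, F.IsConj P R → HasNMap F P R) :
    F.autGroup P ≤ Subgroup.closure (ExtSet F P K (Nat.card P + 1)) := by
  classical
  have hP : P ≤ S := hPS.le
  have hfinP : Finite P := finite_of_le hP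
  choose! X hX using hX
  have hXmem : ∀ R, F.IsConj P R → R ≤ S → ∀ x ∈ R, X R x ∈ P := by
    intro R hR hRS x hx
    have h := hX R hR
    rw [← h.2]
    exact (h.1.restrict (le_normalizerIn hRS)).mem_img_of_mem hx
  have key := H2 (fun R f => ∃ τ ∈ Subgroup.closure (ExtSet F P K (Nat.card P + 1)),
    ∀ x ∈ R, autFun P τ (X R x) = X (img R f) (f x)) ?_ ?_ ?_ ?_
  · intro α hα
    have hαm := (mem_autGroup_iff F hP α).mp hα
    obtain ⟨τ, hτ, hτx⟩ := key P (autFun P α) (isConj_self F hP) hαm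
    rw [img_autFun] at hτx
    have hXP := hX P (isConj_self F hP)
    obtain ⟨ξ, hξF, hξ⟩ := exists_aut_of_mor (hXP.1.restrict (le_normalizerIn hP))
      (hXmem P (isConj_self F hP) hP)
    have hfinN : Finite (normalizerIn S P) := finite_of_le inf_le_left
    have hξE : ξ ∈ ExtSet F P K (Nat.card P + 1) :=
      ⟨normalizerIn S P, X P, le_normalizerIn hP, le_rfl, hXP.1, hξ,
        Or.inl (card_lt_of_lt (lt_normalizerIn hS hPS))⟩
    have h1 : ξ * α = τ * ξ := by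
      ext x
      show ((ξ (α x) : P) : Ω) = ((τ (ξ x) : P) : Ω)
      have h2 := hτx x x.2
      rw [autFun_apply α x] at h2
      rw [hξ, ← h2, ← hξ x, autFun_apply]
    have e : α = ξ⁻¹ * τ * ξ := by
      rw [mul_assoc, ← h1]
      group
    rw [e]
    exact Subgroup.mul_mem _ (Subgroup.mul_mem _ (Subgroup.inv_mem _ (Subgroup.subset_closure hξE))
      hτ) (Subgroup.subset_closure hξE)
  · rintro R f g ⟨τ, hτ, h⟩ hfg
    refine ⟨τ, hτ, fun x hx => ?_⟩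
    rw [← img_congr hfg, ← hfg x hx]
    exact h x hx
  · rintro R f g hR hf hg ⟨τ₁, hτ₁, h₁⟩ ⟨τ₂, hτ₂, h₂⟩
    refine ⟨τ₂ * τ₁, Subgroup.mul_mem _ hτ₂ hτ₁, fun x hx => ?_⟩
    rw [autFun_mul_apply τ₂ τ₁ (hXmem R hR hf.le x hx), h₁ x hx, h₂ (f x) (hf.mem_img_of_mem hx),
      Mor.img_comp hf hg (fun x hx => hf.mem_img_of_mem hx)]
    rfl
  · rintro R f hR hf ⟨τ, hτ, h⟩
    refine ⟨τ⁻¹, Subgroup.inv_mem _ hτ, fun y hy => ?_⟩
    obtain ⟨x, hx, rfl⟩ := hf.mem_img.mp hy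
    rw [hf.img_inv, hf.invFn_apply hx, ← h x hx]
    exact autFun_inv_apply' τ (hXmem R hR hf.le x hx)
  · intro R R' g hR hlt hg
    have hR'S : R' ≤ S := hg.le
    have hR'p : IsPGroup p R' := hS.to_le hR'S
    have hfinR' : Finite R' := finite_of_le hR'S
    have hRS : R ≤ S := hlt.le.trans hR'S
    have hQ : R < normalizerIn R' R := lt_normalizerIn hR'p hlt
    have hQR' : normalizerIn R' R ≤ R' := inf_le_left
    have hQN : normalizerIn R' R ≤ normalizerIn S R := fun x hx => ⟨hR'S hx.1, hx.2⟩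
    have hgQ : Mor F (normalizerIn R' R) g := hg.restrict hQR'
    have hR₁ : F.IsConj P (img R g) := isConj_trans' hR (isConj_of_mor (hg.restrict hlt.le))
    obtain ⟨hXR, hXRimg⟩ := hX R hR
    obtain ⟨hXR₁, hXR₁img⟩ := hX (img R g) hR₁
    have hXQ : Mor F (normalizerIn R' R) (X R) := hXR.restrict hQN
    have hgN : ∀ x ∈ normalizerIn R' R, g x ∈ normalizerIn S (img R g) := fun x hx =>
      mor_img_le_normalizerIn hgQ hQ.le hQN (hgQ.mem_img_of_mem hx)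
    have hψ : Mor F (img (normalizerIn R' R) (X R))
        (X (img R g) ∘ g ∘ invFn (normalizerIn R' R) (X R)) :=
      (hXQ.inv.comp hgQ (fun y hy => hXQ.invFn_mem hy)).comp hXR₁
        (fun y hy => hgN _ (hXQ.invFn_mem hy))
    have hPQ' : P ≤ img (normalizerIn R' R) (X R) := hXRimg ▸ img_mono' hQ.le (X R)
    have hQ'N : img (normalizerIn R' R) (X R) ≤ normalizerIn S P :=
      hXRimg ▸ mor_img_le_normalizerIn hXQ hQ.le hQN
    have hval : ∀ x ∈ R, (X (img R g) ∘ g ∘ invFn (normalizerIn R' R) (X R)) (X R x) =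
        X (img R g) (g x) := by
      intro x hx
      show X (img R g) (g (invFn (normalizerIn R' R) (X R) (X R x))) = _
      rw [hXQ.invFn_apply (hQ.le hx)]
    have hR₁S : img R g ≤ S := (hg.restrict hlt.le).img_le
    have hψP : ∀ z ∈ P, (X (img R g) ∘ g ∘ invFn (normalizerIn R' R) (X R)) z ∈ P := by
      intro z hz
      rw [← hXRimg] at hz
      obtain ⟨x, hx, rfl⟩ := (hXQ.restrict hQ.le).mem_img.mp hz
      rw [hval x hx]
      exact hXmem (img R g) hR₁ hR₁S _ ((hg.restrict hlt.le).mem_img_of_mem hx)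
    obtain ⟨τ, hτF, hτ⟩ := exists_aut_of_mor (hψ.restrict hPQ') hψP
    have hfinQ : Finite (normalizerIn R' R) := finite_of_le (hQR'.trans hR'S)
    refine ⟨τ, Subgroup.subset_closure ⟨_, _, hPQ', hQ'N, hψ, hτ, Or.inl ?_⟩, fun x hx => ?_⟩
    · rw [hXQ.card_img]
      have h1 := card_lt_of_lt hQ
      rw [card_eq_of_isConj hR] at h1
      omega
    · rw [autFun_apply' τ (hXmem R hR hRS x hx), hτ]
      exact hval x hx

theorem extSet_step [Finite S] {p : ℕ} [Fact p.Prime] (hS : IsPGroup p S) {P : Subgroup Ω}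
    (hP : P ≤ S)
    (H1 : ∀ Q : Subgroup Ω, Q ≤ S → Nat.card P < Nat.card Q →
      ∃ Q', F.IsConj Q Q' ∧ F.IsFullyAutomized p Q' ∧ F.IsReceptive Q')
    (hX : ∀ R, F.IsConj P R → HasNMap F P R) {m : ℕ} (hm : Nat.card P < m) :
    ExtSet F P (kSub p F P) m ⊆ Subgroup.closure (ExtSet F P (kSub p F P) (m + 1)) := by
  rintro α ⟨Q, ψ, hPQ, hQN, hψ, hαψ, hor⟩
  by_cases hKQ : kSub p F P ≤ Q
  · exact Subgroup.subset_closure ⟨Q, ψ, hPQ, hQN, hψ, hαψ, Or.inr hKQ⟩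
  rcases hor with hmQ | hKQ'
  swap
  · exact absurd hKQ' hKQ
  by_cases hm1 : m + 1 ≤ Nat.card Q
  · exact Subgroup.subset_closure ⟨Q, ψ, hPQ, hQN, hψ, hαψ, Or.inl hm1⟩
  have hQcard : Nat.card Q = m := by omega
  have hQS : Q ≤ S := hψ.le
  have hfinP : Finite P := finite_of_le hP
  have hKS : kSub p F P ≤ S := (kSub_le_normalizerIn p F P).trans inf_le_left
  -- an element of `K` normalizing `Q` outside `Q`
  obtain ⟨c, hcK, hcNQ, hcQ⟩ := exists_normalizing_not_mem' hS hQS hKS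
    (fun x hx q hq => kSub_conj_mem hP (hQN hx) hq) hKQ
  have hcN : c ∈ normalizerIn S P := kSub_le_normalizerIn p F P hcK
  have hψP : ∀ x ∈ P, ψ x ∈ P := fun x hx => by
    rw [← hαψ ⟨x, hx⟩]
    exact (α ⟨x, hx⟩).2
  have hψPimg : img P ψ = P := (hψ.restrict hPQ).img_eq_self hψP
  have hPQ' : P ≤ img Q ψ := hψPimg ▸ img_mono' hPQ ψ
  have hQ'N : img Q ψ ≤ normalizerIn S P := hψPimg ▸ mor_img_le_normalizerIn hψ hPQ hQN
  have hcardQ' : Nat.card (img Q ψ) = Nat.card Q := hψ.card_img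
  -- the flag in Sylow position
  obtain ⟨B, A, ρ, hfa, hrec, hAB, hsyl, hρ, hρB, hρA⟩ := exists_flag hPQ (H1 Q hQS (by omega))
  have hB : B ≤ S := hfa.1
  have hfinB : Finite B := finite_of_le hB
  have hAS : A ≤ S := hAB.trans hB
  have hfinA : Finite A := finite_of_le hAS
  obtain ⟨l₁, hl₁, hl₁B, hl₁A⟩ := flag_map hS hrec hAB hsyl hPQ hρ hρB hρA
  have hinv : Mor F (img Q ψ) (invFn Q ψ) := hψ.inv
  have hρ' : Mor F (img Q ψ) (ρ ∘ invFn Q ψ) := hinv.comp hρ (fun y hy => hψ.invFn_mem hy)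
  have hρ'B : img (img Q ψ) (ρ ∘ invFn Q ψ) = B := by
    rw [Mor.img_comp hinv hρ (fun y hy => hψ.invFn_mem hy), hψ.img_inv, hρB]
  have hρ'A : img P (ρ ∘ invFn Q ψ) = A := by
    have h := img_comp_inv hψ hPQ hρ
    rw [hψPimg, hρA] at h
    exact h
  obtain ⟨l₂, hl₂, hl₂B, hl₂A⟩ := flag_map hS hrec hAB hsyl hPQ' hρ' hρ'B hρ'A
  have hQN₁ : Q ≤ normalizerIn (normalizerIn S P) Q :=
    fun x hx => ⟨hQN hx, Subgroup.le_normalizer hx⟩
  have hPN₁ : P ≤ normalizerIn (normalizerIn S P) Q := hPQ.trans hQN₁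
  have hQ'N₂ : img Q ψ ≤ normalizerIn (normalizerIn S P) (img Q ψ) :=
    fun x hx => ⟨hQ'N hx, Subgroup.le_normalizer hx⟩
  have hPN₂ : P ≤ normalizerIn (normalizerIn S P) (img Q ψ) := hPQ'.trans hQ'N₂
  have hN₁N : normalizerIn (normalizerIn S P) Q ≤ normalizerIn S P := inf_le_left
  have hN₂N : normalizerIn (normalizerIn S P) (img Q ψ) ≤ normalizerIn S P := inf_le_left
  have hcN₁ : c ∈ normalizerIn (normalizerIn S P) Q := ⟨hcN, hcNQ⟩
  have hconjA : F.IsConj P A := isConj_iff.mpr ⟨l₁, hl₁.restrict hPN₁, hl₁A⟩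
  obtain ⟨χA, hχA, hχAimg⟩ := hX A hconjA
  have hl₁N : ∀ x ∈ normalizerIn (normalizerIn S P) Q, l₁ x ∈ normalizerIn S A := fun x hx =>
    (hl₁A ▸ mor_img_le_normalizerIn hl₁ hPN₁ hN₁N) (hl₁.mem_img_of_mem hx)
  have hl₂N : ∀ x ∈ normalizerIn (normalizerIn S P) (img Q ψ), l₂ x ∈ normalizerIn S A :=
    fun x hx => (hl₂A ▸ mor_img_le_normalizerIn hl₂ hPN₂ hN₂N) (hl₂.mem_img_of_mem hx)
  have hl₁Q : Mor F Q l₁ := hl₁.restrict hQN₁
  have hl₁QB : ∀ x ∈ Q, l₁ x ∈ B := fun x hx => hl₁B ▸ hl₁Q.mem_img_of_mem hx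
  have hl₁PA : ∀ x ∈ P, l₁ x ∈ A := fun x hx => hl₁A ▸ (hl₁.restrict hPN₁).mem_img_of_mem hx
  have hl₂Q'B : ∀ y ∈ img Q ψ, l₂ y ∈ B := fun y hy =>
    hl₂B ▸ (hl₂.restrict hQ'N₂).mem_img_of_mem hy
  have hl₂PA : ∀ x ∈ P, l₂ x ∈ A := fun x hx => hl₂A ▸ (hl₂.restrict hPN₂).mem_img_of_mem hx
  -- the automorphism `μ = l₂ ψ l₁⁻¹` of `B`
  have hμm : Mor F B (l₂ ∘ ψ ∘ invFn Q l₁) := by
    have h1 : Mor F (img Q l₁) (invFn Q l₁) := hl₁Q.inv
    rw [hl₁B] at h1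
    exact (h1.comp hψ (fun y hy => hl₁Q.invFn_mem (hl₁B ▸ hy))).comp (hl₂.restrict hQ'N₂)
      (fun y hy => hψ.mem_img_of_mem (hl₁Q.invFn_mem (hl₁B ▸ hy)))
  have hμval : ∀ x ∈ Q, (l₂ ∘ ψ ∘ invFn Q l₁) (l₁ x) = l₂ (ψ x) := by
    intro x hx
    show l₂ (ψ (invFn Q l₁ (l₁ x))) = _
    rw [hl₁Q.invFn_apply hx]
  have hμB : ∀ b ∈ B, (l₂ ∘ ψ ∘ invFn Q l₁) b ∈ B := by
    intro b hb
    rw [← hl₁B] at hb
    obtain ⟨x, hx, rfl⟩ := hl₁Q.mem_img.mp hb
    rw [hμval x hx]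
    exact hl₂Q'B _ (hψ.mem_img_of_mem hx)
  obtain ⟨μ, hμF, hμ⟩ := exists_aut_of_mor hμm hμB
  have hμstab : μ ∈ stabSub B A := by
    apply mem_stabSub_of_maps hAB
    intro b hbA
    rw [hμ]
    have hbA' := hbA
    rw [← hl₁A] at hbA'
    obtain ⟨x, hx, hxb⟩ := (hl₁.restrict hPN₁).mem_img.mp hbA'
    rw [← hxb, hμval x (hPQ hx)]
    exact hl₂PA _ (hψP x hx)
  -- the image of `c`
  have hc'K : l₁ c ∈ kSub p F A := hl₁A ▸ kSub_map hl₁ hPN₁ hcN₁ hcK
  obtain ⟨hc'S, hc'NA, θc, hθc, hθc'⟩ := hc'K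
  have hc'NB : l₁ c ∈ Subgroup.normalizer (B : Set Ω) := by
    have h := hl₁.map_normalizerIn hQN₁ hcN₁ hcNQ
    rw [hl₁B] at h
    exact h.2
  obtain ⟨γc, hγcF, hγc⟩ := exists_conjAut F hB hc'S hc'NB
  have hγcS : γc ∈ autInducedBy S B := (mem_autInducedBy_iff S B γc).mpr ⟨l₁ c, hc'S, hγc⟩
  have hγcres : ResTo B A γc θc := by
    intro a
    rw [autFun_apply' γc (hAB a.2), hγc, hθc']
  have hγcM : γc ∈ resPre F hAB (opAut p F A) := ⟨hγcF, θc, hθc, hγcres⟩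
  have hΘn : ∀ a ∈ F.autGroup A, ∀ θ ∈ opAut p F A, a * θ * a⁻¹ ∈ opAut p F A :=
    fun a ha θ hθ => pCore_map_conj_mem p (F.autGroup A) ha hθ
  have hbotn : ∀ a ∈ F.autGroup A, ∀ θ ∈ (⊥ : Subgroup (MulAut A)), a * θ * a⁻¹ ∈
      (⊥ : Subgroup (MulAut A)) := by
    intro a _ θ hθ
    rw [Subgroup.mem_bot] at hθ ⊢
    rw [hθ]
    group
  have hDp : IsPGroup p ((Subgroup.zpowers γc).map (MulAut.conj μ).toMonoidHom) :=
    ((isPGroup_autInducedBy hS B).to_le ((Subgroup.zpowers_le).mpr hγcS)).map _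
  have hDM : (Subgroup.zpowers γc).map (MulAut.conj μ).toMonoidHom ≤
      resPre F hAB (opAut p F A) := by
    rintro _ ⟨d, hd, rfl⟩
    exact resPre_conj_mem hB hAB hΘn ⟨hμF, hμstab⟩ ((Subgroup.zpowers_le).mpr hγcM hd)
  obtain ⟨ε, hε, hεD⟩ := sylCard_conj_pQuot hsyl (resPre_mono hAB bot_le)
    (resPre_le_stab hAB (opAut p F A))
    (fun g hg m hm => resPre_conj_mem hB hAB hΘn hg hm)
    (fun g hg c hc => resPre_conj_mem hB hAB hbotn hg hc)
    (fun m hm => resPre_pow_mem hAB (isPGroup_opAut p F A) hm) hDp hDM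
  obtain ⟨hεF, hεres⟩ := mem_resPre_bot.mp hε
  have hεstab : ε ∈ stabSub B A := mem_stabSub_of_resTo hAB hεres
  have hx := (hεD _ ⟨γc, Subgroup.mem_zpowers γc, rfl⟩).1
  have hμ'F : ε * μ ∈ F.autGroup B := Subgroup.mul_mem _ hεF hμF
  have hμ'stab : ε * μ ∈ stabSub B A := Subgroup.mul_mem _ hεstab hμstab
  have hμ'm : Mor F B (autFun B (ε * μ)) := (mem_autGroup_iff F hB _).mp hμ'F
  have hc'ext : l₁ c ∈ extFn S B (autFun B (ε * μ)) := by
    refine mem_extFn_of_aut hB hμ'F hc'S hc'NB (fun γ hγ => ?_)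
    have hγeq : γ = γc := by
      ext b
      rw [hγ, hγc]
    rw [hγeq]
    have e : ε * μ * γc * (ε * μ)⁻¹ = ε * (μ * γc * μ⁻¹) * ε⁻¹ := by group
    rw [e]
    exact hx
  obtain ⟨f₁, hf₁, hf₁B⟩ := receptive_extend' hrec hμ'm (img_autFun (ε * μ))
  -- the larger subgroup
  have hBext : B ≤ extFn S B (autFun B (ε * μ)) := hμ'm.le_extFn
  have hQQ₁ : Q ≤ preSub hl₁ (extFn S B (autFun B (ε * μ))) :=
    fun x hx => ⟨hQN₁ hx, hBext (hl₁QB x hx)⟩
  have hcQ₁ : c ∈ preSub hl₁ (extFn S B (autFun B (ε * μ))) := ⟨hcN₁, hc'ext⟩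
  have hQ₁N₁ : preSub hl₁ (extFn S B (autFun B (ε * μ))) ≤ normalizerIn (normalizerIn S P) Q :=
    fun x hx => hx.1
  have hQ₁S : preSub hl₁ (extFn S B (autFun B (ε * μ))) ≤ S :=
    hQ₁N₁.trans (hN₁N.trans inf_le_left)
  have hfinQ₁ : Finite (preSub hl₁ (extFn S B (autFun B (ε * μ)))) := finite_of_le hQ₁S
  have hlt : Q < preSub hl₁ (extFn S B (autFun B (ε * μ))) :=
    SetLike.lt_iff_le_and_exists.mpr ⟨hQQ₁, c, hcQ₁, hcQ⟩
  have hcardQ₁ := card_lt_of_lt hlt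
  have hl₁Q₁ : Mor F (preSub hl₁ (extFn S B (autFun B (ε * μ)))) l₁ := hl₁.restrict hQ₁N₁
  have hAext : A ≤ extFn S B (autFun B (ε * μ)) := hAB.trans hBext
  have hf₁A : img A f₁ = A := by
    rw [img_congr (fun x hx => hf₁B x (hAB hx))]
    exact img_of_stab hAB hμ'stab
  have hf₁N : ∀ z ∈ preSub hl₁ (extFn S B (autFun B (ε * μ))), f₁ (l₁ z) ∈ normalizerIn S A := by
    intro z hz
    have h := hf₁.map_normalizerIn hAext hz.2 (hl₁N z hz.1).2
    rwa [hf₁A] at h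
  have hψ₁ : Mor F (preSub hl₁ (extFn S B (autFun B (ε * μ)))) (χA ∘ f₁ ∘ l₁) :=
    (hl₁Q₁.comp hf₁ (fun z hz => hz.2)).comp hχA hf₁N
  have hPQ₁ : P ≤ preSub hl₁ (extFn S B (autFun B (ε * μ))) := hPQ.trans hQQ₁
  have hψ₁val : ∀ x ∈ P, (χA ∘ f₁ ∘ l₁) x = χA (l₂ (ψ x)) := by
    intro x hx
    show χA (f₁ (l₁ x)) = χA (l₂ (ψ x))
    have hl₁xB : l₁ x ∈ B := hAB (hl₁PA x hx)
    have h2 : autFun B μ (l₁ x) = l₂ (ψ x) := by
      rw [autFun_apply' μ hl₁xB, hμ]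
      exact hμval x (hPQ hx)
    have h3 : autFun B ε (l₂ (ψ x)) = l₂ (ψ x) := hεres ⟨l₂ (ψ x), hl₂PA _ (hψP x hx)⟩
    rw [hf₁B _ hl₁xB, autFun_mul_apply ε μ hl₁xB, h2, h3]
  have hχAP : ∀ a ∈ A, χA a ∈ P := fun a ha =>
    hχAimg ▸ (hχA.restrict (le_normalizerIn hAS)).mem_img_of_mem ha
  have hρ₂ : Mor F (normalizerIn (normalizerIn S P) (img Q ψ)) (χA ∘ l₂) := hl₂.comp hχA hl₂N
  obtain ⟨ξ₂, hξ₂F, hξ₂⟩ := exists_aut_of_mor (hρ₂.restrict hPN₂)
    (fun x hx => hχAP _ (hl₂PA x hx))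
  have hfinN₂ : Finite (normalizerIn (normalizerIn S P) (img Q ψ)) :=
    finite_of_le (hN₂N.trans inf_le_left)
  have hξ₂E : ξ₂ ∈ ExtSet F P (kSub p F P) (m + 1) := by
    refine ⟨_, _, hPN₂, hN₂N, hρ₂, hξ₂, ?_⟩
    by_cases hQ'eq : img Q ψ = normalizerIn S P
    · right
      intro k hk
      have hk1 : k ∈ normalizerIn S P := kSub_le_normalizerIn p F P hk
      refine ⟨hk1, ?_⟩
      rw [hQ'eq]
      exact Subgroup.le_normalizer hk1
    · left
      have hNPp : IsPGroup p (normalizerIn S P) := hS.to_le inf_le_left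
      have hfinNP : Finite (normalizerIn S P) := finite_of_le inf_le_left
      have h1 := card_lt_of_lt (lt_normalizerIn hNPp (lt_of_le_of_ne hQ'N hQ'eq))
      omega
  obtain ⟨α₁, hα₁F, hα₁⟩ := exists_aut_of_mor (hψ₁.restrict hPQ₁)
    (fun x hx => by rw [hψ₁val x hx]; exact hχAP _ (hl₂PA _ (hψP x hx)))
  have hα₁E : α₁ ∈ ExtSet F P (kSub p F P) (m + 1) :=
    ⟨_, _, hPQ₁, hQ₁N₁.trans hN₁N, hψ₁, hα₁, Or.inl (by omega)⟩
  have h1 : α₁ = ξ₂ * α := by
    ext x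
    show ((α₁ x : P) : Ω) = ((ξ₂ (α x) : P) : Ω)
    rw [hα₁, hψ₁val x x.2, hξ₂, hαψ]
    rfl
  have e : α = ξ₂⁻¹ * α₁ := by
    rw [h1]
    group
  rw [e]
  exact Subgroup.mul_mem _ (Subgroup.inv_mem _ (Subgroup.subset_closure hξ₂E))
    (Subgroup.subset_closure hα₁E)

/-- The automorphisms of `P` that extend to automorphisms of `K` in the system. -/
def resImg (F : FusionSystem S) {K P : Subgroup Ω} (hPK : P ≤ K) : Subgroup (MulAut P) where
  carrier := {α | ∃ δ ∈ F.autGroup K, ResTo K P δ α}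
  mul_mem' := by
    rintro a b ⟨δa, hδa, ha⟩ ⟨δb, hδb, hb⟩
    exact ⟨δa * δb, Subgroup.mul_mem _ hδa hδb, resTo_mul hPK ha hb⟩
  one_mem' := ⟨1, Subgroup.one_mem _, resTo_one hPK⟩
  inv_mem' := by
    rintro a ⟨δa, hδa, ha⟩
    exact ⟨δa⁻¹, Subgroup.inv_mem _ hδa, resTo_inv hPK ha⟩

/-- Every automorphism of a fully normalized `P` in the system extends to an automorphism of
`K(P)` in the system. -/
theorem exists_ext_kSub [Finite S] {p : ℕ} [Fact p.Prime] (hS : IsPGroup p S) {P : Subgroup Ω}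
    (hPS : P < S)
    (H1 : ∀ Q : Subgroup Ω, Q ≤ S → Nat.card P < Nat.card Q →
      ∃ Q', F.IsConj Q Q' ∧ F.IsFullyAutomized p Q' ∧ F.IsReceptive Q')
    (H2 : GenP F P)
    (hfn : ∀ R, F.IsConj P R → Nat.card (normalizerIn S R) ≤ Nat.card (normalizerIn S P)) :
    ∀ α ∈ F.autGroup P, ∃ δ ∈ F.autGroup (kSub p F P), ResTo (kSub p F P) P δ α := by
  have hP : P ≤ S := hPS.le
  have hX := hasNMap_all hS hP H1 H2 hfn
  have hPK : P ≤ kSub p F P := le_kSub hS hP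
  have hKS : kSub p F P ≤ S := (kSub_le_normalizerIn p F P).trans inf_le_left
  have hfinK : Finite (kSub p F P) := finite_of_le hKS
  have hfinP : Finite P := finite_of_le hP
  have h0 := autGroup_le_ext hS (kSub p F P) hPS H2 hX
  have hmono : ∀ m, Nat.card P + 1 ≤ m →
      Subgroup.closure (ExtSet F P (kSub p F P) (Nat.card P + 1)) ≤
        Subgroup.closure (ExtSet F P (kSub p F P) m) := by
    intro m hm
    induction m, hm using Nat.le_induction with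
    | base => exact le_rfl
    | succ m hm ih =>
      exact ih.trans ((Subgroup.closure_le _).mpr (extSet_step hS hP H1 hX (by omega)))
  have hfinal : Subgroup.closure (ExtSet F P (kSub p F P) (Nat.card S + 1)) ≤ resImg F hPK := by
    rw [Subgroup.closure_le]
    rintro α ⟨Q, ψ, hPQ, hQN, hψ, hαψ, hor⟩
    have hKQ : kSub p F P ≤ Q := by
      rcases hor with h | h
      · have := Subgroup.card_le_of_le hψ.le
        omega
      · exact h
    have hψP : ∀ x ∈ P, ψ x ∈ P := fun x hx => by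
      rw [← hαψ ⟨x, hx⟩]
      exact (α ⟨x, hx⟩).2
    have hψPimg : img P ψ = P := (hψ.restrict hPQ).img_eq_self hψP
    have hψK : ∀ k ∈ kSub p F P, ψ k ∈ kSub p F P := fun k hk => by
      have h := kSub_map hψ hPQ (hKQ hk) hk
      rwa [hψPimg] at h
    obtain ⟨δ, hδF, hδ⟩ := exists_aut_of_mor (hψ.restrict hKQ) hψK
    refine ⟨δ, hδF, fun x => ?_⟩
    rw [autFun_apply' δ (hPK x.2), hδ, hαψ]
  intro α hα
  have hcard : Nat.card P + 1 ≤ Nat.card S + 1 := by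
    have := Subgroup.card_le_of_le hP
    omega
  exact hfinal (hmono _ hcard (h0 hα))

/-- Moving a fully normalized member of the class so that `K(P)` is fully automized and receptive
and the pair `P ≤ K(P)` is in Sylow position. -/
theorem exists_good_member [Finite S] {p : ℕ} [Fact p.Prime] (hS : IsPGroup p S)
    {P₁ : Subgroup Ω} (hP₁ : P₁ ≤ S)
    (H1 : ∀ Q : Subgroup Ω, Q ≤ S → Nat.card P₁ < Nat.card Q →
      ∃ Q', F.IsConj Q Q' ∧ F.IsFullyAutomized p Q' ∧ F.IsReceptive Q')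
    (hfn : ∀ R, F.IsConj P₁ R → Nat.card (normalizerIn S R) ≤ Nat.card (normalizerIn S P₁))
    (hK : ¬ kSub p F P₁ ≤ P₁) :
    ∃ P, F.IsConj P₁ P ∧
      (∀ R, F.IsConj P R → Nat.card (normalizerIn S R) ≤ Nat.card (normalizerIn S P)) ∧
      F.IsFullyAutomized p (kSub p F P) ∧ F.IsReceptive (kSub p F P) ∧
      FlagSyl p F (kSub p F P) P := by
  have hPK₁ : P₁ ≤ kSub p F P₁ := le_kSub hS hP₁
  have hK₁N : kSub p F P₁ ≤ normalizerIn S P₁ := kSub_le_normalizerIn p F P₁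
  have hK₁S : kSub p F P₁ ≤ S := hK₁N.trans inf_le_left
  have hfinK₁ : Finite (kSub p F P₁) := finite_of_le hK₁S
  have hcard : Nat.card P₁ < Nat.card (kSub p F P₁) := card_lt_of_lt (lt_of_le_not_ge hPK₁ hK)
  obtain ⟨B, A, ρ, hfa, hrec, hAB, hsyl, hρ, hρB, hρA⟩ := exists_flag hPK₁ (H1 _ hK₁S hcard)
  obtain ⟨l, hl, hlB, hlA⟩ := flag_map hS hrec hAB hsyl hPK₁ hρ hρB hρA
  have hNle : normalizerIn S P₁ ≤ normalizerIn (normalizerIn S P₁) (kSub p F P₁) := fun x hx =>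
    ⟨hx, mem_normalizer_of_finite (fun k hk => kSub_conj_mem hP₁ hx hk)⟩
  have hlN : Mor F (normalizerIn S P₁) l := hl.restrict hNle
  have hP₁N : P₁ ≤ normalizerIn S P₁ := le_normalizerIn hP₁
  have hconj : F.IsConj P₁ A := isConj_iff.mpr ⟨l, hlN.restrict hP₁N, hlA⟩
  have hAS : A ≤ S := hAB.trans hfa.1
  have hfinNA : Finite (normalizerIn S A) := finite_of_le inf_le_left
  have hle : img (normalizerIn S P₁) l ≤ normalizerIn S A :=
    hlA ▸ mor_img_le_normalizerIn hlN hP₁N le_rfl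
  have hcardeq : Nat.card (img (normalizerIn S P₁) l) = Nat.card (normalizerIn S P₁) :=
    hlN.card_img
  have hfnA : ∀ R, F.IsConj A R →
      Nat.card (normalizerIn S R) ≤ Nat.card (normalizerIn S A) := fun R hR =>
    (hfn R (isConj_trans' hconj hR)).trans (by
      rw [← hcardeq]
      exact Subgroup.card_le_of_le hle)
  have hNeq : img (normalizerIn S P₁) l = normalizerIn S A := by
    apply Subgroup.eq_of_le_of_card_ge hle
    rw [hcardeq]
    exact hfn A hconj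
  have hKA : kSub p F A = B := by
    apply le_antisymm
    · intro g hg
      have hgN : g ∈ normalizerIn S A := kSub_le_normalizerIn p F A hg
      rw [← hNeq] at hgN
      obtain ⟨h, hh, rfl⟩ := hlN.mem_img.mp hgN
      have hAle : A ≤ img (normalizerIn S P₁) l := hlA ▸ img_mono' hP₁N l
      have h1 := kSub_map hlN.inv hAle (hlN.mem_img_of_mem hh) hg
      rw [hlN.invFn_apply hh] at h1
      have h2 : img A (invFn (normalizerIn S P₁) l) = P₁ := by
        rw [← hlA]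
        exact img_inv_of_le hlN hP₁N
      rw [h2] at h1
      rw [← hlB]
      exact (hlN.restrict hK₁N).mem_img_of_mem h1
    · intro b hb
      rw [← hlB] at hb
      obtain ⟨k, hk, rfl⟩ := (hlN.restrict hK₁N).mem_img.mp hb
      have h := kSub_map hlN hP₁N (hK₁N hk) hk
      rwa [hlA] at h
  refine ⟨A, hconj, hfnA, ?_, ?_, ?_⟩
  · rw [hKA]
    exact hfa
  · rw [hKA]
    exact hrec
  · rw [hKA]
    exact hsyl

/-- A fully normalized `P` with `K(P)` fully automized and receptive, the pair `P ≤ K(P)` in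
Sylow position, and every automorphism of `P` extending to `K(P)`, is fully automized and
receptive. -/
theorem fa_rec_of_good [Finite S] {p : ℕ} [Fact p.Prime] (hS : IsPGroup p S) {P : Subgroup Ω}
    (hP : P ≤ S) (hX : ∀ R, F.IsConj P R → HasNMap F P R)
    (hfaK : F.IsFullyAutomized p (kSub p F P)) (hrecK : F.IsReceptive (kSub p F P))
    (hsyl : FlagSyl p F (kSub p F P) P)
    (hext : ∀ α ∈ F.autGroup P, ∃ δ ∈ F.autGroup (kSub p F P), ResTo (kSub p F P) P δ α) :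
    F.IsFullyAutomized p P ∧ F.IsReceptive P := by
  have hPK : P ≤ kSub p F P := le_kSub hS hP
  have hKS : kSub p F P ≤ S := (kSub_le_normalizerIn p F P).trans inf_le_left
  have hfinK : Finite (kSub p F P) := finite_of_le hKS
  have hfinP : Finite P := finite_of_le hP
  have hNK : ∀ g ∈ normalizerIn S P, g ∈ Subgroup.normalizer ((kSub p F P : Subgroup Ω) : Set Ω) :=
    fun g hg => mem_normalizer_of_finite (fun k hk => kSub_conj_mem hP hg hk)
  have hbotn : ∀ a ∈ F.autGroup P, ∀ θ ∈ (⊥ : Subgroup (MulAut P)), a * θ * a⁻¹ ∈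
      (⊥ : Subgroup (MulAut P)) := by
    intro a _ θ hθ
    rw [Subgroup.mem_bot] at hθ ⊢
    rw [hθ]
    group
  have hCn : ∀ g ∈ F.autGroup (kSub p F P) ⊓ stabSub (kSub p F P) P, ∀ c ∈ resPre F hPK ⊥,
      g * c * g⁻¹ ∈ resPre F hPK ⊥ := fun g hg c hc => resPre_conj_mem hKS hPK hbotn hg hc
  have hCG₀ : resPre F hPK ⊥ ≤ F.autGroup (kSub p F P) ⊓ stabSub (kSub p F P) P :=
    resPre_le_stab hPK ⊥
  -- restrictions of elements of `T` are induced by `S`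
  have hTres : ∀ t ∈ autInducedBy S (kSub p F P) ⊓ stabSub (kSub p F P) P, ∀ d : MulAut P,
      ResTo (kSub p F P) P t d → d ∈ autInducedBy S P := by
    intro t ht d hres
    obtain ⟨b, hb, htb⟩ := (mem_autInducedBy_iff S _ t).mp ht.1
    refine (mem_autInducedBy_iff S P d).mpr ⟨b, hb, fun x => ?_⟩
    rw [← hres x, autFun_apply' t (hPK x.2), htb]
  constructor
  · -- fully automized
    have hsc : SylCard p (autInducedBy S P) (F.autGroup P) := by
      refine sylCard_of_conj_all (autInducedBy_le_autGroup F hP) (isPGroup_autInducedBy hS P) ?_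
      intro D hDp hDle
      obtain ⟨Sy₀⟩ : Nonempty (Sylow p (resPre F hPK D)) := inferInstance
      have hDG₀ : resPre F hPK D ≤ F.autGroup (kSub p F P) ⊓ stabSub (kSub p F P) P :=
        resPre_le_stab hPK D
      have hT'le : (Sy₀ : Subgroup (resPre F hPK D)).map (resPre F hPK D).subtype ≤
          F.autGroup (kSub p F P) ⊓ stabSub (kSub p F P) P :=
        (Subgroup.map_subtype_le _).trans hDG₀
      obtain ⟨y, hy, hyT⟩ := sylCard_conj hsyl _ hT'le (Sy₀.isPGroup'.map _)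
      obtain ⟨yP, hyP, hyres⟩ := exists_resTo hKS hPK hy.1 hy.2
      have hnorm : ((resPre F hPK ⊥).subgroupOf (resPre F hPK D)).Normal :=
        ⟨fun n hn g => Subgroup.mem_subgroupOf.mpr
          (hCn g (hDG₀ g.2) n (Subgroup.mem_subgroupOf.mp hn))⟩
      refine ⟨yP, hyP, fun d hd => ?_⟩
      obtain ⟨δ, hδF, hδres⟩ := hext d (hDle hd)
      obtain ⟨r, hr, n, hn, hrn⟩ := sylow_mul_of_pQuot_type Sy₀
        ((resPre F hPK ⊥).subgroupOf (resPre F hPK D)) (fun k => by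
          obtain ⟨j, hj⟩ := resPre_pow_mem hPK hDp k.2
          exact ⟨j, Subgroup.mem_subgroupOf.mpr (by simpa using hj)⟩)
        ⟨δ, ⟨hδF, d, hd, hδres⟩⟩
      have hrn' : δ = (r : MulAut (kSub p F P)) * (n : MulAut (kSub p F P)) :=
        congrArg Subtype.val hrn
      have hnres : ResTo (kSub p F P) P (n : MulAut (kSub p F P)) 1 :=
        (mem_resPre_bot.mp (Subgroup.mem_subgroupOf.mp hn)).2
      have hrres : ResTo (kSub p F P) P (r : MulAut (kSub p F P)) d := by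
        have e : (r : MulAut (kSub p F P)) = δ * (n : MulAut (kSub p F P))⁻¹ := by
          rw [hrn']
          group
        rw [e]
        have h := resTo_mul hPK hδres (resTo_inv hPK hnres)
        simpa using h
      have h1 := hyT _ ⟨r, hr, rfl⟩
      exact hTres _ h1 _ (resTo_mul hPK (resTo_mul hPK hyres hrres) (resTo_inv hPK hyres))
    obtain ⟨R, hR⟩ := sylCard_exists hsc
    exact ⟨hP, R, hR⟩
  · -- receptive
    refine isReceptive_of hP (fun R f hf himg => ?_)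
    have hR : F.IsConj P R := isConj_symm' (isConj_iff.mpr ⟨f, hf, himg⟩)
    obtain ⟨χ, hχ, hχimg⟩ := hX R hR
    have hRS : R ≤ S := hf.le
    have hRN : R ≤ normalizerIn S R := le_normalizerIn hRS
    have hχR : Mor F R χ := hχ.restrict hRN
    have hαm : Mor F P (f ∘ invFn R χ) := by
      have h1 := hχR.inv
      rw [hχimg] at h1
      exact h1.comp hf (fun y hy => hχR.invFn_mem (hχimg ▸ hy))
    have hαval : ∀ x ∈ R, (f ∘ invFn R χ) (χ x) = f x := by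
      intro x hx
      show f (invFn R χ (χ x)) = f x
      rw [hχR.invFn_apply hx]
    have hχP : ∀ x ∈ R, χ x ∈ P := fun x hx => hχimg ▸ hχR.mem_img_of_mem hx
    have hfP : ∀ x ∈ R, f x ∈ P := fun x hx => himg ▸ hf.mem_img_of_mem hx
    have hαP : ∀ y ∈ P, (f ∘ invFn R χ) y ∈ P := by
      intro y hy
      rw [← hχimg] at hy
      obtain ⟨x, hx, rfl⟩ := hχR.mem_img.mp hy
      rw [hαval x hx]
      exact hfP x hx
    obtain ⟨α, hαF, hα⟩ := exists_aut_of_mor hαm hαP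
    have hαχ : ∀ x (hx : x ∈ R), ((α ⟨χ x, hχP x hx⟩ : P) : Ω) = f x := fun x hx => by
      rw [hα]
      exact hαval x hx
    obtain ⟨δ₀, hδ₀F, hδ₀res⟩ := hext α hαF
    have hδ₀stab : δ₀ ∈ stabSub (kSub p F P) P := mem_stabSub_of_resTo hPK hδ₀res
    have hEN : extFn S R f ≤ normalizerIn S R := extFn_le S R f
    have hχE : Mor F (extFn S R f) χ := hχ.restrict hEN
    have hE'N : img (extFn S R f) χ ≤ normalizerIn S P :=
      hχimg ▸ mor_img_le_normalizerIn hχE hf.le_extFn hEN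
    have hE'S : img (extFn S R f) χ ≤ S := hE'N.trans inf_le_left
    have hE'p : IsPGroup p (img (extFn S R f) χ) := hS.to_le hE'S
    have hDp : IsPGroup p ((autInducedBy (img (extFn S R f) χ) (kSub p F P)).map
        (MulAut.conj δ₀).toMonoidHom) := (isPGroup_autInducedBy hE'p _).map _
    have hDT : ∀ d ∈ (autInducedBy (img (extFn S R f) χ) (kSub p F P)).map
        (MulAut.conj δ₀).toMonoidHom,
        ∃ t ∈ autInducedBy S (kSub p F P) ⊓ stabSub (kSub p F P) P, ∃ c ∈ resPre F hPK ⊥,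
          d = t * c := by
      rintro _ ⟨γ, hγ, rfl⟩
      obtain ⟨g, hg, hγg⟩ := (mem_autInducedBy_iff _ _ γ).mp hγ
      obtain ⟨a, ha, rfl⟩ := hχE.mem_img.mp hg
      obtain ⟨haS, haN, b, hb, hab⟩ := hf.mem_extFn.mp ha
      have hgNP : χ a ∈ normalizerIn S P := hE'N hg
      have hγF : γ ∈ F.autGroup (kSub p F P) :=
        autInducedBy_le_autGroup F hKS ((mem_autInducedBy_iff S _ γ).mpr ⟨χ a, hgNP.1, hγg⟩)
      have hbN : b ∈ Subgroup.normalizer (P : Set Ω) := by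
        apply mem_normalizer_of_finite
        intro y hy
        rw [← himg] at hy
        obtain ⟨x, hx, rfl⟩ := hf.mem_img.mp hy
        rw [← hab x hx]
        exact hfP _ (conj_mem_of_mem_normalizer haN hx)
      obtain ⟨t, htF, ht⟩ := exists_conjAut F hKS hb (hNK b ⟨hb, hbN⟩)
      have htT : t ∈ autInducedBy S (kSub p F P) ⊓ stabSub (kSub p F P) P :=
        ⟨(mem_autInducedBy_iff S _ t).mpr ⟨b, hb, ht⟩, mem_stabSub_of_maps hPK (fun x hx => by
          rw [ht]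
          exact conj_mem_of_mem_normalizer hbN hx)⟩
      obtain ⟨γP, hγPF, hγP⟩ := exists_conjAut F hP hgNP.1 hgNP.2
      obtain ⟨tP, htPF, htP⟩ := exists_conjAut F hP hb hbN
      have hγres : ResTo (kSub p F P) P γ γP := by
        intro x
        rw [autFun_apply' γ (hPK x.2), hγg, hγP]
      have htres : ResTo (kSub p F P) P t tP := by
        intro x
        rw [autFun_apply' t (hPK x.2), ht, htP]
      have hcomm : α * γP = tP * α := by
        ext z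
        show ((α (γP z) : P) : Ω) = ((tP (α z) : P) : Ω)
        have hz : (z : Ω) ∈ img R χ := by
          rw [hχimg]
          exact z.2
        obtain ⟨x, hx, hxz⟩ := hχR.mem_img.mp hz
        have hz' : z = ⟨χ x, hχP x hx⟩ := Subtype.ext hxz.symm
        have hconj : a * x * a⁻¹ ∈ R := conj_mem_of_mem_normalizer haN hx
        have h1 : γP z = ⟨χ (a * x * a⁻¹), hχP _ hconj⟩ := by
          apply Subtype.ext
          rw [hγP, ← hxz]
          show χ a * χ x * (χ a)⁻¹ = χ (a * x * a⁻¹)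
          have haN' : a ∈ normalizerIn S R := hEN ha
          rw [hχ.map_mul ((normalizerIn S R).mul_mem haN' (hRN hx)) ((normalizerIn S R).inv_mem haN'),
            hχ.map_mul haN' (hRN hx), hχ.map_inv haN']
        rw [h1, hαχ _ hconj, htP, hz', hαχ x hx, hab x hx]
      refine ⟨t, htT, t⁻¹ * (δ₀ * γ * δ₀⁻¹), mem_resPre_bot.mpr ⟨?_, ?_⟩, by
        show δ₀ * γ * δ₀⁻¹ = t * (t⁻¹ * (δ₀ * γ * δ₀⁻¹))
        group⟩
      · exact Subgroup.mul_mem _ (Subgroup.inv_mem _ htF)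
          (Subgroup.mul_mem _ (Subgroup.mul_mem _ hδ₀F hγF) (Subgroup.inv_mem _ hδ₀F))
      · have h := resTo_mul hPK (resTo_inv hPK htres)
          (resTo_mul hPK (resTo_mul hPK hδ₀res hγres) (resTo_inv hPK hδ₀res))
        have e : tP⁻¹ * (α * γP * α⁻¹) = 1 := by
          rw [hcomm]
          group
        rwa [e] at h
    obtain ⟨ε, hε, hεD⟩ := sylCard_conj_normal hsyl hCG₀ hCn hDp hDT
    obtain ⟨hεF, hεres⟩ := mem_resPre_bot.mp hε
    have hδF : ε * δ₀ ∈ F.autGroup (kSub p F P) := Subgroup.mul_mem _ hεF hδ₀F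
    have hg' : ∀ g ∈ img (extFn S R f) χ, g ∈ extFn S (kSub p F P) (autFun (kSub p F P) (ε * δ₀)) := by
      intro g hg
      have hgN := hE'N hg
      refine mem_extFn_of_aut hKS hδF hgN.1 (hNK g hgN) (fun γ hγ => ?_)
      have hγD : γ ∈ autInducedBy (img (extFn S R f) χ) (kSub p F P) :=
        (mem_autInducedBy_iff _ _ γ).mpr ⟨g, hg, hγ⟩
      have h1 := (hεD _ ⟨γ, hγD, rfl⟩).1
      have e : ε * δ₀ * γ * (ε * δ₀)⁻¹ = ε * (δ₀ * γ * δ₀⁻¹) * ε⁻¹ := by group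
      rw [e]
      exact h1
    obtain ⟨f₁, hf₁, hf₁K⟩ := receptive_extend' hrecK ((mem_autGroup_iff F hKS _).mp hδF)
      (img_autFun (ε * δ₀))
    refine ⟨f₁ ∘ χ, hχE.comp hf₁ (fun a ha => hg' (χ a) (hχE.mem_img_of_mem ha)), fun x hx => ?_⟩
    show f₁ (χ x) = f x
    have hχxP : χ x ∈ P := hχP x hx
    have h1 : autFun (kSub p F P) δ₀ (χ x) = f x := by
      rw [hδ₀res ⟨χ x, hχxP⟩]
      exact hαχ x hx
    rw [hf₁K _ (hPK hχxP), autFun_mul_apply ε δ₀ (hPK hχxP), h1]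
    exact hεres ⟨f x, hfP x hx⟩

/-- The inductive step of the saturation criterion: if all strictly larger subgroups have fully
automized receptive conjugates, the maps with source in the class of `P₀` are generated by maps
defined on strictly larger subgroups, and some member `Q` of the class has `K(Q) ≠ Q`, then the
class of `P₀` contains a fully automized receptive member. -/
theorem exists_fa_rec_of_gen [Finite S] {p : ℕ} [Fact p.Prime] (hS : IsPGroup p S)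
    {P₀ : Subgroup Ω} (hP₀ : P₀ ≤ S)
    (H1 : ∀ Q : Subgroup Ω, Q ≤ S → Nat.card P₀ < Nat.card Q →
      ∃ Q', F.IsConj Q Q' ∧ F.IsFullyAutomized p Q' ∧ F.IsReceptive Q')
    (H2 : GenP F P₀) (H3 : ∃ Q, F.IsConj P₀ Q ∧ ¬ kSub p F Q ≤ Q) :
    ∃ Q, F.IsConj P₀ Q ∧ F.IsFullyAutomized p Q ∧ F.IsReceptive Q := by
  have hleS : ∀ {P R : Subgroup Ω}, F.IsConj P R → R ≤ S := by
    intro P R h
    obtain ⟨f, hf, hfimg⟩ := isConj_iff.mp h
    exact hfimg ▸ hf.img_le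
  obtain ⟨P₁, hc₁, hfn₁⟩ := exists_fullyNormalized_conj F hP₀
  have hP₁ : P₁ ≤ S := hfn₁.1
  have hcard₁ : Nat.card P₁ = Nat.card P₀ := card_eq_of_isConj hc₁
  have H1₁ : ∀ Q : Subgroup Ω, Q ≤ S → Nat.card P₁ < Nat.card Q →
      ∃ Q', F.IsConj Q Q' ∧ F.IsFullyAutomized p Q' ∧ F.IsReceptive Q' :=
    fun Q hQ h => H1 Q hQ (hcard₁ ▸ h)
  have H2₁ : GenP F P₁ := genP_of_isConj H2 hc₁
  have hX₁ := hasNMap_all hS hP₁ H1₁ H2₁ hfn₁.2
  obtain ⟨Q, hQc, hQK⟩ := H3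
  obtain ⟨g, hgK, hgQ⟩ := SetLike.not_le_iff_exists.mp hQK
  have hQ₁ : F.IsConj P₁ Q := isConj_trans' (isConj_symm' hc₁) hQc
  obtain ⟨χ, hχ, hχimg⟩ := hX₁ Q hQ₁
  have hQS : Q ≤ S := hleS hQc
  have hgN : g ∈ normalizerIn S Q := kSub_le_normalizerIn p F Q hgK
  have hK₁ : ¬ kSub p F P₁ ≤ P₁ := by
    intro hle
    have h1 := kSub_map hχ (le_normalizerIn hQS) hgN hgK
    rw [hχimg] at h1
    have h2 := hle h1
    rw [← hχimg] at h2
    obtain ⟨q, hq, hqg⟩ := (hχ.restrict (le_normalizerIn hQS)).mem_img.mp h2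
    have h3 := hχ.inj (le_normalizerIn hQS hq) hgN hqg
    exact hgQ (h3 ▸ hq)
  obtain ⟨P, hc, hfn, hfaK, hrecK, hsyl⟩ := exists_good_member hS hP₁ H1₁ hfn₁.2 hK₁
  have hP : P ≤ S := hleS hc
  have hcard : Nat.card P = Nat.card P₁ := card_eq_of_isConj hc
  have H1' : ∀ Q : Subgroup Ω, Q ≤ S → Nat.card P < Nat.card Q →
      ∃ Q', F.IsConj Q Q' ∧ F.IsFullyAutomized p Q' ∧ F.IsReceptive Q' :=
    fun Q hQ h => H1₁ Q hQ (hcard ▸ h)
  have H2' : GenP F P := genP_of_isConj H2₁ hc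
  have hPS : P < S := by
    refine lt_of_le_of_ne hP (fun h => ?_)
    have hK₁S : kSub p F P₁ ≤ S := (kSub_le_normalizerIn p F P₁).trans inf_le_left
    have hfinK₁ : Finite (kSub p F P₁) := finite_of_le hK₁S
    have h1 : Nat.card P₁ < Nat.card (kSub p F P₁) :=
      card_lt_of_lt (lt_of_le_not_ge (le_kSub hS hP₁) hK₁)
    have h2 : Nat.card (kSub p F P₁) ≤ Nat.card S := Subgroup.card_le_of_le hK₁S
    rw [h] at hcard
    omega
  have hX := hasNMap_all hS hP H1' H2' hfn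
  have hext := exists_ext_kSub hS hPS H1' H2' hfn
  obtain ⟨hfa, hrec⟩ := fa_rec_of_good hS hP hX hfaK hrecK hsyl hext
  exact ⟨P, isConj_trans' hc₁ hc, hfa, hrec⟩

end Cfsg.Agent.Lib.Helper88
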