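import Cfsg.Agent.Lib.Helper91.SylCard
import Cfsg.Agent.Lib.Helper90.Closed

set_option autoImplicit false

namespace Cfsg.Agent.Lib.Helper88

open Cfsg Cfsg.Agent.Lib.Helper91

section abs

variable {G : Type*} [Group G] [Finite G] {p : ℕ} [Fact p.Prime] {T G₀ C M D : Subgroup G}

/-- A `p`-subgroup `T` of `G₀` into which every `p`-subgroup of `G₀` can be conjugated is a Sylow
`p`-subgroup of `G₀`. -/
theorem sylCard_of_conj_all (hT : T ≤ G₀) (hTp : IsPGroup p T)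
    (h : ∀ D : Subgroup G, IsPGroup p D → D ≤ G₀ → ∃ y ∈ G₀, ∀ d ∈ D, y * d * y⁻¹ ∈ T) :
    SylCard p T G₀ := by
  have hp : p.Prime := Fact.out
  refine ⟨hT, ?_⟩
  obtain ⟨R⟩ : Nonempty (Sylow p G₀) := inferInstance
  obtain ⟨y, -, hy⟩ := h ((R : Subgroup G₀).map G₀.subtype) (R.isPGroup'.map _)
    (Subgroup.map_subtype_le _)
  have hle : Nat.card R ≤ Nat.card T := by
    apply Nat.card_le_card_of_injective (fun r : R =>
      (⟨y * ((r : G₀) : G) * y⁻¹, hy _ ⟨r, r.2, rfl⟩⟩ : T))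
    intro r₁ r₂ hr
    have h1 : y * ((r₁ : G₀) : G) * y⁻¹ = y * ((r₂ : G₀) : G) * y⁻¹ := congrArg Subtype.val hr
    exact Subtype.ext (Subtype.ext (mul_left_cancel (mul_right_cancel h1)))
  have hRcard : Nat.card R = p ^ (Nat.card G₀).factorization p := R.card_eq_multiplicity
  obtain ⟨b, hb⟩ := IsPGroup.iff_card.mp hTp
  have hdvd : p ^ b ∣ Nat.card G₀ := hb ▸ Subgroup.card_dvd_of_le hT
  have hb2 : b ≤ (Nat.card G₀).factorization p :=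
    (hp.pow_dvd_iff_le_factorization Nat.card_pos.ne').mp hdvd
  rw [hb, hRcard] at hle
  have hb3 := (Nat.pow_le_pow_iff_right hp.one_lt).mp hle
  rw [hb]
  congr 1
  omega

/-- A `p`-subgroup of `G₀` containing a Sylow `p`-subgroup of `G₀` is one. -/
theorem sylCard_of_le {T' : Subgroup G} (h : SylCard p T G₀) (hTT' : T ≤ T') (hT' : T' ≤ G₀)
    (hT'p : IsPGroup p T') : SylCard p T' G₀ := by
  have hp : p.Prime := Fact.out
  refine ⟨hT', ?_⟩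
  obtain ⟨b, hb⟩ := IsPGroup.iff_card.mp hT'p
  have hdvd : p ^ b ∣ Nat.card G₀ := hb ▸ Subgroup.card_dvd_of_le hT'
  have hb2 : b ≤ (Nat.card G₀).factorization p :=
    (hp.pow_dvd_iff_le_factorization Nat.card_pos.ne').mp hdvd
  have hle : Nat.card T ≤ Nat.card T' := Subgroup.card_le_of_le hTT'
  rw [hb, h.2] at hle
  have hb3 := (Nat.pow_le_pow_iff_right hp.one_lt).mp hle
  rw [hb]
  congr 1
  omega

/-- Conjugating into a Sylow subgroup by an element of a normal subgroup `C`, for `p`-subgroups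
contained in `T C`. -/
theorem sylCard_conj_normal (h : SylCard p T G₀) (hC : C ≤ G₀)
    (hCn : ∀ g ∈ G₀, ∀ c ∈ C, g * c * g⁻¹ ∈ C) (hD : IsPGroup p D)
    (hDT : ∀ d ∈ D, ∃ t ∈ T, ∃ c ∈ C, d = t * c) :
    ∃ ε ∈ C, ∀ d ∈ D, ε * d * ε⁻¹ ∈ T := by
  have hTH : T ≤ T ⊔ C := le_sup_left
  have hH : T ⊔ C ≤ G₀ := sup_le h.1 hC
  have hsyl : SylCard p T (T ⊔ C) := sylCard_mono h hTH hH
  have hDH : D ≤ T ⊔ C := by
    intro d hd
    obtain ⟨t, ht, c, hc, rfl⟩ := hDT d hd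
    exact Subgroup.mul_mem _ (hTH ht) (le_sup_right (a := T) hc)
  obtain ⟨k, hk, hkD⟩ := sylCard_conj hsyl D hDH hD
  obtain ⟨t, ht, c, hc, rfl⟩ := Cfsg.Agent.Lib.Helper90.exists_mul_of_mem_sup
    (fun x hx q hq => hCn x (h.1 hx) q hq) hk
  refine ⟨c, hc, fun d hd => ?_⟩
  have h1 := hkD d hd
  have h2 : c * d * c⁻¹ = t⁻¹ * (t * c * d * (t * c)⁻¹) * t := by group
  rw [h2]
  exact T.mul_mem (T.mul_mem (T.inv_mem ht) h1) ht

/-- If `M` is normal in `G₀` and `M / C` is a `p`-group then `M ⊆ T C` for a Sylow `p`-subgroup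
`T` of `G₀`. -/
theorem sylCard_mul_of_pQuot (h : SylCard p T G₀) (hM : M ≤ G₀)
    (hMn : ∀ g ∈ G₀, ∀ m ∈ M, g * m * g⁻¹ ∈ M) (hCn : ∀ g ∈ M, ∀ c ∈ C, g * c * g⁻¹ ∈ C)
    (hpq : ∀ m ∈ M, ∃ j : ℕ, m ^ (p ^ j) ∈ C) :
    ∀ m ∈ M, ∃ t ∈ T, ∃ c ∈ C, m = t * c := by
  have hsylM : SylCard p (T ⊓ M) M := sylCard_inf h hM hMn
  obtain ⟨R, hR⟩ := sylCard_exists hsylM
  have : (C.subgroupOf M).Normal :=
    ⟨fun n hn k => Subgroup.mem_subgroupOf.mpr (hCn k k.2 n (Subgroup.mem_subgroupOf.mp hn))⟩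
  intro m hm
  obtain ⟨r, hr, n, hn, hrn⟩ := sylow_mul_of_pQuot_type R (C.subgroupOf M) (fun k => by
    obtain ⟨j, hj⟩ := hpq k k.2
    exact ⟨j, Subgroup.mem_subgroupOf.mpr (by simpa using hj)⟩) ⟨m, hm⟩
  have hr' : r ∈ (R : Subgroup M) := hr
  rw [hR] at hr'
  refine ⟨r, (Subgroup.mem_subgroupOf.mp hr').1, n, Subgroup.mem_subgroupOf.mp hn, ?_⟩
  exact congrArg Subtype.val hrn

/-- Combination: a `p`-subgroup of a normal subgroup `M` with `M / C` a `p`-group is conjugate into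
the Sylow subgroup `T` by an element of `C`. -/
theorem sylCard_conj_pQuot (h : SylCard p T G₀) (hCM : C ≤ M) (hM : M ≤ G₀)
    (hMn : ∀ g ∈ G₀, ∀ m ∈ M, g * m * g⁻¹ ∈ M) (hCn : ∀ g ∈ G₀, ∀ c ∈ C, g * c * g⁻¹ ∈ C)
    (hpq : ∀ m ∈ M, ∃ j : ℕ, m ^ (p ^ j) ∈ C) (hD : IsPGroup p D) (hDM : D ≤ M) :
    ∃ ε ∈ C, ∀ d ∈ D, ε * d * ε⁻¹ ∈ T :=
  sylCard_conj_normal h (hCM.trans hM) hCn hD (fun d hd =>
    sylCard_mul_of_pQuot h hM hMn (fun g hg => hCn g (hM hg)) hpq d (hDM hd))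

end abs

end Cfsg.Agent.Lib.Helper88
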