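import Cfsg.Agent.S3082
import Cfsg.Agent.S0071
import Cfsg.Agent.Lib.Helper2.Frob
import Cfsg.Agent.Lib.Helper88.Realize

/-!
# The Glauberman–Thompson criterion for a realized fusion system (the "group" step)

`F` a fusion system over `S` realized by `ι : S →* G` with `ι(S)` a Sylow `p`-subgroup of the
finite group `G`, `p` odd, `D` strongly closed in `F`.  If no nontrivial automorphism of order
prime to `p` of a subgroup containing `Z(J(D))` normalizes `Z(J(D))`, then `F` is the inner system.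
-/

set_option autoImplicit false

namespace Cfsg.Agent.Lib.Helper88

open Cfsg Cfsg.FusionSystem Cfsg.Agent.Lib.Helper90

universe u

section ZJCons

variable {Ω : Type u} [Group Ω] {S : Subgroup Ω} {F : FusionSystem S}

/-- `Z(J(ι D))` is the image of `Z(J(D))`. -/
theorem ctA_map_iota {G : Type u} [Group G] {ι : S →* G} (hinj : Function.Injective ι)
    {D : Subgroup Ω} (hD : D ≤ S) :
    centerThompsonAOf ((D.subgroupOf S).map ι) =
      ((centerThompsonAOf D).subgroupOf S).map ι := by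
  have h1 := Cfsg.Agent.Lib.Helper3.ZJ.ctA_map ι (D.subgroupOf S)
    (fun u _ h => hinj (h.trans (map_one ι).symm))
  have h2 := Cfsg.Agent.Lib.Helper3.ZJ.ctA_map S.subtype (D.subgroupOf S)
    (fun u _ h => Subgroup.subtype_injective S (h.trans (map_one S.subtype).symm))
  rw [Subgroup.map_subgroupOf_eq_of_le hD] at h2
  rw [h1, h2]
  congr 1
  exact (Subgroup.comap_map_eq_self_of_injective (Subgroup.subtype_injective S) _).symm

/-- **The group step.** A fusion system realized on a Sylow `p`-subgroup of a finite group, `p`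
odd, `D` strongly closed: if no nontrivial `p'`-automorphism normalizes `Z(J(D))`, the system is
inner. -/
theorem inner_of_realized_of_noPAut [Finite S] {p : ℕ} [Fact p.Prime] (hp : p ≠ 2)
    {G : Type u} [Group G] [Finite G] (ι : S →* G) (hι : F.IsRealizedBy ι) (T : Sylow p G)
    (hT : (T : Subgroup G) = ι.range) (D : Subgroup Ω) (hD : F.StronglyClosed D)
    (hN : NoPAut F p (centerThompsonAOf D)) :
    ∀ (P : Subgroup Ω) (f : Ω → Ω), Mor F P f → ∃ a ∈ S, ∀ x ∈ P, f x = a * x * a⁻¹ := by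
  classical
  have hinj := hι.1
  set D' : Subgroup G := (D.subgroupOf S).map ι with hD'
  set Z : Subgroup Ω := centerThompsonAOf D with hZ
  have hZ' : centerThompsonAOf D' = (Z.subgroupOf S).map ι := ctA_map_iota hinj hD.1
  have hZS : Z ≤ S := (Cfsg.Agent.Lib.Helper3.ZJ.ctA_le D).trans hD.1
  have hmemD' : ∀ y : G, y ∈ D' ↔ ∃ s : S, (s : Ω) ∈ D ∧ ι s = y := by
    intro y
    constructor
    · rintro ⟨s, hs, rfl⟩
      exact ⟨s, Subgroup.mem_subgroupOf.mp hs, rfl⟩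
    · rintro ⟨s, hs, rfl⟩
      exact ⟨s, Subgroup.mem_subgroupOf.mpr hs, rfl⟩
  have hD'T : D' ≤ (T : Subgroup G) := by
    rw [hT]
    rintro _ ⟨s, -, rfl⟩
    exact ⟨s, rfl⟩
  -- Step 1: `D'` is strongly closed in `T` with respect to `G`
  have hsc : Cfsg.IsStronglyClosed D' (T : Subgroup G) := by
    refine ⟨hD'T, ?_⟩
    intro x hx g hgx
    obtain ⟨d, hd, rfl⟩ := (hmemD' x).mp hx
    rw [hT] at hgx
    have hPS : Subgroup.zpowers (d : Ω) ≤ S := by
      rw [Subgroup.zpowers_le]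
      exact d.2
    have hg : ∀ y (hy : y ∈ Subgroup.zpowers (d : Ω)), g * ι ⟨y, hPS hy⟩ * g⁻¹ ∈ ι.range := by
      intro y hy
      obtain ⟨k, rfl⟩ := Subgroup.mem_zpowers_iff.mp hy
      have e1 : (⟨(d : Ω) ^ k, hPS hy⟩ : S) = d ^ k := Subtype.ext (by simp)
      rw [e1, map_zpow]
      have e2 : g * ι d ^ k * g⁻¹ = (g * ι d * g⁻¹) ^ k := by
        rw [conj_zpow]
      rw [e2]
      exact Subgroup.zpow_mem _ hgx k
    obtain ⟨f, hf, hfι⟩ := exists_mor_of_realized hι hPS g hg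
    obtain ⟨hfx, hfe⟩ := hfι (d : Ω) (Subgroup.mem_zpowers _)
    have hfD : f (d : Ω) ∈ D :=
      stronglyClosed_mor_mem hD hf (by rw [Subgroup.zpowers_le]; exact hd)
        (Subgroup.mem_zpowers _)
    rw [hmemD']
    exact ⟨⟨f d, hfx⟩, hfD, hfe⟩
  -- Step 2: `T` normalizes `Z(J(D'))`
  set H : Subgroup G := Subgroup.normalizer ((centerThompsonAOf D' : Subgroup G) : Set G) with hH
  have hTH : (T : Subgroup G) ≤ H := by
    intro t ht
    apply mem_normalizer_of_map_conj_eq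
    have hinjc : ∀ u ∈ D', (MulAut.conj t).toMonoidHom u = 1 → u = 1 := by
      intro u _ h
      have h' : t * u * t⁻¹ = 1 := h
      exact conj_eq_one_iff.mp h'
    have h1 := Cfsg.Agent.Lib.Helper3.ZJ.ctA_map (MulAut.conj t).toMonoidHom D' hinjc
    have h2 : D'.map (MulAut.conj t).toMonoidHom = D' := by
      apply map_conj_eq_of_mem_normalizer
      rw [Subgroup.mem_normalizer_iff]
      intro x
      constructor
      · intro hx
        exact hsc.2 x hx t (T.1.mul_mem (T.1.mul_mem ht (hD'T hx)) (T.1.inv_mem ht))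
      · intro hx
        have h3 : t⁻¹ * (t * x * t⁻¹) * t⁻¹⁻¹ ∈ (T : Subgroup G) :=
          T.1.mul_mem (T.1.mul_mem (T.1.inv_mem ht) (hD'T hx)) (T.1.inv_mem (T.1.inv_mem ht))
        have h4 := hsc.2 _ hx t⁻¹ h3
        have e : t⁻¹ * (t * x * t⁻¹) * t⁻¹⁻¹ = x := by group
        rwa [e] at h4
    rw [h2] at h1
    exact h1.symm
  have hZ'T : centerThompsonAOf D' ≤ (T : Subgroup G) :=
    (Cfsg.Agent.Lib.Helper3.ZJ.ctA_le D').trans hD'T
  -- Step 3: the Frobenius condition in `H`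
  let TH : Sylow p H := T.subtype hTH
  have hfrob : ∀ Q : Subgroup H, Q ≤ (TH : Subgroup H) →
      ∀ g ∈ Subgroup.normalizer (Q : Set H), Nat.Coprime (orderOf g) p →
        g ∈ Subgroup.centralizer (Q : Set H) := by
    intro Q hQ g hgQ hcop
    set Q₀ : Subgroup G := Q.map H.subtype with hQ₀
    have hQ₀T : Q₀ ≤ (T : Subgroup G) := by
      rintro _ ⟨q, hq, rfl⟩
      have h1 : q ∈ (TH : Subgroup H) := hQ hq
      rw [Sylow.coe_subtype] at h1
      exact Subgroup.mem_subgroupOf.mp h1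
    set A : Subgroup G := Q₀ ⊔ centerThompsonAOf D' with hA
    have hAT : A ≤ (T : Subgroup G) := sup_le hQ₀T hZ'T
    have hgA : A.map (MulAut.conj (g : G)).toMonoidHom = A := by
      rw [hA, Subgroup.map_sup]
      congr 1
      · apply map_conj_eq_of_mem_normalizer
        rw [Subgroup.mem_normalizer_iff] at hgQ ⊢
        intro x
        constructor
        · rintro ⟨q, hq, rfl⟩
          exact ⟨g * q * g⁻¹, (hgQ q).mp hq, rfl⟩
        · rintro ⟨q', hq', hqe⟩
          refine ⟨g⁻¹ * q' * g, ?_, ?_⟩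
          · apply (hgQ _).mpr
            have e : g * (g⁻¹ * q' * g) * g⁻¹ = q' := by group
            rw [e]
            exact hq'
          · have e : x = (g : G)⁻¹ * ((g : G) * x * (g : G)⁻¹) * (g : G) := by group
            rw [e, ← hqe]
            rfl
      · exact map_conj_eq_of_mem_normalizer g.2
    set P₁ : Subgroup Ω := preIota ι A with hP₁
    have hP₁S : P₁ ≤ S := preIota_le ι A
    have hmemA : ∀ x (hx : x ∈ P₁), ι ⟨x, hP₁S hx⟩ ∈ A := fun x hx => (mem_preIota.mp hx).2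
    have hconjA : ∀ y ∈ A, (g : G) * y * (g : G)⁻¹ ∈ A := by
      intro y hy
      rw [← hgA]
      exact ⟨y, hy, rfl⟩
    have hgr : ∀ x (hx : x ∈ P₁), (g : G) * ι ⟨x, hP₁S hx⟩ * (g : G)⁻¹ ∈ ι.range := by
      intro x hx
      rw [← hT]
      exact hAT (hconjA _ (hmemA x hx))
    obtain ⟨f, hf, hfι⟩ := exists_mor_of_realized hι hP₁S (g : G) hgr
    have hfP : ∀ x ∈ P₁, f x ∈ P₁ := by
      intro x hx
      obtain ⟨hfx, hfe⟩ := hfι x hx
      exact mem_preIota.mpr ⟨hfx, hfe ▸ hconjA _ (hmemA x hx)⟩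
    have hZA : ∀ x (hx : x ∈ Z), ι ⟨x, hZS hx⟩ ∈ centerThompsonAOf D' := by
      intro x hx
      rw [hZ']
      exact ⟨⟨x, hZS hx⟩, Subgroup.mem_subgroupOf.mpr hx, rfl⟩
    have hZP : Z ≤ P₁ := by
      intro x hx
      exact mem_preIota.mpr ⟨hZS hx, (le_sup_right : centerThompsonAOf D' ≤ A) (hZA x hx)⟩
    have hfZ : ∀ x ∈ Z, f x ∈ Z := by
      intro x hx
      obtain ⟨hfx, hfe⟩ := hfι x (hZP hx)
      have h2 : (g : G) * ι ⟨x, hZS hx⟩ * (g : G)⁻¹ ∈ centerThompsonAOf D' :=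
        (Subgroup.mem_normalizer_iff.mp g.2 _).mp (hZA x hx)
      rw [← hfe, hZ'] at h2
      obtain ⟨s, hs, hse⟩ := h2
      have h3 : s = ⟨f x, hfx⟩ := hinj hse
      rw [h3] at hs
      exact Subgroup.mem_subgroupOf.mp hs
    have hiter : ∀ n : ℕ, ∀ x (hx : x ∈ P₁), ∃ h : f^[n] x ∈ P₁,
        ι ⟨f^[n] x, hP₁S h⟩ = (g : G) ^ n * ι ⟨x, hP₁S hx⟩ * ((g : G) ^ n)⁻¹ := by
      intro n
      induction n with
      | zero =>
        intro x hx
        exact ⟨hx, by simp⟩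
      | succ n ih =>
        intro x hx
        obtain ⟨h1, h2⟩ := ih x hx
        have h3 : f^[n + 1] x = f (f^[n] x) := Function.iterate_succ_apply' f n x
        obtain ⟨hfx, hfe⟩ := hfι _ h1
        have h4 : f^[n + 1] x ∈ P₁ := h3 ▸ hfP _ h1
        refine ⟨h4, ?_⟩
        have e : (⟨f^[n + 1] x, hP₁S h4⟩ : S) = ⟨f (f^[n] x), hfx⟩ := Subtype.ext h3
        rw [e, hfe, h2, pow_succ']
        group
    have hfm : ∀ x ∈ P₁, f^[orderOf g] x = x := by
      intro x hx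
      obtain ⟨h1, h2⟩ := hiter (orderOf g) x hx
      have hg1 : (g : G) ^ orderOf g = 1 := by
        have h6 : ((g ^ orderOf g : H) : G) = ((1 : H) : G) :=
          congrArg Subtype.val (pow_orderOf_eq_one g)
        rw [Subgroup.coe_pow, Subgroup.coe_one] at h6
        exact h6
      rw [hg1] at h2
      have h3 : ι ⟨f^[orderOf g] x, hP₁S h1⟩ = ι ⟨x, hP₁S hx⟩ := by simpa using h2
      exact congrArg Subtype.val (hinj h3)
    have hid := hN P₁ f (orderOf g) hZP hf hfP hfZ hcop hfm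
    rw [Subgroup.mem_centralizer_iff]
    intro q hq
    have hq₀ : (q : G) ∈ Q₀ := ⟨q, hq, rfl⟩
    have hqr : (q : G) ∈ ι.range := hT ▸ hQ₀T hq₀
    obtain ⟨s, hs⟩ := hqr
    have hsA : ι ⟨(s : Ω), s.2⟩ ∈ A := by
      have e : (⟨(s : Ω), s.2⟩ : S) = s := rfl
      rw [e, hs]
      exact (le_sup_left : Q₀ ≤ A) hq₀
    have hsP : (s : Ω) ∈ P₁ := mem_preIota.mpr ⟨s.2, hsA⟩
    obtain ⟨hfx, hfe⟩ := hfι _ hsP
    have h1 : (⟨f s, hfx⟩ : S) = s := Subtype.ext (hid _ hsP)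
    rw [h1] at hfe
    have h2 : (q : G) = (g : G) * q * (g : G)⁻¹ := by
      rw [← hs]
      exact hfe
    apply Subtype.ext
    show (q : G) * g = g * q
    calc (q : G) * g = ((g : G) * q * (g : G)⁻¹) * g := by rw [← h2]
      _ = g * q := by group
  -- Step 4: `N_G(Z(J(D')))` has a normal `p`-complement, hence so does `G`
  obtain ⟨N₀, hN₀, hc₀⟩ := (Cfsg.Agent.S0071.result TH).mpr hfrob
  have hnpcH : Cfsg.HasNormalPComplement p H := ⟨TH, N₀, hN₀, hc₀⟩
  obtain ⟨P', N₁, hN₁, hc₁⟩ := Cfsg.Agent.S3082.result hp T D' hsc (Or.inl hnpcH)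
  have := hN₁
  obtain ⟨N, hNn, hc⟩ := (Cfsg.Agent.S0071.result T).mpr (fun Q hQ g hg hcop =>
    Cfsg.Agent.Lib.Helper2.mem_centralizer_of_isComplement' P' N₁ hc₁ Q
      (T.isPGroup'.to_le hQ) g hg hcop)
  -- Step 5: every map of the system is a conjugation by an element of `S`
  intro P f hf
  obtain ⟨g, hg⟩ := exists_conj_of_mor hι hf
  obtain ⟨⟨n, t⟩, hnt, -⟩ := (Subgroup.isComplement'_def.mp hc).existsUnique g
  have hnt' : (n : G) * (t : G) = g := hnt
  have htr : (t : G) ∈ ι.range := hT ▸ t.2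
  obtain ⟨a, ha⟩ := htr
  refine ⟨a, a.2, fun x hx => ?_⟩
  have h1 := hg x hx
  set y : G := (t : G) * ι ⟨x, hf.le hx⟩ * (t : G)⁻¹ with hy
  have hyT : y ∈ (T : Subgroup G) := by
    refine T.1.mul_mem (T.1.mul_mem t.2 ?_) (T.1.inv_mem t.2)
    rw [hT]
    exact ⟨_, rfl⟩
  have h2 : ι ⟨f x, hf.mem hx⟩ = (n : G) * y * (n : G)⁻¹ := by
    rw [h1, ← hnt', hy]
    group
  have h3 : (n : G) * y * (n : G)⁻¹ * y⁻¹ ∈ N ⊓ (T : Subgroup G) := by
    refine ⟨?_, ?_⟩
    · have e : (n : G) * y * (n : G)⁻¹ * y⁻¹ = (n : G) * (y * (n : G)⁻¹ * y⁻¹) := by group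
      rw [e]
      exact N.mul_mem n.2 (hNn.conj_mem _ (N.inv_mem n.2) y)
    · refine T.1.mul_mem ?_ (T.1.inv_mem hyT)
      rw [← h2, hT]
      exact ⟨_, rfl⟩
  rw [hc.disjoint.eq_bot, Subgroup.mem_bot] at h3
  have h4 : (n : G) * y * (n : G)⁻¹ = y := by
    have e : (n : G) * y * (n : G)⁻¹ = ((n : G) * y * (n : G)⁻¹ * y⁻¹) * y := by group
    rw [e, h3, one_mul]
  rw [h4, hy, ← ha] at h2
  have h5 : ι ⟨f x, hf.mem hx⟩ = ι (a * ⟨x, hf.le hx⟩ * a⁻¹) := by
    rw [h2, map_mul, map_mul, map_inv]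
  exact congrArg Subtype.val (hinj h5)

end ZJCons

end Cfsg.Agent.Lib.Helper88
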